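import Mathlib.GroupTheory.Coset.Card
import Mathlib.GroupTheory.Index
import Mathlib.Algebra.Group.Subgroup.Pointwise
import Mathlib.Data.Set.Card
import Mathlib.GroupTheory.Sylow

/-! Cardinality of products of subgroups. -/

set_option autoImplicit false

namespace H55.ProdCard

open scoped Pointwise

variable {G : Type*} [Group G]

theorem card_image_mk (H K : Subgroup G) :
    Nat.card ((fun g : G => (QuotientGroup.mk g : G ⧸ K)) '' (H : Set G)) =
      Nat.card (H ⧸ K.subgroupOf H) := by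
  symm
  let f : H ⧸ K.subgroupOf H → ((fun g : G => (QuotientGroup.mk g : G ⧸ K)) '' (H : Set G)) :=
    Quotient.lift (fun h : H => ⟨QuotientGroup.mk (h : G), ⟨(h : G), h.2, rfl⟩⟩) (by
      intro a b hab
      have h1 : a⁻¹ * b ∈ K.subgroupOf H := QuotientGroup.leftRel_apply.1 hab
      have h2 : (a : G)⁻¹ * b ∈ K := by simpa [Subgroup.mem_subgroupOf] using h1
      exact Subtype.ext (QuotientGroup.eq.2 h2))
  refine Nat.card_eq_of_bijective f ⟨?_, ?_⟩
  · rintro ⟨a⟩ ⟨b⟩ hab
    have h1 : (QuotientGroup.mk (a : G) : G ⧸ K) = QuotientGroup.mk (b : G) :=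
      congrArg Subtype.val hab
    have h2 : (a : G)⁻¹ * b ∈ K := QuotientGroup.eq.1 h1
    exact QuotientGroup.eq.2 (by simpa [Subgroup.mem_subgroupOf] using h2)
  · rintro ⟨_, ⟨h, hh, rfl⟩⟩
    exact ⟨QuotientGroup.mk ⟨h, hh⟩, rfl⟩

/-- `|HK| |H ∩ K| = |H| |K|` -/
theorem card_mul_card_inf (H K : Subgroup G) :
    Nat.card ((H : Set G) * (K : Set G) : Set G) * Nat.card (H ⊓ K : Subgroup G) =
      Nat.card H * Nat.card K := by
  rw [Subgroup.card_mul_eq_card_subgroup_mul_card_quotient, card_image_mk]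
  have h1 : Nat.card (H ⊓ K : Subgroup G) = Nat.card (K.subgroupOf H) := by
    rw [← Subgroup.card_map_of_injective (f := H.subtype) H.subtype_injective,
      Subgroup.subgroupOf_map_subtype, inf_comm]
  rw [h1, mul_assoc, ← Subgroup.card_eq_card_quotient_mul_card_subgroup, mul_comm]

theorem mul_subset_sup (H K : Subgroup G) :
    (H : Set G) * (K : Set G) ⊆ ((H ⊔ K : Subgroup G) : Set G) := by
  rintro _ ⟨h, hh, k, hk, rfl⟩
  exact mul_mem (Subgroup.mem_sup_left hh) (Subgroup.mem_sup_right hk)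

/-- `|H| |K| ≤ |⟨H, K⟩| |H ∩ K|` -/
theorem card_mul_card_le [Finite G] (H K : Subgroup G) :
    Nat.card H * Nat.card K ≤ Nat.card (H ⊔ K : Subgroup G) * Nat.card (H ⊓ K : Subgroup G) := by
  rw [← card_mul_card_inf H K]
  apply Nat.mul_le_mul_right
  exact Nat.card_mono (Set.toFinite _) (mul_subset_sup H K)

theorem sup_eq_mul_of_card_le [Finite G] (H K : Subgroup G)
    (h : Nat.card (H ⊔ K : Subgroup G) * Nat.card (H ⊓ K : Subgroup G) ≤
      Nat.card H * Nat.card K) :
    ((H ⊔ K : Subgroup G) : Set G) = (H : Set G) * (K : Set G) := by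
  symm
  apply Set.eq_of_subset_of_ncard_le (mul_subset_sup H K)
  rw [← card_mul_card_inf H K] at h
  exact Nat.le_of_mul_le_mul_right h Nat.card_pos

theorem card_sup_mul_card_inf_of_eq_mul [Finite G] (H K : Subgroup G)
    (h : ((H ⊔ K : Subgroup G) : Set G) = (H : Set G) * (K : Set G)) :
    Nat.card (H ⊔ K : Subgroup G) * Nat.card (H ⊓ K : Subgroup G) = Nat.card H * Nat.card K := by
  rw [← card_mul_card_inf H K, ← h]
  rfl

end H55.ProdCard
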