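import Mathlib
import Cfsg.Agent.Lib.Lead.CITBase
import Cfsg.Agent.Lib.H13.Thompson
import Cfsg.Agent.Lib.H13.Norm
import Cfsg.Agent.Lib.H55.ProdCard

/-!
Team T-CIT, module M2: `b = 1`.
-/
set_option autoImplicit false
set_option linter.unusedSectionVars false

namespace H55.CITM2

open Subgroup H28.Cj H28.RelSyl Lead.CIT

universe u

section
variable {G : Type u} [Group G] {q : ℕ} {V P : Subgroup G}

theorem V_le_P (h : Nat2 q V) (hP : IsSyl 2 P (normalizer (V : Set G))) : V ≤ P :=
  h.ea.le_centralizer.trans (h.cle P hP)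

theorem OZ_eq (h : Nat2 q V) (hP : IsSyl 2 P (normalizer (V : Set G))) :
    OZ P = V ⊓ centralizer (P : Set G) := by
  apply le_antisymm
  · refine le_inf (h.oz P hP) ?_
    intro x hx
    rw [mem_centralizer_iff]
    intro y hy
    exact (hx.2.2 y hy).symm
  · rintro x hx
    obtain ⟨hxV, hxC⟩ := mem_inf.mp hx
    exact ⟨V_le_P h hP hxV, h.ea x hxV, fun y hy => (mem_centralizer_iff.mp hxC y hy).symm⟩

theorem card_OZ (h : Nat2 q V) (hP : IsSyl 2 P (normalizer (V : Set G))) :
    Nat.card (OZ P) = q := by rw [OZ_eq h hP]; exact h.cz P hP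

/-- an element commuting with an element of `P` outside `C(V)` -/
theorem mem_OZ_of_comm (h : Nat2 q V) (hP : IsSyl 2 P (normalizer (V : Set G))) {x v : G}
    (hx : x ∈ P) (hxC : x ∉ centralizer (V : Set G)) (hv : v ∈ V) (hxv : x * v = v * x) :
    v ∈ OZ P := by
  rw [OZ_eq h hP]
  exact mem_inf.mpr ⟨hv, h.fix P hP x hx hxC v hv hxv⟩

end

section
variable {G : Type u} [Group G] [Finite G] {q : ℕ} {V V' P : Subgroup G}

/-- the half-statement -/
theorem inf_cent (h : Nat2 q V) (h' : Nat2 q V') (hP : IsSyl 2 P (normalizer (V : Set G)))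
    (hP' : IsSyl 2 P (normalizer (V' : Set G))) (hf : ¬ V' ≤ centralizer (V : Set G)) :
    V ⊓ centralizer (V' : Set G) = OZ P := by
  apply le_antisymm
  · obtain ⟨x, hx, hxC⟩ := SetLike.not_le_iff_exists.mp hf
    intro v hv
    obtain ⟨hv1, hv2⟩ := mem_inf.mp hv
    exact mem_OZ_of_comm h hP (V_le_P h' hP' hx) hxC hv1 (mem_centralizer_iff.mp hv2 x hx)
  · rw [OZ_eq h hP]
    exact inf_le_inf_left _ (centralizer_le (V_le_P h' hP'))

theorem inf_eq (h : Nat2 q V) (h' : Nat2 q V') (hP : IsSyl 2 P (normalizer (V : Set G)))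
    (hP' : IsSyl 2 P (normalizer (V' : Set G))) (hf : ¬ V' ≤ centralizer (V : Set G)) :
    V ⊓ V' = OZ P := by
  apply le_antisymm
  · rw [← inf_cent h h' hP hP' hf]
    exact inf_le_inf_left _ h'.ea.le_centralizer
  · exact le_inf (h.oz P hP) (h'.oz P hP')

theorem not_le_symm (hf : ¬ V' ≤ centralizer (V : Set G)) : ¬ V ≤ centralizer (V' : Set G) := by
  intro hcon
  apply hf
  intro x hx
  rw [mem_centralizer_iff]
  intro y hy
  exact (mem_centralizer_iff.mp (hcon hy) x hx).symm

/-- `P = V C(V')` -/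
theorem sup_cent (h : Nat2 q V) (h' : Nat2 q V') (hP : IsSyl 2 P (normalizer (V : Set G)))
    (hP' : IsSyl 2 P (normalizer (V' : Set G))) (hf : ¬ V' ≤ centralizer (V : Set G)) :
    V ⊔ centralizer (V' : Set G) = P := by
  have hle : V ⊔ centralizer (V' : Set G) ≤ P := sup_le (V_le_P h hP) (h'.cle P hP')
  have hn : V ≤ normalizer ((centralizer (V' : Set G) : Subgroup G) : Set G) := by
    refine ((V_le_P h hP).trans hP'.le).trans ?_
    exact H13.Norm.normalizer_le_normalizer_centralizer _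
  have h1 := H13.Thompson.card_sup_mul_card_inf hn
  rw [inf_cent h h' hP hP' hf, card_OZ h hP, h.card] at h1
  apply eq_of_le_of_card_ge hle
  rw [h'.cardP P hP']
  have hq : 0 < q := lt_trans Nat.one_pos h.q1
  have h2 : Nat.card ↥(V ⊔ centralizer (V' : Set G)) * q =
      (q * Nat.card ↥(centralizer (V' : Set G))) * q := by rw [h1]; ring
  exact (Nat.eq_of_mul_eq_mul_right hq h2).ge

/-- in a `Sep` group an odd order element commuting with a nontrivial `2`-element is trivial -/
theorem sep_two {U : Subgroup G} (hS : Sep G) (hU : IsPGroup 2 U) {x y : G} (hy : y ∈ U)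
    (hy1 : y ≠ 1) (hx : Odd (orderOf x)) (hxy : x * y = y * x) : x = 1 := by
  obtain ⟨k, hk⟩ := hU ⟨y, hy⟩
  have hk' : y ^ 2 ^ k = 1 := by simpa using congrArg Subtype.val hk
  obtain ⟨m, -, hm⟩ := (Nat.dvd_prime_pow Nat.prime_two).mp (orderOf_dvd_of_pow_eq_one hk')
  have hm0 : m ≠ 0 := by
    rintro rfl
    rw [pow_zero, orderOf_eq_one_iff] at hm
    exact hy1 hm
  obtain ⟨m', rfl⟩ := Nat.exists_eq_succ_of_ne_zero hm0
  have h2 : orderOf (y ^ 2 ^ m') = 2 := by
    rw [orderOf_pow' y (pow_ne_zero _ (by norm_num)), hm, pow_succ, Nat.gcd_eq_right ⟨2, rfl⟩]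
    exact Nat.mul_div_cancel_left 2 (pow_pos (by norm_num) _)
  exact hS x (y ^ 2 ^ m') h2 hx ((show Commute x y from hxy).pow_right _)

/-- a subgroup which is not a `2`-group has a nontrivial element of odd order -/
theorem exists_odd {L : Subgroup G} (hL : ¬ IsPGroup 2 L) : ∃ x ∈ L, x ≠ 1 ∧ Odd (orderOf x) := by
  by_contra hcon
  push Not at hcon
  apply hL
  rw [IsPGroup.iff_card]
  refine ⟨_, Nat.eq_prime_pow_of_unique_prime_dvd Nat.card_pos.ne' ?_⟩
  intro r hr hrd
  by_contra hr2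
  have : Fact r.Prime := ⟨hr⟩
  obtain ⟨x, hx⟩ := exists_prime_orderOf_dvd_card' r hrd
  apply hcon x x.2
  · intro h
    have : x = 1 := Subtype.ext h
    rw [this, orderOf_one] at hx
    exact hr.one_lt.ne hx
  · rw [orderOf_coe, hx]
    exact hr.odd_of_ne_two hr2

/-- `C(V) = V` -/
theorem cent_eq (hS : Sep G) (h : Nat2 q V) (h' : Nat2 q V')
    (hP : IsSyl 2 P (normalizer (V : Set G)))
    (hP' : IsSyl 2 P (normalizer (V' : Set G))) (hf : ¬ V' ≤ centralizer (V : Set G)) :
    centralizer (V : Set G) = V := by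
  set A := centralizer (V : Set G) with hA
  set B := centralizer (V' : Set G) with hB
  have hq : 0 < q := lt_trans Nat.one_pos h.q1
  -- `P = A B`
  have hsup : A ⊔ B = P := by
    apply le_antisymm (sup_le (h.cle P hP) (h'.cle P hP'))
    rw [← sup_cent h h' hP hP' hf]
    exact sup_le_sup_right h.ea.le_centralizer _
  have hn : A ≤ normalizer (B : Set G) :=
    ((h.cle P hP).trans hP'.le).trans (H13.Norm.normalizer_le_normalizer_centralizer _)
  have h1 := H13.Thompson.card_sup_mul_card_inf hn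
  rw [hsup, h'.cardP P hP'] at h1
  set E := A ⊓ B with hE
  have hAE : Nat.card A = q * Nat.card E := by
    have h2 : Nat.card A * Nat.card B = (q * Nat.card E) * Nat.card B := by
      rw [← h1]; ring
    exact Nat.eq_of_mul_eq_mul_right Nat.card_pos h2
  -- a second Sylow subgroup
  obtain ⟨P₁, P₂, hP₁, hP₂, hne⟩ := h.ex
  obtain ⟨Q, hQ, hQP⟩ : ∃ Q, IsSyl 2 Q (normalizer (V : Set G)) ∧ Q ≠ P := by
    by_cases h3 : P₁ = P
    · exact ⟨P₂, hP₂, fun h4 => hne (h3.trans h4.symm)⟩
    · exact ⟨P₁, hP₁, h3⟩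
  obtain ⟨g, hg, rfl⟩ := hP.exists_conj_eq hQ
  have hAg : cj g A = A := by
    have := H13.Norm.normalizer_le_normalizer_centralizer (V : Subgroup G) hg
    ext x
    rw [mem_cj]
    exact (mem_normalizer_iff''.mp this x).symm
  have hL : ¬ IsPGroup 2 (V' ⊔ cj g V' : Subgroup G) := by
    intro hL
    have h3 := h.gen P (cj g P) hP hQ (Ne.symm hQP)
    have h4 : P = V' ⊔ A := (sup_cent h' h hP' hP (not_le_symm hf)).symm
    have h5 : normalizer (V : Set G) = (V' ⊔ cj g V') ⊔ A := by
      rw [← h3]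
      conv_lhs => rw [h4, cj_sup, hAg]
      apply le_antisymm
      · refine sup_le (sup_le ?_ le_sup_right) (sup_le ?_ le_sup_right)
        · exact le_sup_left.trans le_sup_left
        · exact le_sup_right.trans le_sup_left
      · refine sup_le (sup_le ?_ ?_) ?_
        · exact le_sup_left.trans le_sup_left
        · exact le_sup_left.trans le_sup_right
        · exact le_sup_right.trans le_sup_left
    have h6 : IsPGroup 2 (normalizer (V : Set G)) := by
      rw [h5]
      refine hL.to_sup_of_normal_right' h.two ?_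
      refine le_trans ?_ (H13.Norm.normalizer_le_normalizer_centralizer V)
      rw [h5]
      exact le_sup_left
    exact hQP ((hQ.eq_of_le h6 hQ.le le_rfl).symm.trans (hP.eq_of_le h6 hP.le le_rfl))
  obtain ⟨x, hxL, hx1, hxo⟩ := exists_odd hL
  have hbot : E ⊓ cj g E = ⊥ := by
    rw [eq_bot_iff]
    intro y hy
    rw [mem_bot]
    by_contra hy1
    obtain ⟨hyE, hyE'⟩ := mem_inf.mp hy
    apply hx1
    apply sep_two hS h.two (mem_inf.mp hyE).1 hy1 hxo
    have hc : y ∈ centralizer ((V' ⊔ cj g V' : Subgroup G) : Set G) := by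
      rw [H13.Norm.centralizer_sup]
      refine mem_inf.mpr ⟨(mem_inf.mp hyE).2, ?_⟩
      rw [mem_cj] at hyE'
      have h7 := mem_centralizer_iff.mp (mem_inf.mp hyE').2
      rw [mem_centralizer_iff]
      intro z hz
      rw [SetLike.mem_coe, mem_cj] at hz
      have h8 := h7 _ hz
      calc z * y = g * ((g⁻¹ * z * g) * (g⁻¹ * y * g)) * g⁻¹ := by group
        _ = g * ((g⁻¹ * y * g) * (g⁻¹ * z * g)) * g⁻¹ := by rw [h8]
        _ = y * z := by group
    exact mem_centralizer_iff.mp hc x hxL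
  have h3 := H55.ProdCard.card_mul_card_le E (cj g E)
  rw [hbot, card_bot, mul_one, card_cj] at h3
  have h4 : Nat.card (E ⊔ cj g E : Subgroup G) ≤ Nat.card A := by
    apply card_le_of_le
    refine sup_le inf_le_left ?_
    rw [← hAg]
    exact map_mono inf_le_left
  have hE0 : 0 < Nat.card E := Nat.card_pos
  have h5 : Nat.card E ≤ q := by
    have : Nat.card E * Nat.card E ≤ q * Nat.card E := by rw [← hAE]; exact h3.trans h4
    exact Nat.le_of_mul_le_mul_right this hE0
  symm
  apply eq_of_le_of_card_ge h.ea.le_centralizer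
  rw [← hA, hAE, h.card, pow_two]
  exact Nat.mul_le_mul_left q h5

theorem b_one (hS : Sep G) (h : Nat2 q V) (h' : Nat2 q V')
    (hP : IsSyl 2 P (normalizer (V : Set G)))
    (hP' : IsSyl 2 P (normalizer (V' : Set G))) (hf : ¬ V' ≤ centralizer (V : Set G)) :
    centralizer (V : Set G) = V ∧ centralizer (V' : Set G) = V' ∧ P = V ⊔ V' ∧
      V ⊓ V' = OZ P ∧ Nat.card P = q ^ 3 ∧ ∀ x ∈ P, x * x = 1 → x ∈ V ∨ x ∈ V' := by
  have hc := cent_eq hS h h' hP hP' hf
  have hc' := cent_eq hS h' h hP' hP (not_le_symm hf)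
  have hsup := sup_cent h h' hP hP' hf
  rw [hc'] at hsup
  have hinf := inf_eq h h' hP hP' hf
  refine ⟨hc, hc', hsup.symm, hinf, ?_, ?_⟩
  · rw [h.cardP P hP, hc, h.card]; ring
  · intro x hx hx2
    rw [← hsup] at hx
    have hnor : V ≤ normalizer (V' : Set G) := (V_le_P h hP).trans hP'.le
    obtain ⟨v, hv, v', hv', rfl⟩ := (H13.Norm.mem_sup_of_le_normalizer hnor).mp hx
    by_cases h1 : v' ∈ V
    · exact Or.inl (V.mul_mem hv h1)
    · right
      have h2 : v' ∉ centralizer (V : Set G) := by rwa [hc]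
      have hv1 := h.ea.inv_eq hv
      have hv1' := h'.ea.inv_eq hv'
      have h3 : v' * v = v * v' := by
        have h4 : (v * v')⁻¹ = v * v' := inv_eq_of_mul_eq_one_left hx2
        rw [mul_inv_rev, hv1, hv1'] at h4
        exact h4
      have h4 := mem_OZ_of_comm h hP (V_le_P h' hP' hv') h2 hv h3
      exact V'.mul_mem (h'.oz P hP' h4) hv'

end

end H55.CITM2
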