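import Mathlib
import Cfsg.Agent.Lib.H55.CITM2

/-!
Team T-CIT, module M9, part 1: the geometry of the Sylow `2`-subgroups of `N_G(V)`.
-/
set_option autoImplicit false
set_option linter.unusedSectionVars false

namespace H55.CITCfg

open Subgroup H28.Cj H28.RelSyl Lead.CIT H55.CITM2

universe u

/-- conjugation -/
def cc {G : Type*} [Group G] (g x : G) : G := g * x * g⁻¹

section
variable {G : Type*} [Group G]

theorem cc_mul (g x y : G) : cc g (x * y) = cc g x * cc g y := by simp only [cc]; group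
theorem cc_cc (g h x : G) : cc g (cc h x) = cc (g * h) x := by simp only [cc]; group
theorem cc_one_left (x : G) : cc 1 x = x := by simp [cc]
theorem cc_one (g : G) : cc g 1 = 1 := by simp [cc]
theorem cc_inv (g x : G) : cc g x⁻¹ = (cc g x)⁻¹ := by simp only [cc]; group
theorem cc_inv_cc (g x : G) : cc g⁻¹ (cc g x) = x := by simp only [cc]; group
theorem cc_cc_inv (g x : G) : cc g (cc g⁻¹ x) = x := by simp only [cc]; group
theorem cc_injective (g : G) : Function.Injective (cc g) := fun x y h => by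
  have := congrArg (cc g⁻¹) h
  rwa [cc_inv_cc, cc_inv_cc] at this
theorem cc_eq_self {g x : G} (h : g * x = x * g) : cc g x = x := by
  simp only [cc]; rw [h]; group
theorem comm_of_cc_eq_self {g x : G} (h : cc g x = x) : g * x = x * g := by
  simp only [cc] at h
  calc g * x = (g * x * g⁻¹) * g := by group
    _ = x * g := by rw [h]
theorem cc_eq_one {g x : G} : cc g x = 1 ↔ x = 1 := by
  constructor
  · intro h
    apply cc_injective g
    rw [h, cc_one]
  · rintro rfl; exact cc_one g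

theorem cc_mem {g x : G} {H : Subgroup G} (hg : g ∈ normalizer (H : Set G)) :
    cc g x ∈ H ↔ x ∈ H := (mem_normalizer_iff.mp hg x).symm

theorem cc_mem_cj {g x : G} {H : Subgroup G} : cc g x ∈ cj g H ↔ x ∈ H := conj_mem_cj

theorem cj_eq_of_mem_normalizer {g : G} {H : Subgroup G} (hg : g ∈ normalizer (H : Set G)) :
    cj g H = H := by
  ext x
  rw [mem_cj]
  exact (mem_normalizer_iff''.mp hg x).symm

theorem mem_normalizer_of_cj_eq {g : G} {H : Subgroup G} (h : cj g H = H) :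
    g ∈ normalizer (H : Set G) := by
  rw [mem_normalizer_iff]
  intro x
  rw [← conj_mem_cj (g := g) (x := x) (H := H), h]

theorem OZ_cj (g : G) (D : Subgroup G) : OZ (cj g D) = cj g (OZ D) := by
  ext x
  rw [mem_cj, mem_OZ, mem_OZ, mem_cj]
  refine and_congr Iff.rfl (and_congr ?_ ?_)
  · constructor
    · intro h
      calc g⁻¹ * x * g * (g⁻¹ * x * g) = g⁻¹ * (x * x) * g := by group
        _ = 1 := by rw [h]; group
    · intro h
      calc x * x = g * (g⁻¹ * x * g * (g⁻¹ * x * g)) * g⁻¹ := by group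
        _ = 1 := by rw [h]; group
  · constructor
    · intro h y hy
      have := h (g * y * g⁻¹) (conj_mem_cj.mpr hy)
      calc g⁻¹ * x * g * y = g⁻¹ * (x * (g * y * g⁻¹)) * g := by group
        _ = g⁻¹ * ((g * y * g⁻¹) * x) * g := by rw [this]
        _ = y * (g⁻¹ * x * g) := by group
    · intro h y hy
      rw [mem_cj] at hy
      have := h _ hy
      calc x * y = g * ((g⁻¹ * x * g) * (g⁻¹ * y * g)) * g⁻¹ := by group
        _ = g * ((g⁻¹ * y * g) * (g⁻¹ * x * g)) * g⁻¹ := by rw [this]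
        _ = y * x := by group

end

/-- the configuration: `V` natural with `C(V) = V`, `P ≠ R` Sylow in `N(V)`, `P = V B`. -/
structure Cfg {G : Type*} [Group G] (q : ℕ) (V B P R : Subgroup G) : Prop where
  hS : Sep G
  h : Nat2 q V
  hC : centralizer (V : Set G) = V
  hP : IsSyl 2 P (normalizer (V : Set G))
  hR : IsSyl 2 R (normalizer (V : Set G))
  ne : R ≠ P
  hB : IsEA B
  sup : V ⊔ B = P
  inf : V ⊓ B = OZ P
  cardB : Nat.card B = q ^ 2

section
variable {G : Type u} [Group G] [Finite G] {q : ℕ} {V B P R : Subgroup G}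

namespace Cfg

theorem hBP (c : Cfg q V B P R) : B ≤ P := by rw [← c.sup]; exact le_sup_right
theorem hVP (c : Cfg q V B P R) : V ≤ P := by rw [← c.sup]; exact le_sup_left
theorem hVR (c : Cfg q V B P R) : V ≤ R := V_le_P c.h c.hR
theorem hPN (c : Cfg q V B P R) : P ≤ normalizer (V : Set G) := c.hP.le
theorem OZP (c : Cfg q V B P R) : OZ P ≤ V := c.h.oz P c.hP
theorem OZR (c : Cfg q V B P R) : OZ R ≤ V := c.h.oz R c.hR

theorem exists_odd_norm (c : Cfg q V B P R) :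
    ∃ x ∈ normalizer (V : Set G), x ≠ 1 ∧ Odd (orderOf x) := by
  apply exists_odd
  intro h6
  exact c.ne ((c.hR.eq_of_le h6 c.hR.le le_rfl).symm.trans (c.hP.eq_of_le h6 c.hP.le le_rfl))

/-- an element of `V` centralised by two Sylow subgroups is trivial -/
theorem eq_one_of_cent (c : Cfg q V B P R) {Q₁ Q₂ : Subgroup G}
    (h1 : IsSyl 2 Q₁ (normalizer (V : Set G))) (h2 : IsSyl 2 Q₂ (normalizer (V : Set G)))
    (hne : Q₁ ≠ Q₂) {v : G} (hv : v ∈ V) (hv1 : v ∈ centralizer (Q₁ : Set G))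
    (hv2 : v ∈ centralizer (Q₂ : Set G)) : v = 1 := by
  by_contra hv0
  obtain ⟨x, hx, hx1, hxo⟩ := c.exists_odd_norm
  apply hx1
  apply sep_two c.hS c.h.ea.isPGroup hv hv0 hxo
  have : v ∈ centralizer ((Q₁ ⊔ Q₂ : Subgroup G) : Set G) := by
    rw [H13.Norm.centralizer_sup]
    exact mem_inf.mpr ⟨hv1, hv2⟩
  rw [c.h.gen Q₁ Q₂ h1 h2 hne] at this
  exact mem_centralizer_iff.mp this x hx

theorem mem_cent_of_OZ {D : Subgroup G} {x : G} (hx : x ∈ OZ D) :
    x ∈ centralizer (D : Set G) := by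
  rw [mem_centralizer_iff]
  intro y hy
  exact (hx.2.2 y hy).symm

theorem disj (c : Cfg q V B P R) {Q₁ Q₂ : Subgroup G}
    (h1 : IsSyl 2 Q₁ (normalizer (V : Set G))) (h2 : IsSyl 2 Q₂ (normalizer (V : Set G)))
    (hne : Q₁ ≠ Q₂) {v : G} (hv1 : v ∈ OZ Q₁) (hv2 : v ∈ OZ Q₂) : v = 1 :=
  c.eq_one_of_cent h1 h2 hne (c.h.oz _ h1 hv1) (mem_cent_of_OZ hv1) (mem_cent_of_OZ hv2)

theorem disjPR (c : Cfg q V B P R) {v : G} (hv1 : v ∈ OZ P) (hv2 : v ∈ OZ R) : v = 1 :=
  c.disj c.hP c.hR c.ne.symm hv1 hv2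

theorem q_pos (c : Cfg q V B P R) : 0 < q := lt_trans Nat.one_pos c.h.q1

theorem cardP (c : Cfg q V B P R) : Nat.card (OZ P) = q := card_OZ c.h c.hP
theorem cardR (c : Cfg q V B P R) : Nat.card (OZ R) = q := card_OZ c.h c.hR

theorem exists_ne_one_of_card {H : Subgroup G} {n : ℕ} (hn : 1 < n) (h : Nat.card H = n) :
    ∃ v ∈ H, v ≠ 1 := by
  by_contra hcon
  push Not at hcon
  have : H = ⊥ := by rw [eq_bot_iff]; exact fun x hx => mem_bot.mpr (hcon x hx)
  rw [this, card_bot] at h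
  omega

/-- two Sylow subgroups of `N(V)` meet in `V` -/
theorem inf_eq (c : Cfg q V B P R) : P ⊓ R = V := by
  apply le_antisymm _ (le_inf c.hVP c.hVR)
  intro x hx
  obtain ⟨hxP, hxR⟩ := mem_inf.mp hx
  by_contra hxV
  have hxC : x ∉ centralizer (V : Set G) := by rwa [c.hC]
  obtain ⟨v, hv, hv1⟩ := exists_ne_one_of_card c.h.q1 c.cardP
  apply hv1
  have hxv : x * v = v * x := (hv.2.2 x hxP).symm
  exact c.eq_one_of_cent c.hP c.hR c.ne.symm (c.OZP hv) (mem_cent_of_OZ hv)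
    (c.h.fix R c.hR x hxR hxC v (c.OZP hv) hxv)

/-- `V = OZ P × OZ R` -/
theorem exists_mul (c : Cfg q V B P R) {v : G} (hv : v ∈ V) :
    ∃ z ∈ OZ P, ∃ y ∈ OZ R, v = z * y := by
  have hn : OZ P ≤ normalizer (OZ R : Set G) := by
    refine le_trans ?_ (centralizer_le_normalizer _)
    intro x hx
    rw [mem_centralizer_iff]
    intro y hy
    exact c.h.ea.comm (c.OZR hy) (c.OZP hx)
  have h1 := H13.Thompson.card_sup_mul_card_inf hn
  have h2 : OZ P ⊓ OZ R = ⊥ := by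
    rw [eq_bot_iff]
    intro x hx
    exact mem_bot.mpr (c.disjPR (mem_inf.mp hx).1 (mem_inf.mp hx).2)
  rw [h2, card_bot, mul_one, c.cardP, c.cardR] at h1
  have h3 : OZ P ⊔ OZ R = V := by
    apply eq_of_le_of_card_ge (sup_le c.OZP c.OZR)
    rw [h1, c.h.card, pow_two]
  rw [← h3] at hv
  obtain ⟨z, hz, y, hy, rfl⟩ := (H13.Norm.mem_sup_of_le_normalizer hn).mp hv
  exact ⟨z, hz, y, hy, rfl⟩

/-- uniqueness -/
theorem uniq (c : Cfg q V B P R) {z z' y y' : G} (hz : z ∈ OZ P) (hz' : z' ∈ OZ P)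
    (hy : y ∈ OZ R) (hy' : y' ∈ OZ R) (h : z * y = z' * y') : z = z' ∧ y = y' := by
  have h1 : z'⁻¹ * z = y' * y⁻¹ := by
    calc z'⁻¹ * z = z'⁻¹ * (z * y) * y⁻¹ := by group
      _ = z'⁻¹ * (z' * y') * y⁻¹ := by rw [h]
      _ = y' * y⁻¹ := by group
  have h2 : z'⁻¹ * z = 1 := c.disjPR ((OZ P).mul_mem ((OZ P).inv_mem hz') hz)
    (h1 ▸ (OZ R).mul_mem hy' ((OZ R).inv_mem hy))
  have h3 : y' * y⁻¹ = 1 := by rw [← h1, h2]
  exact ⟨(inv_mul_eq_one.mp h2).symm, (mul_inv_eq_one.mp h3).symm⟩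

theorem comm_mem (c : Cfg q V B P R) {u v : G} (hu : u ∈ P) (hv : v ∈ V) :
    cc u v * v⁻¹ ∈ OZ P := by
  have h1 := c.h.comm P c.hP u hu v hv
  have h2 : cc u v ∈ V := (cc_mem (c.hPN hu)).mpr hv
  have h3 : cc u v * v⁻¹ ∈ V := V.mul_mem h2 (V.inv_mem hv)
  rw [OZ_eq c.h c.hP]
  refine mem_inf.mpr ⟨h3, ?_⟩
  have h4 : cc u v * v⁻¹ = (v * u * v⁻¹ * u⁻¹)⁻¹ := by simp only [cc]; group
  rw [h4]
  exact (centralizer _).inv_mem h1

/-- for `y ∈ OZ R`, `y ≠ 1`: `b ↦ [b, y]` maps `B` onto `OZ P` -/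
theorem surj (c : Cfg q V B P R) {y : G} (hy : y ∈ OZ R) (hy1 : y ≠ 1) {z : G} (hz : z ∈ OZ P) :
    ∃ b ∈ B, cc b y = z * y := by
  have hyV := c.OZR hy
  let f : B →* OZ P :=
    { toFun := fun b => ⟨cc (b : G) y * y⁻¹, c.comm_mem (c.hBP b.2) hyV⟩
      map_one' := by
        apply Subtype.ext
        show cc 1 y * y⁻¹ = 1
        rw [cc_one_left, mul_inv_cancel]
      map_mul' := by
        rintro ⟨b, hb⟩ ⟨d, hd⟩
        apply Subtype.ext
        show cc (b * d) y * y⁻¹ = cc b y * y⁻¹ * (cc d y * y⁻¹)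
        have h1 := c.comm_mem (c.hBP hd) hyV
        have h2 : cc b (cc d y * y⁻¹) = cc d y * y⁻¹ := cc_eq_self (h1.2.2 b (c.hBP hb)).symm
        have h3 : cc d y = (cc d y * y⁻¹) * y := by group
        rw [← cc_cc, h3, cc_mul, h2]
        have h4 : (cc d y * y⁻¹) * (cc b y * y⁻¹) = (cc b y * y⁻¹) * (cc d y * y⁻¹) :=
          h1.2.2 _ (c.hVP (c.OZP (c.comm_mem (c.hBP hb) hyV)))
        calc (cc d y * y⁻¹) * cc b y * y⁻¹ = (cc d y * y⁻¹) * (cc b y * y⁻¹) := by group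
          _ = (cc b y * y⁻¹) * (cc d y * y⁻¹) := h4
          _ = _ := by group }
  have hker : f.ker.map B.subtype ≤ OZ P := by
    rintro _ ⟨⟨b, hb⟩, hb', rfl⟩
    have h1 : cc b y * y⁻¹ = 1 := congrArg Subtype.val (MonoidHom.mem_ker.mp hb')
    have h2 : b * y = y * b := comm_of_cc_eq_self (mul_inv_eq_one.mp h1)
    show b ∈ OZ P
    rw [← c.inf]
    refine mem_inf.mpr ⟨?_, hb⟩
    by_contra hbV
    have hbC : b ∉ centralizer (V : Set G) := by rwa [c.hC]
    have h3 := mem_OZ_of_comm c.h c.hP (c.hBP hb) hbC hyV h2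
    exact hy1 (c.disjPR h3 hy)
  have hk : Nat.card f.ker ≤ q := by
    rw [← card_map_of_injective B.subtype_injective, ← c.cardP]
    exact card_le_of_le hker
  have hr : Nat.card B = Nat.card f.ker * Nat.card f.range := by
    rw [← Subgroup.card_mul_index f.ker, Subgroup.index_ker]
  have hr2 : Nat.card f.range ≤ q := by
    rw [← c.cardP]; exact Subgroup.card_le_card_group _
  have hr3 : Nat.card f.range = q := by
    apply le_antisymm hr2
    by_contra hcon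
    rw [c.cardB] at hr
    have : Nat.card f.ker * Nat.card f.range < q * q :=
      lt_of_le_of_lt (Nat.mul_le_mul_right _ hk) (Nat.mul_lt_mul_of_pos_left (not_le.mp hcon) c.q_pos)
    rw [← hr, pow_two] at this
    exact lt_irrefl _ this
  have htop : f.range = ⊤ := by
    apply eq_top_of_card_eq
    rw [hr3, c.cardP]
  have hmem : (⟨z, hz⟩ : OZ P) ∈ f.range := by rw [htop]; trivial
  obtain ⟨⟨b, hb⟩, hb2⟩ := hmem
  have h1 : cc b y * y⁻¹ = z := congrArg Subtype.val hb2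
  exact ⟨b, hb, by rw [← h1]; group⟩

/-- `B` is transitive on the Sylow subgroups other than `P` -/
theorem trans (c : Cfg q V B P R) {Q : Subgroup G} (hQ : IsSyl 2 Q (normalizer (V : Set G)))
    (hQP : Q ≠ P) : ∃ b ∈ B, cj b R = Q := by
  obtain ⟨y, hy, hy1⟩ := exists_ne_one_of_card c.h.q1 (card_OZ c.h hQ)
  obtain ⟨z, hz, x, hx, hyx⟩ := c.exists_mul (c.h.oz Q hQ hy)
  have hx1 : x ≠ 1 := by
    rintro rfl
    rw [mul_one] at hyx
    subst hyx
    exact hy1 (c.disj c.hP hQ hQP.symm hz hy)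
  obtain ⟨b, hb, hbx⟩ := c.surj hx hx1 hz
  refine ⟨b, hb, ?_⟩
  by_contra hne
  have hbN : b ∈ normalizer (V : Set G) := c.hPN (c.hBP hb)
  apply hy1
  apply c.disj (c.hR.cj_of_mem hbN) hQ hne _ hy
  rw [OZ_cj, hyx, ← hbx]
  exact cc_mem_cj.mpr hx

/-- a `2`-element normalising `P` and `R` is in `V` -/
theorem mem_V (c : Cfg q V B P R) {x : G} (hx2 : IsPGroup 2 (zpowers x))
    (hxN : x ∈ normalizer (V : Set G)) (hxP : x ∈ normalizer (P : Set G))
    (hxR : x ∈ normalizer (R : Set G)) : x ∈ V := by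
  have key : ∀ {Q : Subgroup G}, IsSyl 2 Q (normalizer (V : Set G)) →
      x ∈ normalizer (Q : Set G) → x ∈ Q := by
    intro Q hQ hx
    have h1 : IsPGroup 2 (zpowers x ⊔ Q : Subgroup G) :=
      hx2.to_sup_of_normal_right' hQ.isPGroup (by rwa [zpowers_le])
    have h2 := hQ.eq_of_le h1 le_sup_right (sup_le (by rwa [zpowers_le]) hQ.le)
    rw [← h2]
    exact mem_sup_left (mem_zpowers x)
  rw [← c.inf_eq]
  exact mem_inf.mpr ⟨key c.hP hxP, key c.hR hxR⟩

theorem isPGroup_zpowers_of_mem {D : Subgroup G} (hD : IsPGroup 2 D) {x : G} (hx : x ∈ D) :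
    IsPGroup 2 (zpowers x) := hD.to_le (by rwa [zpowers_le])

theorem exists_B (c : Cfg q V B P R) : ∃ b ∈ B, b ∉ V := by
  by_contra hcon
  push Not at hcon
  have h1 : B ≤ OZ P := by rw [← c.inf]; exact le_inf hcon le_rfl
  have h2 := card_le_of_le h1
  rw [c.cardB, c.cardP] at h2
  have := c.h.q1
  nlinarith

/-- a swapping involution -/
theorem swap (c : Cfg q V B P R) : ∃ w : G, w * w = 1 ∧ w ∈ normalizer (V : Set G) ∧
    cj w P = R ∧ cj w R = P := by
  obtain ⟨b, hb, hbV⟩ := c.exists_B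
  have hbN : b ∈ normalizer (V : Set G) := c.hPN (c.hBP hb)
  have hbP : b ∈ normalizer (P : Set G) := le_normalizer (c.hBP hb)
  have hne : cj b R ≠ R := by
    intro h
    exact hbV (c.mem_V (isPGroup_zpowers_of_mem c.hB.isPGroup hb) hbN hbP
      (mem_normalizer_of_cj_eq h))
  have hbb : b * b = 1 := c.hB b hb
  obtain ⟨g₁, hg₁, hg₁R⟩ := c.hR.exists_conj_eq c.hP
  have h1 : cj g₁ (cj b R) ≠ P := by
    intro h
    rw [hg₁R] at h
    exact hne (cj_injective g₁ h)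
  have hsyl : IsSyl 2 (cj g₁ (cj b R)) (normalizer (V : Set G)) :=
    (c.hR.cj_of_mem hbN).cj_of_mem hg₁
  obtain ⟨y, hy, hyR⟩ := c.trans hsyl h1
  -- `g = y⁻¹ g₁`
  have hyN : y ∈ normalizer (V : Set G) := c.hPN (c.hBP hy)
  have hyP : cj y P = P := cj_eq_of_mem_normalizer (le_normalizer (c.hBP hy))
  set g := y⁻¹ * g₁ with hg
  have hgN : g ∈ normalizer (V : Set G) := mul_mem (inv_mem hyN) hg₁
  have hgR : cj g R = P := by
    rw [hg, ← cj_cj, ← hg₁R]
    rw [cj_eq_iff, inv_inv, hyP]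
  have hgb : cj g (cj b R) = R := by
    rw [hg, ← cj_cj, ← hyR, cj_inv_cj]
  refine ⟨g * b * g⁻¹, ?_, mul_mem (mul_mem hgN hbN) (inv_mem hgN), ?_, ?_⟩
  · calc g * b * g⁻¹ * (g * b * g⁻¹) = g * (b * b) * g⁻¹ := by group
      _ = 1 := by rw [hbb]; group
  · rw [← cj_cj, ← cj_cj, ← hgR, cj_inv_cj, hgb]
  · rw [← cj_cj, ← cj_cj]
    have h2 : cj g⁻¹ R = cj b R := by rw [← hgb, cj_inv_cj, hgb]
    rw [h2, cj_cj b b, hbb, cj_one, hgR]

end Cfg
end

end H55.CITCfg
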