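import Mathlib
import Cfsg.Agent.Lib.H55.CITCfg

/-!
Team T-CIT, module M9, part 2: the action of `N(P) ∩ N(R)` on `Z` and the commutator maps.
-/
set_option autoImplicit false
set_option linter.unusedSectionVars false

namespace H55.CITKey

open Subgroup H28.Cj H28.RelSyl Lead.CIT H55.CITM2 H55.CITCfg H55.CITCfg.Cfg

universe u

/-- configuration with a swapping involution -/
structure WCfg {G : Type*} [Group G] (q : ℕ) (V B P R : Subgroup G) (w : G) : Prop where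
  c : Cfg q V B P R
  w2 : w * w = 1
  wN : w ∈ normalizer (V : Set G)
  wP : cj w P = R
  wR : cj w R = P

/-- the two-point stabiliser -/
structure K0 {G : Type*} [Group G] (V P R : Subgroup G) (h : G) : Prop where
  N : h ∈ normalizer (V : Set G)
  P : h ∈ normalizer (P : Set G)
  R : h ∈ normalizer (R : Set G)

section
variable {G : Type u} [Group G] [Finite G] {q : ℕ} {V B P R : Subgroup G} {w : G}

theorem K0.mul {h k : G} (hh : K0 V P R h) (hk : K0 V P R k) : K0 V P R (h * k) :=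
  ⟨mul_mem hh.N hk.N, mul_mem hh.P hk.P, mul_mem hh.R hk.R⟩
theorem K0.inv {h : G} (hh : K0 V P R h) : K0 V P R h⁻¹ :=
  ⟨inv_mem hh.N, inv_mem hh.P, inv_mem hh.R⟩
theorem K0.one : K0 V P R 1 := ⟨one_mem _, one_mem _, one_mem _⟩

theorem norm_OZ {g : G} {D : Subgroup G} (hg : g ∈ normalizer (D : Set G)) :
    g ∈ normalizer (OZ D : Set G) := by
  apply mem_normalizer_of_cj_eq
  rw [← OZ_cj, cj_eq_of_mem_normalizer hg]

theorem K0.cz {h z : G} (hh : K0 V P R h) (hz : z ∈ OZ P) : cc h z ∈ OZ P :=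
  (cc_mem (norm_OZ hh.P)).mpr hz
theorem K0.cy {h y : G} (hh : K0 V P R h) (hy : y ∈ OZ R) : cc h y ∈ OZ R :=
  (cc_mem (norm_OZ hh.R)).mpr hy

namespace WCfg

theorem winv (W : WCfg q V B P R w) : w⁻¹ = w := inv_eq_of_mul_eq_one_left W.w2
theorem ww (W : WCfg q V B P R w) (x : G) : cc w (cc w x) = x := by
  rw [cc_cc, W.w2, cc_one_left]
theorem wz (W : WCfg q V B P R w) {z : G} (hz : z ∈ OZ P) : cc w z ∈ OZ R := by
  rw [← W.wP, OZ_cj]; exact cc_mem_cj.mpr hz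
theorem wy (W : WCfg q V B P R w) {y : G} (hy : y ∈ OZ R) : cc w y ∈ OZ P := by
  rw [← W.wR, OZ_cj]; exact cc_mem_cj.mpr hy

/-- `P` centralises `OZ P` -/
theorem cP {x z : G} (hx : x ∈ P) (hz : z ∈ OZ P) : cc x z = z := cc_eq_self (hz.2.2 x hx).symm

/-- Bruhat decomposition -/
theorem bruhat (W : WCfg q V B P R w) {g : G} (hg : g ∈ normalizer (V : Set G))
    (hgP : cj g P ≠ P) :
    ∃ b₁ ∈ B, ∃ h, K0 V P R h ∧ ∃ b₂ ∈ B, g = b₁ * w * h * b₂ := by
  have c := W.c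
  obtain ⟨b₁, hb₁, hb₁R⟩ := c.trans (c.hP.cj_of_mem hg) hgP
  have hb₁N : b₁ ∈ normalizer (V : Set G) := c.hPN (c.hBP hb₁)
  set d := w⁻¹ * b₁⁻¹ * g with hd
  have hdN : d ∈ normalizer (V : Set G) := mul_mem (mul_mem (inv_mem W.wN) (inv_mem hb₁N)) hg
  have hdP : cj d P = P := by
    rw [hd, ← cj_cj, ← hb₁R, ← cj_cj, cj_inv_cj, cj_eq_iff, inv_inv, W.wP]
  have hne : cj d⁻¹ R ≠ P := by
    intro h
    apply c.ne
    rw [cj_eq_iff, inv_inv, hdP] at h
    exact h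
  obtain ⟨b, hb, hbR⟩ := c.trans (c.hR.cj_of_mem (inv_mem hdN)) hne
  have hbN : b ∈ normalizer (V : Set G) := c.hPN (c.hBP hb)
  refine ⟨b₁, hb₁, d * b, ⟨mul_mem hdN hbN, ?_, ?_⟩, b⁻¹, inv_mem hb, ?_⟩
  · apply mul_mem (mem_normalizer_of_cj_eq hdP) (le_normalizer (c.hBP hb))
  · apply mem_normalizer_of_cj_eq
    rw [← cj_cj, hbR, cj_cj_inv]
  · rw [hd]; group

/-- the key relation -/
theorem key (W : WCfg q V B P R w) {u : G} (hu : u ∈ B) (huV : u ∉ V) :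
    ∃ h, K0 V P R h ∧ (∀ z ∈ OZ P, cc u (cc w z) = cc h z * cc w z) ∧
      ∀ z ∈ OZ P, cc (w * h * w) z = cc h⁻¹ z := by
  have c := W.c
  have huN : u ∈ normalizer (V : Set G) := c.hPN (c.hBP hu)
  set g := w * u * w with hg
  have hgN : g ∈ normalizer (V : Set G) := mul_mem (mul_mem W.wN huN) W.wN
  have hgP : cj g P ≠ P := by
    intro h
    apply huV
    apply c.mem_V (isPGroup_zpowers_of_mem c.hB.isPGroup hu) huN (le_normalizer (c.hBP hu))
    apply mem_normalizer_of_cj_eq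
    rw [hg, ← cj_cj, ← cj_cj, W.wP, cj_eq_iff, W.winv, W.wP] at h
    exact h
  obtain ⟨b₁, hb₁, h, hh, b₂, hb₂, hgeq⟩ := W.bruhat hgN hgP
  -- commutators
  have hcomm : ∀ {b z : G}, b ∈ B → z ∈ OZ P → ∃ a ∈ OZ P, cc b (cc w z) = a * cc w z := by
    intro b z hb hz
    have h1 := c.comm_mem (c.hBP hb) (c.OZR (W.wz hz))
    exact ⟨_, h1, by group⟩
  have r1 : ∀ z ∈ OZ P, cc u (cc w z) = cc h z * cc w z ∧
      cc b₁ (cc w (cc h z)) = z * cc w (cc h z) := by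
    intro z hz
    obtain ⟨a, ha, ha2⟩ := hcomm hu hz
    obtain ⟨a', ha', ha2'⟩ := hcomm hb₁ (hh.cz hz)
    have h1 : cc g z = cc w a * z := by
      rw [hg, ← cc_cc, ← cc_cc, ha2, cc_mul, W.ww]
    have h2 : cc g z = a' * cc w (cc h z) := by
      rw [hgeq, ← cc_cc, ← cc_cc, ← cc_cc, cP (c.hBP hb₂) hz, ha2']
    rw [h1] at h2
    have h3 : cc w a * z = z * cc w a := c.h.ea.comm (c.OZR (W.wz ha)) (c.OZP hz)
    rw [h3] at h2
    obtain ⟨h4, h5⟩ := c.uniq hz ha' (W.wz ha) (W.wz (hh.cz hz)) h2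
    have h6 : a = cc h z := cc_injective w h5
    exact ⟨by rw [ha2, h6], by rw [ha2', ← h4]⟩
  refine ⟨h, hh, fun z hz => (r1 z hz).1, ?_⟩
  intro z hz
  -- relation on `OZ R`
  obtain ⟨a, ha, ha2⟩ := hcomm hb₂ hz
  set e := cc (w * h * w) z with he
  have heP : e ∈ OZ P := by
    rw [he, ← cc_cc, ← cc_cc]
    exact W.wy (hh.cy (W.wz hz))
  have h1 : cc g (cc w z) = cc w z := by
    rw [hg, ← cc_cc, ← cc_cc, W.ww, cP (c.hBP hu) hz]
  have hwe : cc h (cc w z) = cc w e := by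
    rw [he, ← cc_cc, ← cc_cc, W.ww]
  have h2 : cc g (cc w z) = cc h⁻¹ (cc h a) * cc w (cc h a) * e := by
    rw [hgeq, ← cc_cc, ← cc_cc, ← cc_cc, ha2, cc_mul, cc_mul, cc_mul, hwe, W.ww]
    have h3 : cc b₁ e = e := cP (c.hBP hb₁) heP
    rw [h3]
    have h4 := (r1 a ha).2
    rw [h4, cc_inv_cc]
  rw [h1, cc_inv_cc] at h2
  have h3 : cc w (cc h a) * e = e * cc w (cc h a) :=
    c.h.ea.comm (c.OZR (W.wz (hh.cz ha))) (c.OZP heP)
  have h4 : 1 * cc w z = (a * e) * cc w (cc h a) := by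
    rw [one_mul]
    calc cc w z = a * (cc w (cc h a) * e) := by rw [← mul_assoc]; exact h2
      _ = a * (e * cc w (cc h a)) := by rw [h3]
      _ = _ := by group
  obtain ⟨h5, h6⟩ := c.uniq (OZ P).one_mem ((OZ P).mul_mem ha heP) (W.wz hz)
    (W.wz (hh.cz ha)) h4
  have h7 : z = cc h a := cc_injective w h6
  have h8 : e = a⁻¹ := eq_inv_of_mul_eq_one_right h5.symm
  rw [h8, (IsEA_OZ P).inv_eq ha, h7, cc_inv_cc]

/-- the centraliser of a nontrivial element of `Z` is a `2`-group -/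
theorem cent_two (hS : Sep G) {z : G} (hz : z * z = 1) (hz1 : z ≠ 1) :
    IsPGroup 2 (centralizer ({z} : Set G)) := by
  by_contra hcon
  obtain ⟨x, hx, hx1, hxo⟩ := exists_odd hcon
  apply hx1
  have h2 : orderOf z = 2 := orderOf_eq_prime (by rw [pow_two]; exact hz) hz1
  exact hS x z h2 hxo (mem_centralizer_singleton_iff.mp hx)

/-- every element of the two-point stabiliser acts on `Z` like a commutator map -/
theorem cnt (W : WCfg q V B P R w) {h : G} (hh : K0 V P R h) :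
    (∃ u ∈ B, u ∉ V ∧ ∀ z ∈ OZ P, cc u (cc w z) = cc h z * cc w z) ∧
      ∀ z ∈ OZ P, cc (w * h * w) z = cc h⁻¹ z := by
  have c := W.c
  obtain ⟨z₀, hz₀, hz₁⟩ := exists_ne_one_of_card c.h.q1 c.cardP
  have hy1 : cc w z₀ ≠ 1 := fun h0 => hz₁ (cc_eq_one.mp h0)
  obtain ⟨u, hu, hu2⟩ := c.surj (W.wz hz₀) hy1 (hh.cz hz₀)
  have huV : u ∉ V := by
    intro huV
    have h1 : cc u (cc w z₀) = cc w z₀ := cc_eq_self (c.h.ea.comm huV (c.OZR (W.wz hz₀)))
    rw [h1] at hu2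
    have h2 : cc h z₀ = 1 := by
      have := hu2.symm
      rwa [mul_eq_right] at this
    exact hz₁ (cc_eq_one.mp h2)
  obtain ⟨k, hk, hk1, hk2⟩ := W.key hu huV
  have h1 : cc k z₀ = cc h z₀ := by
    have := (hk1 z₀ hz₀).symm.trans hu2
    exact mul_right_cancel this
  have h2 : cc (h⁻¹ * k) z₀ = z₀ := by rw [← cc_cc, h1, cc_inv_cc]
  have h3 : h⁻¹ * k ∈ centralizer ({z₀} : Set G) := by
    rw [mem_centralizer_singleton_iff]
    exact comm_of_cc_eq_self h2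
  have hK := hh.inv.mul hk
  have h4 : h⁻¹ * k ∈ V := c.mem_V (isPGroup_zpowers_of_mem (cent_two c.hS hz₀.2.1 hz₁) h3)
    hK.N hK.P hK.R
  set v := h⁻¹ * k with hv
  have hkv : k = h * v := by rw [hv]; group
  have h5 : ∀ z ∈ OZ P, cc k z = cc h z := by
    intro z hz
    rw [hkv, ← cc_cc, cP (c.hVP h4) hz]
  refine ⟨⟨u, hu, huV, fun z hz => by rw [hk1 z hz, h5 z hz]⟩, ?_⟩
  intro z hz
  have h6 := hk2 z hz
  have h7 : cc (w * h * w) z = cc (w * k * w) z := by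
    have h8 : w * k * w = (w * h * w) * (w * v * w) := by
      rw [hkv]
      have : w * h * w * (w * v * w) = w * h * (w * w) * v * w := by group
      rw [this, W.w2]; group
    have h9 : w * v * w ∈ V := by
      have := (cc_mem (g := w) W.wN).mpr h4
      rwa [cc, W.winv] at this
    rw [h8, ← cc_cc (w * h * w) (w * v * w) z, cP (c.hVP h9) hz]
  rw [h7, h6]
  have h8 : cc k (cc h⁻¹ z) = z := by
    rw [h5 _ (hh.inv.cz hz), cc_cc_inv]
  rw [← h8, cc_inv_cc, h8]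

/-- conjugating a commutator map by an element normalising `V`, `P`, `B` -/
theorem conj_rep (W : WCfg q V B P R w) {m u : G} (hmN : m ∈ normalizer (V : Set G))
    (hmP : m ∈ normalizer (P : Set G)) (hmB : m ∈ normalizer (B : Set G)) (hu : u ∈ B)
    {f : G → G} (hf : ∀ z ∈ OZ P, cc u (cc w z) = f z * cc w z) :
    ∀ z ∈ OZ P, cc (cc m u) (cc w z) = cc m (f (cc m z)) * cc w z := by
  have c := W.c
  have hmR : cj m R ≠ P := by
    intro h
    apply c.ne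
    rw [cj_eq_iff] at h
    rw [h, cj_eq_of_mem_normalizer (inv_mem hmP)]
  obtain ⟨b, hb, hbR⟩ := c.trans (c.hR.cj_of_mem hmN) hmR
  have hbN : b ∈ normalizer (V : Set G) := c.hPN (c.hBP hb)
  set k := b⁻¹ * m with hk
  have hK : K0 V P R k := by
    refine ⟨mul_mem (inv_mem hbN) hmN, mul_mem (inv_mem (le_normalizer (c.hBP hb))) hmP, ?_⟩
    apply mem_normalizer_of_cj_eq
    rw [hk, ← cj_cj, ← hbR, cj_inv_cj]
  have hm : m = b * k := by rw [hk]; group
  have hkB : k ∈ normalizer (B : Set G) := mul_mem (inv_mem (le_normalizer hb)) hmB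
  have hku : cc k u ∈ B := (cc_mem hkB).mpr hu
  have h1 : cc m u = cc k u := by
    rw [hm, ← cc_cc]
    exact cc_eq_self (c.hB.comm hb hku)
  have h2 : ∀ z ∈ OZ P, cc m z = cc k z := by
    intro z hz
    rw [hm, ← cc_cc, cP (c.hBP hb) (hK.cz hz)]
  intro z hz
  -- `cc k⁻¹ (cc w z) = cc w (cc k z)`
  have h3 : cc k⁻¹ (cc w z) = cc w (cc k z) := by
    have h4 := (W.cnt hK.inv).2 z hz
    rw [inv_inv] at h4
    rw [← h4, ← cc_cc, ← cc_cc, W.ww]
  have h5 : f (cc k z) ∈ OZ P := by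
    have h6 := hf (cc k z) (hK.cz hz)
    have h7 := c.comm_mem (c.hBP hu) (c.OZR (W.wz (hK.cz hz)))
    rw [h6] at h7
    simpa using h7
  rw [h1, h2 z hz, h2 (f (cc k z)) h5]
  calc cc (cc k u) (cc w z) = cc k (cc u (cc k⁻¹ (cc w z))) := by
        simp only [cc]; group
    _ = cc k (f (cc k z) * cc w (cc k z)) := by rw [h3, hf _ (hK.cz hz)]
    _ = cc k (f (cc k z)) * cc w z := by rw [cc_mul, ← h3, cc_cc_inv]

end WCfg
end

end H55.CITKey
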