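import Mathlib
import Cfsg.Agent.Lib.H55.CITKey

/-!
Team T-CIT, module M9, part 3: the field of commutator maps, `q = 4`.
-/
set_option autoImplicit false
set_option linter.unusedSectionVars false

namespace H55.CITRing

open Subgroup H28.Cj H28.RelSyl Lead.CIT H55.CITM2 H55.CITCfg H55.CITCfg.Cfg H55.CITKey

universe u

section algebra

/-- in a finite domain with `2 = 0` in which all `x ≠ 0, 1` satisfy `x² + x + 1 = 0` there are at most
four elements -/
theorem card_le_four {D : Type*} [Ring D] [Finite D] [IsDomain D] (h2 : ∀ x : D, x + x = 0)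
    (h : ∀ x : D, x ≠ 0 → x ≠ 1 → x * x + x + 1 = 0) : Nat.card D ≤ 4 := by
  have hcomm := (Finite.isDomain_to_isField D).mul_comm
  by_cases hx : ∃ x : D, x ≠ 0 ∧ x ≠ 1
  · obtain ⟨x, hx0, hx1⟩ := hx
    have hsub : (Set.univ : Set D) ⊆ {0, 1, x, x + 1} := by
      intro y _
      by_cases hy0 : y = 0
      · simp [hy0]
      by_cases hy1 : y = 1
      · simp [hy1]
      have e1 := h x hx0 hx1
      have e2 := h y hy0 hy1
      have e3 : (x + y) * (x + y + 1) = 0 := by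
        have : (x + y) * (x + y + 1) = (x * x + x + 1) + (y * y + y + 1) + (x * y + y * x) -
            (1 + 1) := by noncomm_ring
        rw [this, e1, e2, hcomm y x, h2 (x * y), h2 1]; simp
      rcases mul_eq_zero.mp e3 with h4 | h4
      · have : y = x := by
          calc y = (x + x) + y := by rw [h2, zero_add]
            _ = x + (x + y) := by abel
            _ = x := by rw [h4, add_zero]
        simp [this]
      · have : y = x + 1 := by
          calc y = (x + y + 1) + (x + 1) - (x + x) - (1 + 1) := by abel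
            _ = x + 1 := by rw [h4, h2, h2]; simp
        simp [this]
    have h1 : Nat.card D = (Set.univ : Set D).ncard := (Set.ncard_univ D).symm
    rw [h1]
    refine (Set.ncard_le_ncard hsub (Set.toFinite _)).trans ?_
    refine (Set.ncard_insert_le _ _).trans ?_
    have := Set.ncard_insert_le (1 : D) {x, x + 1}
    have h3 := Set.ncard_insert_le x {x + 1}
    rw [Set.ncard_singleton] at h3
    omega
  · push Not at hx
    have hsub : (Set.univ : Set D) ⊆ {0, 1} := by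
      intro y _
      by_cases hy0 : y = 0
      · simp [hy0]
      · simp [hx y hy0]
    have h1 : Nat.card D = (Set.univ : Set D).ncard := (Set.ncard_univ D).symm
    rw [h1]
    refine (Set.ncard_le_ncard hsub (Set.toFinite _)).trans ?_
    have := Set.ncard_insert_le (0 : D) {1}
    rw [Set.ncard_singleton] at this
    omega

/-- the final computation -/
theorem final_alg {D : Type*} [Ring D] [IsDomain D] (hcomm : ∀ x y : D, x * y = y * x)
    (h2 : ∀ x : D, x + x = 0) {x x' t f : D} (hf : f ≠ 0) (h1 : x * x' = 1)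
    (ht : t * (1 + x') = 1) (h : t * f * t = f + x * f * x) : x * x + x + 1 = 0 := by
  have e1 : t * t = 1 + x * x := by
    apply mul_left_cancel₀ hf
    calc f * (t * t) = (f * t) * t := by rw [mul_assoc]
      _ = (t * f) * t := by rw [hcomm f t]
      _ = f + x * f * x := h
      _ = f + (f * x) * x := by rw [hcomm x f]
      _ = f * (1 + x * x) := by noncomm_ring
  have e2 : t * (1 + x) = x := by
    calc t * (1 + x) = t * (x' * x + x) := by rw [hcomm x' x, h1]
      _ = (t * (1 + x')) * x := by noncomm_ring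
      _ = x := by rw [ht, one_mul]
  have e3 : (1 + x) * (1 + x) = 1 + x * x := by
    calc (1 + x) * (1 + x) = 1 + x * x + (x + x) := by noncomm_ring
      _ = _ := by rw [h2, add_zero]
  have e4 : ((1 + x) * (1 + x)) * ((1 + x) * (1 + x)) = x * x := by
    calc ((1 + x) * (1 + x)) * ((1 + x) * (1 + x)) = (t * t) * ((1 + x) * (1 + x)) := by
          rw [e3, e1]
      _ = t * (t * (1 + x)) * (1 + x) := by noncomm_ring
      _ = t * x * (1 + x) := by rw [e2]
      _ = x * (t * (1 + x)) := by rw [hcomm t x]; noncomm_ring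
      _ = x * x := by rw [e2]
  have e5 : ((1 + x) * (1 + x) + x) * ((1 + x) * (1 + x) + x) = 0 := by
    set y := (1 + x) * (1 + x) with hy
    calc (y + x) * (y + x) = y * y + x * x + (y * x + x * y) := by noncomm_ring
      _ = 0 := by rw [e4, hcomm x y, h2, h2, add_zero]
  have e6 := mul_self_eq_zero.mp e5
  rw [e3] at e6
  rw [← e6]; abel

end algebra

section
variable {G : Type u} [Group G]

instance instCommOZ (D : Subgroup G) : CommGroup (OZ D) :=
  { (inferInstance : Group (OZ D)) with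
    mul_comm := fun x y => Subtype.ext (x.2.2.2 y (OZ_le D y.2)) }

/-- the endomorphism ring of `Z` -/
abbrev E (D : Subgroup G) : Type u := AddMonoid.End (Additive (OZ D))

/-- application, with values in `G` -/
def ap {D : Subgroup G} (f : E D) (z : OZ D) : OZ D := Additive.toMul (f (Additive.ofMul z))

variable {D : Subgroup G}

theorem ap_add (f g : E D) (z : OZ D) : ap (f + g) z = ap f z * ap g z := rfl
theorem ap_mul (f g : E D) (z : OZ D) : ap (f * g) z = ap f (ap g z) := rfl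
theorem ap_one (z : OZ D) : ap (1 : E D) z = z := rfl
theorem ap_zero (z : OZ D) : ap (0 : E D) z = 1 := rfl
theorem ap_map_mul (f : E D) (z y : OZ D) : ap f (z * y) = ap f z * ap f y := by
  unfold ap
  rw [ofMul_mul, map_add]
  rfl
theorem ap_map_one (f : E D) : ap f 1 = 1 := by
  unfold ap
  rw [ofMul_one, map_zero]
  rfl

theorem ap_ext {f g : E D} (h : ∀ z, ap f z = ap g z) : f = g := by
  apply AddMonoidHom.ext
  intro z
  exact h (Additive.toMul z)

/-- build an endomorphism -/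
def mkE (f : OZ D → OZ D) (hf : ∀ x y, f (x * y) = f x * f y) : E D :=
  AddMonoidHom.mk' (fun z => Additive.ofMul (f (Additive.toMul z))) (fun _ _ => hf _ _)

theorem ap_mkE (f : OZ D → OZ D) (hf : ∀ x y, f (x * y) = f x * f y) (z : OZ D) :
    ap (mkE f hf) z = f z := rfl

theorem two_eq_zero (f : E D) : f + f = 0 := by
  apply ap_ext
  intro z
  rw [ap_add, ap_zero]
  exact Subtype.ext (ap f z).2.2.1

theorem neg_eq_self (f : E D) : -f = f := neg_eq_of_add_eq_zero_left (two_eq_zero f)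

end

section
variable {G : Type u} [Group G] [Finite G] {q : ℕ} {V B P R : Subgroup G} {w : G}

instance : Finite (E P) := by
  have : Function.Injective (fun f : E P => (fun z => ap f z : OZ P → OZ P)) := by
    intro f g h
    exact ap_ext fun z => congrFun h z
  exact Finite.of_injective _ this

/-- `u` acts by `f` -/
def Rep (w u : G) (f : E P) : Prop := ∀ z : OZ P, cc u (cc w z) = (ap f z : G) * cc w z

def Eta (h : G) (f : E P) : Prop := ∀ z : OZ P, cc h z = (ap f z : G)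

theorem Rep.unique {u : G} {f g : E P} (hf : Rep w u f) (hg : Rep w u g) : f = g := by
  apply ap_ext
  intro z
  apply Subtype.ext
  exact mul_right_cancel ((hf z).symm.trans (hg z))

theorem Eta.unique {h : G} {f g : E P} (hf : Eta h f) (hg : Eta h g) : f = g := by
  apply ap_ext
  intro z
  apply Subtype.ext
  exact (hf z).symm.trans (hg z)

theorem exists_Eta {h : G} (hh : h ∈ normalizer (P : Set G)) : ∃ f : E P, Eta h f := by
  refine ⟨mkE (fun z => ⟨cc h z, (cc_mem (norm_OZ hh)).mpr z.2⟩) ?_, ?_⟩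
  · intro x y
    apply Subtype.ext
    exact cc_mul h x y
  · intro z
    rw [ap_mkE]

theorem Eta.mul {h k : G} {f g : E P} (hf : Eta h f) (hg : Eta k g) : Eta (h * k) (f * g) := by
  intro z
  rw [← cc_cc, hg z, hf (ap g z), ap_mul]

theorem Eta.one : Eta (1 : G) (1 : E P) := by
  intro z
  rw [cc_one_left, ap_one]

theorem exists_Rep (W : WCfg q V B P R w) {u : G} (hu : u ∈ B) : ∃ f : E P, Rep w u f := by
  have c := W.c
  have hm : ∀ z : OZ P, cc u (cc w z) * (cc w z)⁻¹ ∈ OZ P := fun z =>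
    c.comm_mem (c.hBP hu) (c.OZR (W.wz z.2))
  refine ⟨mkE (fun z => ⟨cc u (cc w z) * (cc w z)⁻¹, hm z⟩) ?_, ?_⟩
  · rintro ⟨x, hx⟩ ⟨y, hy⟩
    apply Subtype.ext
    show cc u (cc w (x * y)) * (cc w (x * y))⁻¹ =
      cc u (cc w x) * (cc w x)⁻¹ * (cc u (cc w y) * (cc w y)⁻¹)
    have h1 : (cc w x)⁻¹ * (cc u (cc w y) * (cc w y)⁻¹) =
        (cc u (cc w y) * (cc w y)⁻¹) * (cc w x)⁻¹ :=
      ((hm ⟨y, hy⟩).2.2 _ (P.inv_mem (c.hVP (c.OZR (W.wz hx))))).symm
    calc cc u (cc w (x * y)) * (cc w (x * y))⁻¹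
        = cc u (cc w x) * ((cc u (cc w y) * (cc w y)⁻¹) * (cc w x)⁻¹) := by
          rw [cc_mul w, cc_mul u]; group
      _ = cc u (cc w x) * ((cc w x)⁻¹ * (cc u (cc w y) * (cc w y)⁻¹)) := by rw [h1]
      _ = _ := by group
  · intro z
    rw [ap_mkE]
    group

theorem Rep.mul (W : WCfg q V B P R w) {u v : G} {f g : E P} (hu : u ∈ B) (hf : Rep w u f)
    (hg : Rep w v g) : Rep w (u * v) (f + g) := by
  intro z
  have h1 : cc u (ap g z : G) = ap g z := WCfg.cP (W.c.hBP hu) (ap g z).2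
  rw [← cc_cc, hg z, cc_mul, h1, hf z, ap_add, mul_comm (ap f z)]
  simp only [Subgroup.coe_mul]
  group

theorem Rep.zero_of_mem (W : WCfg q V B P R w) {u : G} {f : E P} (hu : u ∈ V)
    (hf : Rep w u f) : f = 0 := by
  apply ap_ext
  intro z
  have h1 : cc u (cc w z) = cc w z := cc_eq_self (W.c.h.ea.comm hu (W.c.OZR (W.wz z.2)))
  have h2 := hf z
  rw [h1] at h2
  rw [ap_zero]
  apply Subtype.ext
  have := h2.symm
  rwa [mul_eq_right] at this

theorem Rep.ne_zero (W : WCfg q V B P R w) {u : G} {f : E P} (hu : u ∈ B) (huV : u ∉ V)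
    (hf : Rep w u f) : f ≠ 0 := by
  rintro rfl
  obtain ⟨z₀, hz₀, hz₁⟩ := exists_ne_one_of_card W.c.h.q1 W.c.cardP
  obtain ⟨h, -, h1, -⟩ := W.key hu huV
  have h2 := h1 z₀ hz₀
  have h3 : cc u (cc w z₀) = (ap (0 : E P) ⟨z₀, hz₀⟩ : G) * cc w z₀ := hf ⟨z₀, hz₀⟩
  rw [ap_zero] at h3
  have h4 : cc h z₀ = 1 := mul_right_cancel (h2.symm.trans h3)
  exact hz₁ (cc_eq_one.mp h4)

/-- a nonzero commutator map is given by an element of the two-point stabiliser -/
theorem Rep.eta (W : WCfg q V B P R w) {u : G} {f : E P} (hu : u ∈ B) (hf : Rep w u f)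
    (hf0 : f ≠ 0) : ∃ h, K0 V P R h ∧ Eta h f := by
  have huV : u ∉ V := fun h => hf0 (hf.zero_of_mem W h)
  obtain ⟨h, hh, h1, -⟩ := W.key hu huV
  refine ⟨h, hh, fun z => ?_⟩
  exact mul_right_cancel ((h1 z z.2).symm.trans (hf z))

theorem Eta.rep (W : WCfg q V B P R w) {h : G} (hh : K0 V P R h) {f : E P} (hf : Eta h f) :
    ∃ u ∈ B, u ∉ V ∧ Rep w u f := by
  obtain ⟨⟨u, hu, huV, hu2⟩, -⟩ := W.cnt hh
  refine ⟨u, hu, huV, fun z => ?_⟩
  rw [hu2 z z.2, hf z]

/-- the ring of commutator maps -/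
def DD (W : WCfg q V B P R w) : Subring (E P) where
  carrier := {f | ∃ u ∈ B, Rep w u f}
  zero_mem' := ⟨1, B.one_mem, fun z => by rw [cc_one_left, ap_zero]; simp⟩
  one_mem' := by
    obtain ⟨u, hu, -, h⟩ := (Eta.one (P := P)).rep W K0.one
    exact ⟨u, hu, h⟩
  add_mem' := by
    rintro f g ⟨u, hu, hf⟩ ⟨v, hv, hg⟩
    exact ⟨u * v, B.mul_mem hu hv, hf.mul W hu hg⟩
  neg_mem' := by
    rintro f ⟨u, hu, hf⟩
    rw [neg_eq_self]
    exact ⟨u, hu, hf⟩
  mul_mem' := by
    rintro f g ⟨u, hu, hf⟩ ⟨v, hv, hg⟩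
    by_cases hf0 : f = 0
    · subst hf0
      rw [zero_mul]
      exact ⟨1, B.one_mem, fun z => by rw [cc_one_left, ap_zero]; simp⟩
    by_cases hg0 : g = 0
    · subst hg0
      rw [mul_zero]
      exact ⟨1, B.one_mem, fun z => by rw [cc_one_left, ap_zero]; simp⟩
    obtain ⟨h, hh, h1⟩ := hf.eta W hu hf0
    obtain ⟨k, hk, h2⟩ := hg.eta W hv hg0
    obtain ⟨u', hu', -, h3⟩ := (h1.mul h2).rep W (hh.mul hk)
    exact ⟨u', hu', h3⟩

theorem mem_DD (W : WCfg q V B P R w) {f : E P} : f ∈ DD W ↔ ∃ u ∈ B, Rep w u f := Iff.rfl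

theorem Eta.mem_DD (W : WCfg q V B P R w) {h : G} (hh : K0 V P R h) {f : E P} (hf : Eta h f) :
    f ∈ DD W := by
  obtain ⟨u, hu, -, h⟩ := hf.rep W hh
  exact ⟨u, hu, h⟩

theorem DD_isDomain (W : WCfg q V B P R w) : IsDomain (DD W) := by
  obtain ⟨z₀, hz₀, hz₁⟩ := exists_ne_one_of_card W.c.h.q1 W.c.cardP
  have hnt : Nontrivial (DD W) := by
    refine ⟨0, 1, ?_⟩
    intro h
    have h1 : (0 : E P) = 1 := congrArg Subtype.val h
    have h2 := congrArg (fun f => (ap f ⟨z₀, hz₀⟩ : G)) h1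
    simp only [ap_zero, ap_one] at h2
    exact hz₁ h2.symm
  have hnz : NoZeroDivisors (DD W) := by
    constructor
    rintro ⟨f, hf⟩ ⟨g, hg⟩ hfg
    by_contra hcon
    push Not at hcon
    obtain ⟨hf0, hg0⟩ := hcon
    have hf0' : f ≠ 0 := fun h => hf0 (Subtype.ext h)
    obtain ⟨u, hu, hu2⟩ := hf
    obtain ⟨h, hh, h1⟩ := hu2.eta W hu hf0'
    apply hg0
    apply Subtype.ext
    apply ap_ext
    intro z
    have h2 : f * g = 0 := congrArg Subtype.val hfg
    have h3 := congrArg (fun f => (ap f z : G)) h2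
    simp only [ap_zero, ap_mul] at h3
    rw [← h1 (ap g z)] at h3
    have h4 := cc_eq_one.mp h3
    show ap g z = ap (0 : E P) z
    rw [ap_zero]
    exact Subtype.ext h4
  exact NoZeroDivisors.to_isDomain _

theorem DD_card (W : WCfg q V B P R w) : q ≤ Nat.card (DD W) := by
  obtain ⟨z₀, hz₀, hz₁⟩ := exists_ne_one_of_card W.c.h.q1 W.c.cardP
  have hs : Function.Surjective (fun f : DD W => ap (f : E P) ⟨z₀, hz₀⟩) := by
    intro z
    obtain ⟨u, hu, h1⟩ := W.c.surj (W.wz hz₀) (fun h => hz₁ (cc_eq_one.mp h)) z.2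
    obtain ⟨f, hf⟩ := exists_Rep W hu
    refine ⟨⟨f, u, hu, hf⟩, ?_⟩
    apply Subtype.ext
    exact mul_right_cancel ((hf ⟨z₀, hz₀⟩).symm.trans h1)
  exact W.c.cardP.symm.le.trans (Nat.card_le_card_of_surjective _ hs)

/-- a subgroup contained in the union of two subgroups -/
theorem le_or_le_of_union {H A C : Subgroup G} (h : ∀ x ∈ H, x ∈ A ∨ x ∈ C) : H ≤ A ∨ H ≤ C := by
  by_contra hcon
  push Not at hcon
  obtain ⟨x, hx, hxA⟩ := SetLike.not_le_iff_exists.mp hcon.1
  obtain ⟨y, hy, hyC⟩ := SetLike.not_le_iff_exists.mp hcon.2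
  have hxC : x ∈ C := (h x hx).resolve_left hxA
  have hyA : y ∈ A := (h y hy).resolve_right hyC
  rcases h _ (H.mul_mem hx hy) with h1 | h1
  · exact hxA (by simpa using A.mul_mem h1 (A.inv_mem hyA))
  · exact hyC (by simpa using C.mul_mem (C.inv_mem hxC) h1)

/-- an element normalising `S` and `V` normalises `V'` -/
theorem norm_other {V' S : Subgroup G} (hcard : Nat.card V' = Nat.card V) (hne : V' ≠ V)
    (hV'S : V' ≤ S) (hea : IsEA V') (hinv : ∀ x ∈ S, x * x = 1 → x ∈ V ∨ x ∈ V') {h : G}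
    (hS : h ∈ normalizer (S : Set G)) (hV : h ∈ normalizer (V : Set G)) :
    h ∈ normalizer (V' : Set G) := by
  apply mem_normalizer_of_cj_eq
  have h1 : ∀ x ∈ cj h V', x ∈ V ∨ x ∈ V' := by
    intro x hx
    rw [mem_cj] at hx
    apply hinv
    · have : cc h (h⁻¹ * x * h) ∈ S := (cc_mem hS).mpr (hV'S hx)
      simp only [cc] at this
      convert this using 1
      group
    · have := hea _ hx
      calc x * x = h * ((h⁻¹ * x * h) * (h⁻¹ * x * h)) * h⁻¹ := by group
        _ = 1 := by rw [this]; group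
  rcases le_or_le_of_union h1 with h2 | h2
  · exfalso
    have h3 : cj h V' = V := eq_of_le_of_card_ge h2 (by rw [card_cj, hcard])
    have h4 : cj h V' = cj h V := by rw [h3, cj_eq_of_mem_normalizer hV]
    exact hne (cj_injective h h4)
  · exact eq_of_le_of_card_ge h2 (by rw [card_cj])

/-- the main relation -/
theorem relation {V' S R' : Subgroup G} {w' : G} (W : WCfg q V V' S R w)
    (W' : WCfg q V' V S R' w') (hne : V' ≠ V)
    (hinv : ∀ x ∈ S, x * x = 1 → x ∈ V ∨ x ∈ V') (x : DD W) (hx0 : x ≠ 0) (hx1 : x ≠ 1) :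
    x * x + x + 1 = 0 := by
  classical
  have hdom := DD_isDomain W
  have c := W.c
  have c' := W'.c
  have hcardV : Nat.card V' = Nat.card V := by rw [c.h.card, c'.h.card]
  have hnV' : ∀ {h : G}, h ∈ normalizer (S : Set G) → h ∈ normalizer (V : Set G) →
      h ∈ normalizer (V' : Set G) := fun h1 h2 =>
    norm_other hcardV hne c'.hVP c'.h.ea hinv h1 h2
  have hnV : ∀ {h : G}, h ∈ normalizer (S : Set G) → h ∈ normalizer (V' : Set G) →
      h ∈ normalizer (V : Set G) := fun h1 h2 =>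
    norm_other hcardV.symm hne.symm c.hVP c.h.ea (fun x hx hx2 => (hinv x hx hx2).symm) h1 h2
  -- passing from one two-point stabiliser to the other
  have hswitch : ∀ {h : G}, K0 V S R h → ∃ k, K0 V' S R' k ∧ ∀ z ∈ OZ S, cc k z = cc h z := by
    intro h hh
    have hN' := hnV' hh.P hh.N
    have hne' : cj h R' ≠ S := by
      intro h1
      apply c'.ne
      rw [cj_eq_iff] at h1
      rw [h1, cj_eq_of_mem_normalizer (inv_mem hh.P)]
    obtain ⟨b, hb, hbR⟩ := c'.trans (c'.hR.cj_of_mem hN') hne'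
    have hbS : b ∈ S := c'.hBP hb
    refine ⟨b⁻¹ * h, ⟨mul_mem (inv_mem (c'.hPN hbS)) hN',
      mul_mem (inv_mem (le_normalizer hbS)) hh.P, ?_⟩, ?_⟩
    · apply mem_normalizer_of_cj_eq
      rw [← cj_cj, ← hbR, cj_inv_cj]
    · intro z hz
      rw [← cc_cc]
      exact WCfg.cP (S.inv_mem hbS) (hh.cz hz)
  obtain ⟨⟨x, hxD⟩, rfl⟩ : ∃ y : DD W, y = x := ⟨x, rfl⟩
  have hxx0 : x ≠ 0 := fun h => hx0 (Subtype.ext h)
  obtain ⟨u₀, hu₀, hu₀'⟩ := hxD
  obtain ⟨h, hh, hhx⟩ := hu₀'.eta W hu₀ hxx0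
  obtain ⟨k, hk, hkh⟩ := hswitch hh
  obtain ⟨x', hx'⟩ := exists_Eta (P := S) (inv_mem hh.P)
  have hx'D : x' ∈ DD W := hx'.mem_DD W hh.inv
  have hxx' : x * x' = 1 := by
    have h1 := hhx.mul hx'
    rw [mul_inv_cancel] at h1
    exact h1.unique Eta.one
  have h1x' : (1 : E S) + x' ∈ DD W := (DD W).add_mem (DD W).one_mem hx'D
  have h1x'0 : (1 : E S) + x' ≠ 0 := by
    intro h1
    apply hx1
    apply Subtype.ext
    have h2 : x' = 1 := by
      calc x' = (1 + 1) + x' := by rw [two_eq_zero, zero_add]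
        _ = 1 + (1 + x') := by abel
        _ = 1 := by rw [h1, add_zero]
    rw [h2, mul_one] at hxx'
    exact hxx'
  obtain ⟨u₄, hu₄, hu₄'⟩ := h1x'
  obtain ⟨h₄, hh₄, hhx₄⟩ := hu₄'.eta W hu₄ h1x'0
  obtain ⟨k₄, hk₄, hkh₄⟩ := hswitch hh₄
  obtain ⟨t, ht⟩ := exists_Eta (P := S) (inv_mem hh₄.P)
  have htD : t ∈ DD W := ht.mem_DD W hh₄.inv
  have ht1 : t * (1 + x') = 1 := by
    have h1 := ht.mul hhx₄
    rw [inv_mul_cancel] at h1
    exact h1.unique Eta.one
  -- the element `u`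
  obtain ⟨z₀, hz₀, hz₁⟩ := exists_ne_one_of_card c.h.q1 c.cardP
  set u := cc w' z₀ with hu
  have huR : u ∈ OZ R' := W'.wz hz₀
  have huV' : u ∈ V' := c'.OZR huR
  have huV : u ∉ V := by
    intro h1
    have h2 : u ∈ OZ S := by rw [← c.inf]; exact mem_inf.mpr ⟨h1, huV'⟩
    have h3 := c'.disjPR h2 huR
    exact hz₁ (cc_eq_one.mp h3)
  obtain ⟨f, hf⟩ := exists_Rep W huV'
  have hf0 := hf.ne_zero W huV' huV
  -- conjugates of `u`
  have hconj : ∀ {k : G}, K0 V' S R' k → ∀ z ∈ OZ S, cc k (cc w' z) = cc w' (cc k⁻¹ z) := by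
    intro k hk z hz
    have h1 := (W'.cnt hk).2 z hz
    rw [← h1, ← cc_cc, ← cc_cc, W'.ww]
  have hku : cc k u = cc w' (cc h⁻¹ z₀) := by
    rw [hu, hconj hk z₀ hz₀]
    congr 1
    apply cc_injective k
    rw [cc_cc_inv, hkh _ (hh.inv.cz hz₀), cc_cc_inv]
  have hku4 : cc k₄⁻¹ u = u * cc k u := by
    rw [hku, hu, hconj hk₄.inv z₀ hz₀, inv_inv, hkh₄ z₀ hz₀, ← cc_mul]
    congr 1
    have h1 : cc h₄ z₀ = (ap (1 + x') ⟨z₀, hz₀⟩ : G) := hhx₄ ⟨z₀, hz₀⟩
    have h2 : cc h⁻¹ z₀ = (ap x' ⟨z₀, hz₀⟩ : G) := hx' ⟨z₀, hz₀⟩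
    rw [h1, h2, ap_add]
    rfl
  -- `Rep` of the conjugates
  have hrep : ∀ {k : G} {y : E S}, K0 V' S R' k → Eta k y → Rep w (cc k u) (y * f * y) := by
    intro k y hk hy
    have h1 := W.conj_rep (hnV hk.P hk.N) hk.P hk.N huV'
      (f := fun g => if hg : g ∈ OZ S then (ap f ⟨g, hg⟩ : G) else 1) ?_
    · intro z
      have h2 := h1 z z.2
      rw [h2]
      have h3 : cc k (z : G) ∈ OZ S := hk.cz z.2
      rw [dif_pos h3]
      have h4 : (⟨cc k (z : G), h3⟩ : OZ S) = ap y z := Subtype.ext (hy z)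
      rw [h4, hy, ap_mul, ap_mul]
    · intro z hz
      rw [dif_pos hz]
      exact hf ⟨z, hz⟩
  have hxk : Eta k x := fun z => by rw [hkh z z.2, hhx z]
  have htk : Eta k₄⁻¹ t := fun z => by
    rw [← ht z]
    apply cc_injective k₄
    rw [cc_cc_inv, hkh₄ _ (hh₄.inv.cz z.2), cc_cc_inv]
  have e1 := hrep hk hxk
  have e2 := hrep hk₄.inv htk
  have e3 := hf.mul W huV' e1
  rw [← hku4] at e3
  have e4 : t * f * t = f + x * f * x := e2.unique e3
  have hfD : f ∈ DD W := ⟨u, huV', hf⟩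
  have hcomm := (Finite.isDomain_to_isField (DD W)).mul_comm
  exact final_alg hcomm (fun y => Subtype.ext (two_eq_zero _)) (x := ⟨x, u₀, hu₀, hu₀'⟩)
    (x' := ⟨x', hx'D⟩) (t := ⟨t, htD⟩) (f := ⟨f, hfD⟩)
    (fun h => hf0 (congrArg Subtype.val h)) (Subtype.ext hxx') (Subtype.ext ht1)
    (Subtype.ext e4)

/-- **M9** -/
theorem q_four (hS : Sep G) (hq : 2 < q) {V' S : Subgroup G} (h : Nat2 q V) (h' : Nat2 q V')
    (hP : IsSyl 2 S (normalizer (V : Set G))) (hP' : IsSyl 2 S (normalizer (V' : Set G)))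
    (hf : ¬ V' ≤ centralizer (V : Set G)) : q = 4 := by
  obtain ⟨hC, hC', hsup, hinf, -, hinv⟩ := b_one hS h h' hP hP' hf
  have hne : V' ≠ V := by
    rintro rfl
    exact hf h'.ea.le_centralizer
  -- second Sylow subgroups
  have hex : ∀ {V : Subgroup G}, Nat2 q V → ∃ R, IsSyl 2 R (normalizer (V : Set G)) ∧ R ≠ S := by
    intro V h
    obtain ⟨P₁, P₂, hP₁, hP₂, hne⟩ := h.ex
    by_cases h3 : P₁ = S
    · exact ⟨P₂, hP₂, fun h4 => hne (h3.trans h4.symm)⟩
    · exact ⟨P₁, hP₁, h3⟩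
  obtain ⟨R, hR, hRS⟩ := hex h
  obtain ⟨R', hR', hRS'⟩ := hex h'
  have c : Cfg q V V' S R := ⟨hS, h, hC, hP, hR, hRS, h'.ea, hsup.symm, hinf, h'.card⟩
  have c' : Cfg q V' V S R' := ⟨hS, h', hC', hP', hR', hRS', h.ea,
    by rw [sup_comm]; exact hsup.symm, by rw [inf_comm]; exact hinf, h.card⟩
  obtain ⟨w, w1, w2, w3, w4⟩ := c.swap
  obtain ⟨w', w1', w2', w3', w4'⟩ := c'.swap
  have W : WCfg q V V' S R w := ⟨c, w1, w2, w3, w4⟩
  have W' : WCfg q V' V S R' w' := ⟨c', w1', w2', w3', w4'⟩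
  have hdom := DD_isDomain W
  have h4 : Nat.card (DD W) ≤ 4 := card_le_four (fun y => Subtype.ext (two_eq_zero _))
    (fun x hx0 hx1 => relation W W' hne hinv x hx0 hx1)
  have h5 := (DD_card W).trans h4
  obtain ⟨n, hn⟩ := IsPGroup.iff_card.mp (IsEA_OZ S).isPGroup
  rw [c.cardP] at hn
  have hq3 : q ≠ 3 := by
    intro h3
    rw [h3] at hn
    rcases n with - | n
    · simp at hn
    · rw [pow_succ] at hn; omega
  omega

/-- **M9**, interface form -/
theorem q_four' (hS : Sep G) (hq : 2 < q) {V' S : Subgroup G} (h : Nat2 q V) (h' : Nat2 q V')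
    (hP : IsSyl 2 S (normalizer (V : Set G))) (hP' : IsSyl 2 S (normalizer (V' : Set G)))
    (hf : ¬ V' ≤ centralizer (V : Set G)) (_hST : IsSyl 2 S ⊤) : q = 4 :=
  q_four hS hq h h' hP hP' hf

end

end H55.CITRing
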