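import Cfsg.Agent.Lib.H26.ZStarUse
import Cfsg.Agent.Lib.H5.ZStar
import Cfsg.Agent.Lib.H55.Isolated
import Cfsg.Agent.Lib.H2.Residual
import Cfsg.Agent.Lib.H1.Coprime2

/-!
`Z*` for isolated 2-elements and S2962.
-/

set_option autoImplicit false

open Cfsg Subgroup
open scoped commutatorElement Pointwise

namespace H55.SharedCent

universe u

/-- the `Z*`-hypothesis of `H26.ZStarUse` holds -/
theorem zstarHyp : H26.ZStarUse.ZStarHyp.{u} := by
  intro G _ _ P u hu _ hiso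
  refine ⟨pPrimeCore 2 G, inferInstance, ?_, H5.ZStar.sylow_form P u hu hiso⟩
  have h := H1.Cores.coprime_card_pPrimeCore (G := G) 2
  exact Nat.coprime_two_right.mp h

section

variable {G : Type u} [Group G] [Finite G]

theorem not_le_commutator {p : ℕ} [Fact p.Prime] {T Q : Subgroup G} (hT : IsPGroup p T)
    (hQ : IsPGroup p Q) (hQT : Q ≤ normalizer (T : Set G)) (hT1 : T ≠ ⊥) : ⁅T, T ⊔ Q⁆ < T := by
  have hTQ : T ⊔ Q ≤ normalizer (T : Set G) := sup_le Subgroup.le_normalizer hQT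
  have hp : IsPGroup p (T ⊔ Q : Subgroup G) := hT.to_sup_of_normal_left' hQ hQT
  refine lt_of_le_of_ne ?_ ?_
  · rw [Subgroup.commutator_le]
    intro x hx y hy
    have h1 := (Subgroup.mem_normalizer_iff.mp (hTQ hy) x⁻¹).mp (inv_mem hx)
    rw [commutatorElement_def]
    have h2 := mul_mem hx h1
    rwa [← mul_assoc, ← mul_assoc] at h2
  · intro h
    apply hT1
    rw [eq_bot_iff]
    apply H2.Residual.le_of_le_sup_commutator hp.isNilpotent bot_le le_sup_left
    · exact Subgroup.le_normalizer_of_normal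
    · rw [h, bot_sup_eq]

/-- If `t ∈ Q'` and `C_T(t) ≤ C(Q)` then `T ≤ C(Q)` (for `p`-groups `Q` acting on `T`). -/
theorem le_centralizer {p : ℕ} [Fact p.Prime] (n : ℕ) : ∀ {T Q : Subgroup G}, Nat.card T = n →
    IsPGroup p T → IsPGroup p Q → Q ≤ normalizer (T : Set G) → ∀ {t : G}, t ∈ ⁅Q, Q⁆ →
    T ⊓ centralizer ({t} : Set G) ≤ centralizer (Q : Set G) → T ≤ centralizer (Q : Set G) := by
  induction n using Nat.strong_induction_on with
  | _ n ih =>
    intro T Q hcard hT hQ hQT t ht hC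
    by_cases hT1 : T = ⊥
    · rw [hT1]; exact bot_le
    set E := ⁅T, T ⊔ Q⁆ with hE
    have hET : E < T := not_le_commutator hT hQ hQT hT1
    have hTQn : T ⊔ Q ≤ normalizer (E : Set G) :=
      H1.Coprime2.le_normalizer_commutator (sup_le Subgroup.le_normalizer hQT)
        Subgroup.le_normalizer
    have hEc : E ≤ centralizer (Q : Set G) := by
      refine ih (Nat.card E) ?_ rfl (hT.to_le hET.le) hQ (le_sup_right.trans hTQn) ht ?_
      · rw [← hcard]
        exact Set.Finite.card_lt_card (Set.toFinite _) hET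
      · exact (inf_le_inf_right _ hET.le).trans hC
    have hDE : ⁅T, Q⁆ ≤ E := Subgroup.commutator_mono le_rfl le_sup_right
    have hTTE : ⁅T, T⁆ ≤ E := Subgroup.commutator_mono le_rfl le_sup_left
    have hDT : ⁅T, Q⁆ ≤ T := hDE.trans hET.le
    have hDc : ⁅T, Q⁆ ≤ centralizer (Q : Set G) := hDE.trans hEc
    have habel : ⁅⁅T, Q⁆, ⁅T, Q⁆⁆ = ⊥ := by
      apply Subgroup.commutator_commutator_eq_bot_of_rotate
      · have h1 : ⁅Q, ⁅T, Q⁆⁆ = ⊥ := by
          rw [Subgroup.commutator_comm, Subgroup.commutator_eq_bot_iff_le_centralizer]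
          exact hDc
        rw [h1, Subgroup.commutator_bot_left]
      · rw [Subgroup.commutator_eq_bot_iff_le_centralizer]
        exact (Subgroup.commutator_mono hDT le_rfl).trans (hTTE.trans hEc)
    rw [Subgroup.commutator_eq_bot_iff_le_centralizer] at habel
    intro x hx
    -- the homomorphism `u ↦ [x, u]`
    have hmul : ∀ u ∈ Q, ∀ v ∈ Q, ⁅x, u * v⁆ = ⁅x, u⁆ * ⁅x, v⁆ := by
      intro u hu v hv
      have h1 : ⁅x, v⁆ ∈ ⁅T, Q⁆ := Subgroup.commutator_mem_commutator hx hv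
      have h2 : u * ⁅x, v⁆ = ⁅x, v⁆ * u := Subgroup.mem_centralizer_iff.mp (hDc h1) u hu
      have h3 : ⁅x, u * v⁆ = ⁅x, u⁆ * (u * ⁅x, v⁆ * u⁻¹) := by
        simp only [commutatorElement_def]; group
      rw [h3, h2, mul_inv_cancel_right]
    let f : Q →* G :=
      { toFun := fun u => ⁅x, (u : G)⁆
        map_one' := by simp
        map_mul' := fun u v => hmul u u.2 v v.2 }
    have hfc : ∀ u v : Q, f u * f v = f v * f u := by
      intro u v
      have h1 : f u ∈ ⁅T, Q⁆ := Subgroup.commutator_mem_commutator hx u.2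
      have h2 : f v ∈ ⁅T, Q⁆ := Subgroup.commutator_mem_commutator hx v.2
      exact (Subgroup.mem_centralizer_iff.mp (habel h1) _ h2).symm
    have hQQ : ⁅Q, Q⁆ ≤ f.ker.map Q.subtype := by
      rw [Subgroup.commutator_le]
      intro u hu v hv
      refine ⟨⁅(⟨u, hu⟩ : Q), (⟨v, hv⟩ : Q)⁆, ?_, rfl⟩
      rw [SetLike.mem_coe, MonoidHom.mem_ker, map_commutatorElement, commutatorElement_eq_one_iff_mul_comm]
      exact hfc _ _
    obtain ⟨u, hu, hut⟩ := hQQ ht
    have h1 : ⁅x, t⁆ = 1 := by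
      rw [← hut]
      exact hu
    apply hC
    exact ⟨hx, Subgroup.mem_centralizer_singleton_iff.mpr
      (commutatorElement_eq_one_iff_mul_comm.mp h1)⟩

theorem conj_smul_mem {g x : G} {H : Subgroup G} (h : x ∈ H) : g * x * g⁻¹ ∈ MulAut.conj g • H := by
  rw [H1.SZ.mem_conj_smul]
  have : g⁻¹ * (g * x * g⁻¹) * g = x := by group
  rwa [this]

theorem conj_centralizer {g : G} {H K : Subgroup G} (h : H ≤ centralizer (K : Set G)) :
    (MulAut.conj g • H : Subgroup G) ≤ centralizer ((MulAut.conj g • K : Subgroup G) : Set G) := by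
  intro x hx
  rw [Subgroup.mem_centralizer_iff]
  intro y hy
  rw [SetLike.mem_coe, H1.SZ.mem_conj_smul] at hy
  rw [H1.SZ.mem_conj_smul] at hx
  have h1 := Subgroup.mem_centralizer_iff.mp (h hx) _ hy
  have h2 : y * x = g * ((g⁻¹ * y * g) * (g⁻¹ * x * g)) * g⁻¹ := by group
  have h3 : x * y = g * ((g⁻¹ * x * g) * (g⁻¹ * y * g)) * g⁻¹ := by group
  rw [h2, h3, h1]

/-- In the situation of S2962, `t` is the only conjugate of itself in a suitable Sylow subgroup. -/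
theorem iso (N Q : Subgroup G) [N.Normal] (hG : Q ⊔ N = ⊤) (hQ : IsPGroup 2 Q)
    (hdisj : Q ⊓ N = ⊥) (t : G) (htZ : t ∈ Q ⊓ centralizer (Q : Set G)) (htQ : t ∈ ⁅Q, Q⁆)
    (hC : N ⊓ centralizer (Q : Set G) = N ⊓ centralizer ({t} : Set G))
    (S : Sylow 2 G) (hQS : Q ≤ (S : Subgroup G)) (g : G) (hg : g * t * g⁻¹ ∈ (S : Subgroup G)) :
    g * t * g⁻¹ = t := by
  have hf2 := Fact.mk Nat.prime_two
  -- a `Q`-invariant 2-subgroup of `N` is centralized by `Q`
  have hcent : ∀ T : Subgroup G, T ≤ N → IsPGroup 2 T → Q ≤ normalizer (T : Set G) →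
      T ≤ centralizer (Q : Set G) := by
    intro T hTN hT hQT
    refine le_centralizer _ rfl hT hQ hQT htQ ?_
    intro x hx
    have h1 : x ∈ N ⊓ centralizer ({t} : Set G) := ⟨hTN hx.1, hx.2⟩
    rw [← hC] at h1
    exact h1.2
  have hinv : ∀ (R : Subgroup G), Q ≤ R → Q ≤ normalizer ((R ⊓ N : Subgroup G) : Set G) := by
    intro R hQR
    refine (le_inf (hQR.trans Subgroup.le_normalizer) Subgroup.le_normalizer_of_normal).trans
      Subgroup.inf_normalizer_le_normalizer_inf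
  set T := (S : Subgroup G) ⊓ N with hT
  have hTp : IsPGroup 2 T := S.2.to_le inf_le_left
  have hTQ : T ≤ centralizer (Q : Set G) := hcent T inf_le_right hTp (hinv _ hQS)
  have hSdec0 : ∀ R : Subgroup G, Q ≤ R → ∀ x ∈ R, ∃ q ∈ Q, ∃ n ∈ R ⊓ N, x = q * n := by
    intro R hQR x hx
    have h1 : x ∈ Q ⊔ N := by rw [hG]; trivial
    obtain ⟨q, hq, n, hn, rfl⟩ := Subgroup.mem_sup_of_normal_right.mp h1
    refine ⟨q, hq, n, ⟨?_, hn⟩, rfl⟩
    have h2 : n = q⁻¹ * (q * n) := by group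
    rw [h2]
    exact R.mul_mem (R.inv_mem (hQR hq)) hx
  have hSdec : ∀ R : Subgroup G, Q ≤ R → R ≤ Q ⊔ (R ⊓ N) := by
    intro R hQR x hx
    obtain ⟨q, hq, n, hn, rfl⟩ := hSdec0 R hQR x hx
    exact mul_mem (mem_sup_left hq) (mem_sup_right hn)
  have hSt : (S : Subgroup G) ≤ centralizer ({t} : Set G) := by
    refine (hSdec _ hQS).trans (sup_le ?_ ?_)
    · intro q hq
      rw [Subgroup.mem_centralizer_singleton_iff]
      exact Subgroup.mem_centralizer_iff.mp htZ.2 q hq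
    · intro x hx
      rw [Subgroup.mem_centralizer_singleton_iff]
      exact (Subgroup.mem_centralizer_iff.mp (hTQ hx) t htZ.1).symm
  -- mod `N`, `t` is central
  have hmod : ∀ h : G, t⁻¹ * (h * t * h⁻¹) ∈ N := by
    intro h
    have h1 : h ∈ Q ⊔ N := by rw [hG]; trivial
    obtain ⟨q, hq, n, hn, rfl⟩ := Subgroup.mem_sup_of_normal_right.mp h1
    have hqt : q * t = t * q := Subgroup.mem_centralizer_iff.mp htZ.2 q hq
    have h2 : t⁻¹ * (q * n * t * (q * n)⁻¹) = (t⁻¹ * (q * n * q⁻¹) * t) * (q * n⁻¹ * q⁻¹) := by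
      have h3 : t⁻¹ * (q * n * t * (q * n)⁻¹) = t⁻¹ * (q * n * q⁻¹) * (q * t) * (n⁻¹ * q⁻¹) := by
        group
      rw [h3, hqt]
      group
    rw [h2]
    refine N.mul_mem ?_ (‹N.Normal›.conj_mem _ (N.inv_mem hn) q)
    have h4 := ‹N.Normal›.conj_mem _ (‹N.Normal›.conj_mem _ hn q) t⁻¹
    rwa [inv_inv] at h4
  set t' := g * t * g⁻¹ with ht'
  set C : Subgroup G := centralizer ({t'} : Set G) with hCdef
  -- `Q ≤ C(t')`
  have hQC : Q ≤ C := by
    intro q hq
    rw [hCdef, Subgroup.mem_centralizer_singleton_iff]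
    have hv : t⁻¹ * t' ∈ T := ⟨(S : Subgroup G).mul_mem ((S : Subgroup G).inv_mem (hQS htZ.1)) hg,
      hmod g⟩
    have h1 := Subgroup.mem_centralizer_iff.mp (hTQ hv) q hq
    have hqt : q * t = t * q := Subgroup.mem_centralizer_iff.mp htZ.2 q hq
    have h2 : q * t' = (q * t) * (t⁻¹ * t') := by group
    have h3 : t' * q = t * ((t⁻¹ * t') * q) := by group
    rw [h2, hqt, h3, ← h1]
    group
  have hSg : ((g • S : Sylow 2 G) : Subgroup G) ≤ C := by
    rintro _ ⟨z, hz, rfl⟩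
    rw [hCdef, Subgroup.mem_centralizer_singleton_iff]
    have h1 : z * t = t * z := Subgroup.mem_centralizer_singleton_iff.mp (hSt hz)
    change (MulAut.conj g) z * _ = _ * (MulAut.conj g) z
    rw [MulAut.conj_apply]
    calc g * z * g⁻¹ * (g * t * g⁻¹) = g * (z * t) * g⁻¹ := by group
      _ = g * (t * z) * g⁻¹ := by rw [h1]
      _ = _ := by rw [ht']; group
  -- conjugate `Q` into `S^g` inside `C`
  obtain ⟨Q1, hQ1⟩ := (hQ.comap_subtype (K := C)).exists_le_sylow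
  obtain ⟨c, hc⟩ := MulAction.exists_smul_eq C Q1 ((g • S).subtype hSg)
  have hQc : ∀ q ∈ Q, (c : G) * q * (c : G)⁻¹ ∈ ((g • S : Sylow 2 G) : Subgroup G) := by
    intro q hq
    have h4 : (⟨q, hQC hq⟩ : C) ∈ Q1 := hQ1 (Subgroup.mem_subgroupOf.mpr hq)
    have h5 : c * ⟨q, hQC hq⟩ * c⁻¹ ∈ ((g • S).subtype hSg : Sylow 2 C) := by
      rw [← hc]
      exact ⟨⟨q, hQC hq⟩, h4, rfl⟩
    exact h5
  set k := (c : G)⁻¹ * g with hk
  have hkt : k * t * k⁻¹ = t' := by
    have h1 : (c : G) * t' = t' * c := Subgroup.mem_centralizer_singleton_iff.mp c.2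
    have h2 : k * t * k⁻¹ = (c : G)⁻¹ * t' * c := by rw [hk, ht']; group
    rw [h2, mul_assoc, ← h1]
    group
  set S' : Subgroup G := MulAut.conj k • (S : Subgroup G) with hS'
  have hQS' : Q ≤ S' := by
    intro q hq
    rw [hS', H1.SZ.mem_conj_smul]
    have h1 : (c : G) * q * (c : G)⁻¹ ∈ MulAut.conj g • (S : Subgroup G) := hQc q hq
    rw [H1.SZ.mem_conj_smul] at h1
    have h2 : k⁻¹ * q * k = g⁻¹ * ((c : G) * q * (c : G)⁻¹) * g := by rw [hk]; group
    rwa [h2]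
  set T' := S' ⊓ N with hT'
  have hS'p : IsPGroup 2 S' := by
    rw [hS', H1.SZ.conj_smul_eq_map]
    exact S.2.map _
  have hT'p : IsPGroup 2 T' := hS'p.to_le inf_le_left
  have hT'Q : T' ≤ centralizer (Q : Set G) := hcent T' inf_le_right hT'p (hinv _ hQS')
  have hT'eq : T' = MulAut.conj k • T := by
    rw [hT, hT', Subgroup.smul_inf, hS']
    congr 1
    exact (Subgroup.Normal.conjAct ‹N.Normal› k).symm
  set Q' : Subgroup G := MulAut.conj k • Q with hQ'
  have hT'Q' : T' ≤ centralizer (Q' : Set G) := by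
    rw [hT'eq]
    exact conj_centralizer hTQ
  have hS'dec : ∀ u ∈ S', ∃ a ∈ Q', ∃ z ∈ T', u = a * z := by
    intro u hu
    rw [hS', H1.SZ.mem_conj_smul] at hu
    obtain ⟨a, ha, z, hz, haz⟩ := hSdec0 _ hQS _ hu
    refine ⟨k * a * k⁻¹, conj_smul_mem ha, k * z * k⁻¹, ?_, ?_⟩
    · rw [hT'eq]
      exact conj_smul_mem hz
    · have h3 : u = k * (k⁻¹ * u * k) * k⁻¹ := by group
      rw [h3, haz]
      group
  -- the commutators of `Q` lie in `Q'`
  have hQQ' : ⁅Q, Q⁆ ≤ Q' := by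
    rw [Subgroup.commutator_le]
    intro u hu v hv
    obtain ⟨a, ha, z, hz, haz⟩ := hS'dec u (hQS' hu)
    obtain ⟨b, hb, w, hw, hbw⟩ := hS'dec v (hQS' hv)
    have c1 : z * b = b * z := (Subgroup.mem_centralizer_iff.mp (hT'Q' hz) b hb).symm
    have c2 : w * a = a * w := (Subgroup.mem_centralizer_iff.mp (hT'Q' hw) a ha).symm
    have c3 : w * u = u * w := (Subgroup.mem_centralizer_iff.mp (hT'Q hw) u hu).symm
    have c4 : z * w = w * z := by
      have h3 : z = a⁻¹ * u := by rw [haz]; group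
      have h4 : a⁻¹ * w = w * a⁻¹ := by
        rw [inv_mul_eq_iff_eq_mul, ← mul_assoc, ← c2, mul_inv_cancel_right]
      rw [h3, mul_assoc, ← c3, ← mul_assoc, h4, mul_assoc]
    have h5 : ⁅u, v⁆ = a * b * a⁻¹ * b⁻¹ := by
      rw [commutatorElement_def, haz, hbw]
      calc a * z * (b * w) * (a * z)⁻¹ * (b * w)⁻¹
          = a * (z * b) * w * z⁻¹ * a⁻¹ * w⁻¹ * b⁻¹ := by group
        _ = a * b * (z * w) * z⁻¹ * a⁻¹ * w⁻¹ * b⁻¹ := by rw [c1]; group
        _ = a * b * (w * a⁻¹ * w⁻¹) * b⁻¹ := by rw [c4]; group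
        _ = a * b * a⁻¹ * b⁻¹ := by
          have h6 : w * a⁻¹ * w⁻¹ = a⁻¹ := by
            rw [mul_inv_eq_iff_eq_mul, eq_inv_mul_iff_mul_eq, ← mul_assoc, ← c2,
              mul_inv_cancel_right]
          rw [h6]
    rw [h5]
    exact Q'.mul_mem (Q'.mul_mem (Q'.mul_mem ha hb) (Q'.inv_mem ha)) (Q'.inv_mem hb)
  have htQ' : t ∈ Q' := hQQ' htQ
  have ht'Q' : t' ∈ Q' := by
    rw [← hkt]
    exact conj_smul_mem htZ.1
  have h1 : t⁻¹ * t' ∈ Q' ⊓ N := ⟨Q'.mul_mem (Q'.inv_mem htQ') ht'Q', hmod g⟩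
  have h2 : Q' ⊓ N = ⊥ := by
    have h3 : MulAut.conj k • (Q ⊓ N) = Q' ⊓ N := by
      rw [Subgroup.smul_inf]
      congr 1
      exact Subgroup.Normal.conjAct ‹N.Normal› k
    rw [← h3, hdisj, Subgroup.smul_bot]
  rw [h2, Subgroup.mem_bot, inv_mul_eq_one] at h1
  exact h1.symm

/-- S2962 -/
theorem main (N Q : Subgroup G) [N.Normal] (hG : Q ⊔ N = ⊤) (hQ : IsPGroup 2 Q)
    (hdisj : Q ⊓ N = ⊥) (t : G) (htZ : t ∈ Q ⊓ centralizer (Q : Set G)) (htQ : t ∈ ⁅Q, Q⁆)
    (hC : N ⊓ centralizer (Q : Set G) = N ⊓ centralizer ({t} : Set G)) :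
    ⁅N, Q⁆ ≤ pPrimeCore 2 G := by
  have hf2 := Fact.mk Nat.prime_two
  obtain ⟨S, hQS⟩ := hQ.exists_le_sylow
  have hS := iso N Q hG hQ hdisj t htZ htQ hC S hQS
  have ht2 : ∃ k : ℕ, orderOf t = 2 ^ k := by
    obtain ⟨k, hk⟩ := (IsPGroup.iff_orderOf.mp hQ) ⟨t, htZ.1⟩
    exact ⟨k, by rw [← hk, Subgroup.orderOf_mk]⟩
  have hiso : Cfsg.IsIsolated t := by
    intro g hg
    have hp1 : IsPGroup 2 (Subgroup.zpowers t) := H55.SylowBasic.isPGroup_zpowers ht2
    have hp2 : IsPGroup 2 (Subgroup.zpowers (g * t * g⁻¹)) := by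
      apply H55.SylowBasic.isPGroup_zpowers
      obtain ⟨k, hk⟩ := ht2
      refine ⟨k, ?_⟩
      rw [← hk]
      exact MulEquiv.orderOf_eq (MulAut.conj g) t
    have h1 : IsPGroup 2 (Subgroup.zpowers t ⊔ Subgroup.zpowers (g * t * g⁻¹) : Subgroup G) := by
      refine hp1.to_sup_of_normal_left' hp2 ?_
      rw [Subgroup.zpowers_le]
      refine Subgroup.centralizer_le_normalizer _ ?_
      rw [Subgroup.mem_centralizer_iff]
      rintro _ ⟨i, rfl⟩
      exact (hg.zpow_left i).eq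
    obtain ⟨P, hP⟩ := h1.exists_le_sylow
    obtain ⟨k, hk⟩ := MulAction.exists_smul_eq G S P
    have h2 : ∀ x ∈ (P : Subgroup G), k⁻¹ * x * k ∈ (S : Subgroup G) := by
      intro x hx
      rw [← hk] at hx
      have h3 : x ∈ MulAut.conj k • (S : Subgroup G) := hx
      rwa [H1.SZ.mem_conj_smul] at h3
    have h3 : k⁻¹ * t * k ∈ (S : Subgroup G) := h2 t (hP (mem_sup_left (Subgroup.mem_zpowers t)))
    have h4 : k⁻¹ * (g * t * g⁻¹) * k ∈ (S : Subgroup G) :=
      h2 _ (hP (mem_sup_right (Subgroup.mem_zpowers _)))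
    have h5 : k⁻¹ * t * k = t := by
      have := hS k⁻¹ (by rwa [inv_inv])
      rwa [inv_inv] at this
    have h6 : k⁻¹ * (g * t * g⁻¹) * k = t := by
      have h7 : k⁻¹ * (g * t * g⁻¹) * k = (k⁻¹ * g) * t * (k⁻¹ * g)⁻¹ := by group
      rw [h7] at h4 ⊢
      exact hS _ h4
    have h8 : g * t * g⁻¹ = k * (k⁻¹ * (g * t * g⁻¹) * k) * k⁻¹ := by group
    have h9 : t = k * (k⁻¹ * t * k) * k⁻¹ := by group
    rw [h8, h6]
    rw [h5] at h9
    exact h9.symm
  have hzs : ∀ x : G, x * t * x⁻¹ * t⁻¹ ∈ pPrimeCore 2 G := by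
    refine H26.ZStarUse.isoIn_core zstarHyp S (C := Subgroup.zpowers t) ?_ ?_ t
      (Subgroup.mem_zpowers t)
    · rw [Subgroup.zpowers_le]
      exact hQS htZ.1
    · intro y hy x hx
      exact H55.Isolated.conj_eq_of_mem_sylow S t (hQS htZ.1) ht2 hiso y hy x hx
  set O := pPrimeCore 2 G with hO
  have hOodd : (Nat.card O).Coprime 2 := H1.Cores.coprime_card_pPrimeCore 2
  have hON : O ≤ N := by
    intro o ho
    have h1 : o ∈ Q ⊔ N := by rw [hG]; trivial
    obtain ⟨q, hq, n, hn, hqn⟩ := Subgroup.mem_sup_of_normal_right.mp h1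
    have h2 : (QuotientGroup.mk o : G ⧸ N) = QuotientGroup.mk q := by
      rw [← hqn]
      exact (QuotientGroup.mk_mul_of_mem q hn)
    obtain ⟨k, hk⟩ := (IsPGroup.iff_orderOf.mp hQ) ⟨q, hq⟩
    rw [Subgroup.orderOf_mk] at hk
    have h3 : orderOf (QuotientGroup.mk o : G ⧸ N) ∣ 2 ^ k := by
      rw [h2, ← hk]
      exact orderOf_map_dvd (QuotientGroup.mk' N) q
    have h4 : orderOf (QuotientGroup.mk o : G ⧸ N) ∣ Nat.card O := by
      refine (orderOf_map_dvd (QuotientGroup.mk' N) o).trans ?_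
      have := orderOf_dvd_natCard (⟨o, ho⟩ : O)
      rwa [Subgroup.orderOf_mk] at this
    have h5 : orderOf (QuotientGroup.mk o : G ⧸ N) = 1 :=
      Nat.eq_one_of_dvd_coprimes (Nat.Coprime.pow_left k hOodd.symm) h3 h4
    rw [orderOf_eq_one_iff] at h5
    exact (QuotientGroup.eq_one_iff o).mp h5
  rw [Subgroup.commutator_le]
  intro n hn q hq
  -- `n = o c`
  have h1 : n ∈ (O ⊔ Subgroup.zpowers t) ⊔ (⊤ ⊓ centralizer ({t} : Set G)) := by
    rw [H55.Isolated.sup_centralizer_eq (p := 2) t ht2 hiso ⊤ (O ⊔ Subgroup.zpowers t) le_top]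
    · trivial
    · apply H1.Coprime.le_normalizer_of_conj_mem
      intro a _ k hk
      obtain ⟨o, ho, z, hz, rfl⟩ := Subgroup.mem_sup_of_normal_left.mp hk
      have h3 : a * (o * z) * a⁻¹ = (a * o * a⁻¹) * (a * z * a⁻¹) := by group
      rw [h3]
      refine mul_mem (mem_sup_left ((inferInstance : O.Normal).conj_mem o ho a)) ?_
      obtain ⟨i, rfl⟩ := hz
      have h4 : a * t ^ i * a⁻¹ = (a * t * a⁻¹) ^ i := (conj_zpow).symm
      have h5 : a * t * a⁻¹ = (a * t * a⁻¹ * t⁻¹) * t := by group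
      change a * t ^ i * a⁻¹ ∈ _
      rw [h4]
      apply Subgroup.zpow_mem
      rw [h5]
      exact mul_mem (mem_sup_left (hzs a)) (mem_sup_right (Subgroup.mem_zpowers t))
    · exact mem_sup_right (Subgroup.mem_zpowers t)
  have h2 : (O ⊔ Subgroup.zpowers t) ⊔ (⊤ ⊓ centralizer ({t} : Set G)) =
      centralizer ({t} : Set G) ⊔ O := by
    rw [top_inf_eq, sup_assoc, sup_comm]
    congr 1
    rw [sup_eq_right, Subgroup.zpowers_le]
    exact Subgroup.mem_centralizer_singleton_iff.mpr rfl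
  rw [h2] at h1
  obtain ⟨c, hc, o, ho, rfl⟩ := Subgroup.mem_sup_of_normal_right.mp h1
  have hcN : c ∈ N := by
    have h3 : c = (c * o) * o⁻¹ := by group
    rw [h3]
    exact N.mul_mem hn (N.inv_mem (hON ho))
  have hcQ : c ∈ N ⊓ centralizer (Q : Set G) := by
    rw [hC]
    exact ⟨hcN, hc⟩
  have hcq : q * c = c * q := Subgroup.mem_centralizer_iff.mp hcQ.2 q hq
  have h3 : ⁅c * o, q⁆ = c * (o * (q * o⁻¹ * q⁻¹)) * c⁻¹ := by
    rw [commutatorElement_def]
    have h4 : c⁻¹ * q⁻¹ = q⁻¹ * c⁻¹ := by rw [← mul_inv_rev, hcq, mul_inv_rev]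
    calc c * o * q * (c * o)⁻¹ * q⁻¹ = c * o * q * o⁻¹ * (c⁻¹ * q⁻¹) := by group
      _ = _ := by rw [h4]; group
  rw [h3]
  have hOn : O.Normal := inferInstance
  exact hOn.conj_mem _ (O.mul_mem ho (hOn.conj_mem _ (O.inv_mem ho) q)) c

end

end H55.SharedCent
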