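import Cfsg.Agent.Lib.H4.CA0
import Cfsg.Agent.Lib.H70.SL2Cent
import Cfsg.Agent.S2202
import Cfsg.Agent.S0205

set_option autoImplicit false
set_option linter.unusedVariables false

/-!
# S4369, piece F1: abelian Sylow 2-subgroups, no bad 2-element
-/

namespace H55.CaF1

open Subgroup H4.CA

universe u

/-- a noncentral power of a bad element is bad -/
theorem bad_of_pow {G : Type*} [Group G] {x : G} (hx : Bad x) {n : ℕ} (h : x ^ n ∉ center G) : Bad (x ^ n) := by
  obtain ⟨a, b, ha, hb, hab⟩ := hx.2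
  exact ⟨h, a, b, ha.pow_left n, hb.pow_left n, hab⟩

/-- a bad element of odd order -/
theorem exists_bad_odd {G : Type*} [Group G] [Finite G] (hb : ∃ x : G, Bad x)
    (hn : ∀ s : G, (∃ k : ℕ, s ^ 2 ^ k = 1) → ¬ Bad s) : ∃ u : G, Bad u ∧ Odd (orderOf u) := by
  obtain ⟨x, hx⟩ := hb
  obtain ⟨k, m, hm, hkm⟩ := Nat.exists_eq_two_pow_mul_odd (orderOf_pos x).ne'
  have h1 : x ^ m ∈ center G := by
    by_contra h
    refine hn _ ⟨k, ?_⟩ (bad_of_pow hx h)
    rw [← pow_mul, mul_comm, ← hkm, pow_orderOf_eq_one]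
  have h2 : x ^ 2 ^ k ∉ center G := by
    intro h
    apply hx.1
    have hc : Nat.Coprime (2 ^ k) m := Nat.Coprime.pow_left k (Nat.coprime_two_left.2 hm)
    have h3 : x = (x ^ 2 ^ k) ^ (Nat.gcdA (2 ^ k) m) * (x ^ m) ^ (Nat.gcdB (2 ^ k) m) := by
      have h4 := Nat.gcd_eq_gcd_ab (2 ^ k) m
      rw [hc] at h4
      rw [← zpow_natCast x (2 ^ k), ← zpow_natCast x m, ← zpow_mul, ← zpow_mul, ← zpow_add, ← h4]
      simp
    rw [h3]
    exact mul_mem (zpow_mem h _) (zpow_mem h1 _)
  refine ⟨_, bad_of_pow hx h2, ?_⟩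
  have h3 : (x ^ 2 ^ k) ^ m = 1 := by rw [← pow_mul, ← hkm, pow_orderOf_eq_one]
  exact hm.of_dvd_nat (orderOf_dvd_of_pow_eq_one h3)

/-- transfer: an abelian Sylow subgroup contains no nontrivial central element of the commutator subgroup -/
theorem central_trivial {G : Type*} [Group G] [Finite G] (S : Sylow 2 G) (hS : ∀ a ∈ S, ∀ b ∈ S, Commute a b)
    {z : G} (hz : z ∈ S) (hzc : z ∈ center G) (hz' : z ∈ commutator G) : z = 1 := by
  haveI : Fact (Nat.Prime 2) := ⟨Nat.prime_two⟩
  letI : CommGroup (S : Subgroup G) :=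
    { (inferInstance : Group (S : Subgroup G)) with
      mul_comm := fun a b => Subtype.ext (hS a a.2 b b.2) }
  let V := MonoidHom.transfer (MonoidHom.id (S : Subgroup G))
  have hcomm : ∀ g : G, g * z = z * g := fun g => mem_center_iff.1 hzc g
  have h1 : V z = 1 := (MonoidHom.mem_ker).1 (Abelianization.commutator_subset_ker V hz')
  have key : ∀ (k : ℕ) (g₀ : G), g₀⁻¹ * z ^ k * g₀ ∈ (S : Subgroup G) → g₀⁻¹ * z ^ k * g₀ = z ^ k := by
    intro k g₀ _
    have h2 : Commute g₀ (z ^ k) := (show Commute g₀ z from hcomm g₀).pow_right k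
    rw [mul_assoc, ← h2.eq, inv_mul_cancel_left]
  have h2 := MonoidHom.transfer_eq_pow (MonoidHom.id (S : Subgroup G)) z key
  have h3 : z ^ (S : Subgroup G).index = 1 := by
    have h4 : V z = ⟨z ^ (S : Subgroup G).index, _⟩ := h2
    rw [h1] at h4
    exact (congrArg Subtype.val h4).symm
  obtain ⟨k, hk⟩ := S.2 ⟨z, hz⟩
  have hk' : z ^ 2 ^ k = 1 := congrArg Subtype.val hk
  have hc : Nat.Coprime (2 ^ k) (S : Subgroup G).index :=
    Nat.Coprime.pow_left k ((Nat.Prime.coprime_iff_not_dvd Nat.prime_two).2 S.not_dvd_index)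
  have h5 : orderOf z ∣ 1 := by
    rw [← hc]
    exact Nat.dvd_gcd (orderOf_dvd_of_pow_eq_one hk') (orderOf_dvd_of_pow_eq_one h3)
  exact orderOf_eq_one_iff.1 (Nat.dvd_one.1 h5)

theorem solvable_of_cyc {G : Type*} [Group G] [Finite G] (P : Sylow 2 G)
    (hP : IsCyclic (P : Subgroup G)) (heven : 2 ∣ Nat.card G) : Group.IsSolvable G := by
  haveI : Fact (Nat.Prime 2) := ⟨Nat.prime_two⟩
  have hmin : (Nat.card G).minFac = 2 := Nat.minFac_eq_two_iff _ |>.2 heven
  set K := (MonoidHom.transferSylow P (hP.normalizer_le_centralizer hmin)).ker with hK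
  have hc : K.IsComplement' (P : Subgroup G) := hP.isComplement' hmin
  have hcard : Nat.card K * Nat.card (P : Subgroup G) = Nat.card G := hc.card_mul_card
  have hidx : Odd (P : Subgroup G).index := by
    rw [← Nat.not_even_iff_odd, even_iff_two_dvd]
    exact P.not_dvd_index
  have hKodd : Odd (Nat.card K) := by
    have h1 := (P : Subgroup G).card_mul_index
    rw [← hcard, mul_comm (Nat.card K)] at h1
    have h2 := Nat.eq_of_mul_eq_mul_left Nat.card_pos h1
    rwa [← h2]
  haveI : Group.IsSolvable K := Cfsg.Agent.S0205.result hKodd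
  haveI : IsCyclic (P : Subgroup G) := hP
  letI : CommGroup (P : Subgroup G) := IsCyclic.commGroup
  haveI : Group.IsSolvable (P : Subgroup G) := inferInstance
  exact Group.isSolvable_of_ker_le_range K.subtype
    (MonoidHom.transferSylow P (hP.normalizer_le_centralizer hmin)) (by rw [range_subtype])

/-- centralizers of noncentral elements of `SL₂(2ⁿ) × A` are abelian -/
theorem not_bad_prod {F : Type} [Field F] [CharP F 2] {A : Type} [CommGroup A]
    (x : Matrix.SpecialLinearGroup (Fin 2) F × A) : ¬ Bad x := by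
  rintro ⟨hx, a, b, ha, hb, hab⟩
  apply hab
  by_cases hX : x.1 0 1 = 0 ∧ x.1 1 0 = 0 ∧ x.1 0 0 = x.1 1 1
  · exfalso
    apply hx
    have h1 := H70.SL2Cent.eq_one_of_scalar x.1 hX
    rw [mem_center_iff]
    intro g
    apply Prod.ext
    · show g.1 * x.1 = x.1 * g.1
      rw [h1, mul_one, one_mul]
    · exact mul_comm _ _
  · have ha' : x.1 * a.1 = a.1 * x.1 := congrArg Prod.fst ha
    have hb' : x.1 * b.1 = b.1 * x.1 := congrArg Prod.fst hb
    have h3 : a.1 * b.1 = b.1 * a.1 := by
      apply Subtype.ext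
      change (a.1 : Matrix (Fin 2) (Fin 2) F) * (b.1 : Matrix (Fin 2) (Fin 2) F) =
        (b.1 : Matrix (Fin 2) (Fin 2) F) * (a.1 : Matrix (Fin 2) (Fin 2) F)
      apply H70.SL2Cent.comm_of_comm (A := (x.1 : Matrix (Fin 2) (Fin 2) F)) hX
      · have := congrArg (fun W : Matrix.SpecialLinearGroup (Fin 2) F => (W : Matrix (Fin 2) (Fin 2) F)) ha'
        simpa using this
      · have := congrArg (fun W : Matrix.SpecialLinearGroup (Fin 2) F => (W : Matrix (Fin 2) (Fin 2) F)) hb'
        simpa using this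
    exact Prod.ext h3 (mul_comm _ _)

theorem gamma1 {G : Type u} [Group G] [Finite G] (h : Frame G) (S : Sylow 2 G)
    (hS : ∀ a ∈ S, ∀ b ∈ S, Commute a b) (hn : ∀ s : G, (∃ k : ℕ, s ^ 2 ^ k = 1) → ¬ Bad s) : False := by
  haveI : Fact (Nat.Prime 2) := ⟨Nat.prime_two⟩
  obtain ⟨u, hu, hodd⟩ := exists_bad_odd h.bad hn
  -- `S ≤ G'`
  have hSD : (S : Subgroup G) ≤ commutator G := by
    by_cases hD : commutator G = ⊤
    · rw [hD]; exact le_top
    · have hDn : (commutator G).Normal := inferInstance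
      have hDZ : ¬ commutator G ≤ center G := by
        intro hle
        apply h.ns
        letI i1 : CommGroup (center G) :=
          { (inferInstance : Group (center G)) with
            mul_comm := fun a b => Subtype.ext (mem_center_iff.1 b.2 a) }
        haveI h1 : Group.IsSolvable (center G) := inferInstance
        have h2 : ∀ a b : G ⧸ center G, a * b = b * a := by
          intro a b
          induction a using QuotientGroup.induction_on with | H a =>
          induction b using QuotientGroup.induction_on with | H b =>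
          rw [← QuotientGroup.mk_mul, ← QuotientGroup.mk_mul, QuotientGroup.eq]
          have h3 : b⁻¹ * a⁻¹ * (b⁻¹)⁻¹ * (a⁻¹)⁻¹ ∈ center G :=
            hle (commutator_mem_commutator (mem_top _) (mem_top _))
          have h4 : (a * b)⁻¹ * (b * a) = b⁻¹ * a⁻¹ * (b⁻¹)⁻¹ * (a⁻¹)⁻¹ := by group
          rw [h4]; exact h3
        letI : CommGroup (G ⧸ center G) := { (inferInstance : Group (G ⧸ center G)) with mul_comm := h2 }
        haveI h5 : Group.IsSolvable (G ⧸ center G) := inferInstance
        exact Group.isSolvable_of_ker_le_range (center G).subtype (QuotientGroup.mk' (center G))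
          (by rw [range_subtype, QuotientGroup.ker_mk'])
      have h1 := h.cyc (commutator G) hDn hD hDZ u hu
      intro s hs
      obtain ⟨k, hk⟩ := S.2 ⟨s, hs⟩
      have hk' : s ^ 2 ^ k = 1 := congrArg Subtype.val hk
      have h2 : s ^ orderOf u ∈ commutator G := by
        have h3 : s ∈ commutator G ⊔ zpowers u := by rw [h1]; exact mem_top _
        rw [mem_sup_of_normal_left] at h3
        obtain ⟨d, hd, w, hw, rfl⟩ := h3
        obtain ⟨j, rfl⟩ := mem_zpowers_iff.1 hw
        rw [← QuotientGroup.eq_one_iff, QuotientGroup.mk_pow, QuotientGroup.mk_mul,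
          (QuotientGroup.eq_one_iff d).2 hd, one_mul, ← QuotientGroup.mk_pow, ← zpow_natCast, ← zpow_mul,
          mul_comm, zpow_mul, zpow_natCast, pow_orderOf_eq_one, one_zpow, QuotientGroup.mk_one]
      have hc : Nat.Coprime (2 ^ k) (orderOf u) := Nat.Coprime.pow_left k (Nat.coprime_two_left.2 hodd)
      rw [← QuotientGroup.eq_one_iff, ← orderOf_eq_one_iff, ← Nat.dvd_one, ← hc]
      refine Nat.dvd_gcd (orderOf_dvd_of_pow_eq_one ?_) (orderOf_dvd_of_pow_eq_one ?_)
      · rw [← QuotientGroup.mk_pow, hk', QuotientGroup.mk_one]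
      · rw [← QuotientGroup.mk_pow, QuotientGroup.eq_one_iff]; exact h2
  have hSZ : ∀ s ∈ S, s ∈ center G → s = 1 := fun s hs hc => central_trivial S hS hs hc (hSD hs)
  have heven : Even (Nat.card G) := by
    rw [← Nat.not_odd_iff_even]
    intro ho
    exact h.ns (Cfsg.Agent.S0205.result ho)
  have hS1 : (S : Subgroup G) ≠ ⊥ := by
    intro e
    have h1 := S.not_dvd_index
    rw [e, index_bot] at h1
    exact h1 (even_iff_two_dvd.1 heven)
  have hab : ∀ t : G, orderOf t = 2 → IsMulCommutative ↥(centralizer ({t} : Set G)) := by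
    intro t ht
    have hp : IsPGroup 2 (zpowers t) := IsPGroup.of_card (n := 1) (by rw [Nat.card_zpowers, ht, pow_one])
    obtain ⟨R, hR⟩ := hp.exists_le_sylow
    obtain ⟨g, hg⟩ := MulAction.exists_smul_eq G R S
    have htR : t ∈ R := hR (mem_zpowers t)
    have h1 : g * t * g⁻¹ ∈ S := by
      rw [← hg]
      exact ⟨t, htR, by simp⟩
    have htt : t ^ 2 = 1 := by rw [← ht, pow_orderOf_eq_one]
    have htZ : t ∉ center G := by
      intro hc
      have h2 : g * t * g⁻¹ = t := by rw [mem_center_iff.1 hc g]; group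
      rw [h2] at h1
      have h3 := hSZ t h1 hc
      rw [h3, orderOf_one] at ht
      omega
    have hnb : ¬ Bad t := hn t ⟨1, by rw [pow_one]; exact htt⟩
    refine ⟨⟨fun a b => Subtype.ext ?_⟩⟩
    by_contra hcon
    exact hnb ⟨htZ, a, b, (mem_centralizer_singleton_iff.1 a.2).symm, (mem_centralizer_singleton_iff.1 b.2).symm, hcon⟩
  rcases Cfsg.Agent.S2202.result heven hab with h1 | h1 | ⟨F, i1, i2, A, i3, i4, hF, hA, ⟨e⟩⟩
  · exact h.ns (solvable_of_cyc S (h1 S) (even_iff_two_dvd.1 heven))
  · apply hS1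
    haveI : Group.IsSolvable (S : Subgroup G) := by
      haveI := S.2.isNilpotent
      infer_instance
    have h2 := h.solv S (h1 S) inferInstance
    rw [eq_bot_iff]
    intro s hs
    exact hSZ s hs (h2 hs)
  · obtain ⟨x, hx, a, b, ha, hb, hab'⟩ := h.bad
    haveI := hF
    apply not_bad_prod (e x)
    refine ⟨?_, e a, e b, ?_, ?_, ?_⟩
    · intro hc
      apply hx
      rw [mem_center_iff]
      intro g
      apply e.injective
      rw [map_mul, map_mul]
      exact mem_center_iff.1 hc (e g)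
    · exact ha.map e
    · exact hb.map e
    · intro hc
      apply hab'
      apply e.injective
      rw [map_mul, map_mul]
      exact hc

end H55.CaF1
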