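import Cfsg.Agent.Lib.H57.CAB
import Cfsg.Agent.Lib.H4.CAC1
import Cfsg.Agent.Lib.H4.CAC2
import Cfsg.Agent.Lib.H11.CAD
import Cfsg.Agent.Lib.H18.CAE
import Cfsg.Agent.Lib.H55.CaF1
import Cfsg.Agent.Lib.H69.CAF2
import Cfsg.Agent.Lib.H8.CAF3b
import Cfsg.Agent.Lib.H23.CAb0
import Cfsg.Agent.Lib.H67.CAI
import Cfsg.Agent.Lib.H11.CAJ
import Cfsg.Agent.Lib.H68.CAe
import Cfsg.Agent.Lib.H74.K1B4
import Cfsg.Agent.Lib.H77.CaPsl
import Cfsg.Agent.Lib.H29.CaL2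
import Cfsg.Agent.Lib.H15.MC
import Cfsg.Agent.Lib.H18.CA4
import Cfsg.Agent.Lib.H81.CaO1
import Cfsg.Agent.Lib.H41.CaB
import Cfsg.Agent.Lib.H81.CaKill
import Cfsg.Agent.Lib.H28.GW8Final
import Cfsg.Agent.Lib.H4.CAP0
import Cfsg.Agent.Lib.H4.CAF

set_option autoImplicit false
set_option linter.unusedVariables false

/-!
# S4369: assembly
-/

namespace H55.CaFin

open Subgroup H4.CA

universe u

theorem frame {G : Type u} [Group G] [Finite G] (h : MN G) : Frame G := by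
  have h0 : F0 G := H4.CAA.f0 h
  have hB := fun A hA hab x hx => H57.CAB.no_abelian_normal h0 A hA hab x hx
  have hs := fun R hR hsR => H4.CAC1.solv_le h0 hB R hR hsR
  have hn := fun N hN hT x hx => H4.CAC2.noBad h0 hs N hN hT x hx
  exact { toF0 := h0, solv := hs, noBad := hn, cyc := fun N hN hT hZ x hx => H4.CAC2.cyc h0 hs hn N hN hT hZ x hx }

theorem beta2 {G : Type u} [Group G] [Finite G] (h : Frame G) (S : Sylow 2 G)
    (hS : ¬ ∀ a ∈ S, ∀ b ∈ S, Commute a b) : Beta2 G := by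
  haveI : Fact (Nat.Prime 2) := ⟨Nat.prime_two⟩
  have sna : ∀ S : Sylow 2 G, ∃ a ∈ S, ∃ b ∈ S, ¬ Commute a b := by
    intro T
    push Not at hS
    obtain ⟨a, ha, b, hb, hab⟩ := hS
    obtain ⟨g, hg⟩ := MulAction.exists_smul_eq G S T
    refine ⟨g * a * g⁻¹, ?_, g * b * g⁻¹, ?_, ?_⟩
    · rw [← hg]; exact ⟨a, ha, by simp⟩
    · rw [← hg]; exact ⟨b, hb, by simp⟩
    · intro hc
      apply hab
      have h1 : (g * a * g⁻¹) * (g * b * g⁻¹) = (g * b * g⁻¹) * (g * a * g⁻¹) := hc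
      have h2 : g * (a * b) * g⁻¹ = g * (b * a) * g⁻¹ := by
        calc g * (a * b) * g⁻¹ = (g * a * g⁻¹) * (g * b * g⁻¹) := by group
          _ = (g * b * g⁻¹) * (g * a * g⁻¹) := h1
          _ = g * (b * a) * g⁻¹ := by group
      exact mul_left_cancel (mul_right_cancel h2)
  have zs : ∀ S : Sylow 2 G, ∀ z ∈ S, (∀ s ∈ S, Commute z s) → z ∈ center G := fun T z hz hc =>
    H18.CAE.alpha_of (fun z hb h2 hz2 iso => H11.CAD.zprinc h hb h2 hz2 iso) h T (sna T) z hz hc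
  have hb0 : ∀ s : G, (∃ k : ℕ, s ^ 2 ^ k = 1) → ¬ Bad s := fun s h2 => H23.CA.b0 h ⟨S, sna S⟩ zs s h2
  have hB : Beta G := { toFrame := h, sna := ⟨S, sna S⟩, zs := zs, b0 := hb0 }
  have hB1 : Beta1 G := { toBeta := hB, b1 := H67.CAI.b1 hB }
  exact { toBeta1 := hB1, b2 := H11.CAJ.b2 hB1 }

theorem beta_false {G : Type u} [Group G] [Finite G] (h : Beta2 G) : False := by
  rcases H68.CA.b3 h with ⟨F, i1, i2, hF, ⟨e⟩⟩ | hD
  · exact H77.CaPsl.kill_psl' h (fun x hx hab => H81.Ca.kill h.toFrame hx hab) F e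
  · have hp := H74.K1.b4 h hD
    have hs := H4.CAF.simple_of_perfect h.toFrame hp
    rcases H28.GW8.gw (G ⧸ center G) hs hD with ⟨F, i1, i2, -, -, ⟨e⟩⟩ | ⟨⟨e⟩⟩
    · exact H77.CaPsl.kill_psl' h (fun x hx hab => H81.Ca.kill h.toFrame hx hab) F e
    · exact H29.CaL2.kill_A7 h e

theorem forward {G : Type u} [Group G] [Finite G] (h : MN G) :
    ∃ (F : Type) (_ : Field F) (_ : Fintype F), Nonempty (G ≃* Matrix.ProjectiveSpecialLinearGroup (Fin 2) F) ∧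
        (((Fintype.card F).Prime ∧ 5 < Fintype.card F ∧ ¬ 16 ∣ Fintype.card F ^ 2 - 1) ∨
         (∃ p : ℕ, p.Prime ∧ p ≠ 2 ∧ (Fintype.card F = 3 ^ p ∨ Fintype.card F = 5 ^ p))) := by
  have hf := frame h
  obtain ⟨S⟩ : Nonempty (Sylow 2 G) := inferInstance
  by_cases hS : ∀ a ∈ S, ∀ b ∈ S, Commute a b
  · by_cases hex : ∀ s : G, (∃ k : ℕ, s ^ 2 ^ k = 1) → ¬ Bad s
    · exact (H55.CaF1.gamma1 hf S hS hex).elim
    · push Not at hex
      obtain ⟨s, h2, hs⟩ := hex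
      obtain ⟨hp, hz, hC⟩ := H69.CAF2.gamma2' (fun hb h2 hz2 iso => H11.CAD.zprinc hf hb h2 hz2 iso) hf S hS s h2 hs
      obtain ⟨F, i1, i2, h8, h5, ⟨e⟩⟩ := H8.CAF3.gamma3 hf S hS hp hz hC
      have hc := H15.MC.center_bot hp hz F h8 h5 e
      have e1 : G ≃* Matrix.ProjectiveSpecialLinearGroup (Fin 2) F :=
        ((QuotientGroup.quotientBot (G := G)).symm.trans
          (QuotientGroup.quotientMulEquivOfEq hc.symm)).trans e
      exact ⟨F, i1, i2, ⟨e1⟩, H18.CA4.cond h8 h5 (H4.CAP.mn_equiv e1 h)⟩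
  · exact (beta_false (beta2 hf S hS)).elim

theorem backward {G : Type u} [Group G] [Finite G]
    (h : ∃ (F : Type) (_ : Field F) (_ : Fintype F), Nonempty (G ≃* Matrix.ProjectiveSpecialLinearGroup (Fin 2) F) ∧
        (((Fintype.card F).Prime ∧ 5 < Fintype.card F ∧ ¬ 16 ∣ Fintype.card F ^ 2 - 1) ∨
         (∃ p : ℕ, p.Prime ∧ p ≠ 2 ∧ (Fintype.card F = 3 ^ p ∨ Fintype.card F = 5 ^ p)))) : MN G := by
  obtain ⟨F, i1, i2, ⟨e⟩, hF⟩ := h
  obtain ⟨h8, h5⟩ := H4.CAP.num hF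
  obtain ⟨hns, hbad⟩ := H81.Ca.conv1 h8 h5
  have hmn : MN (Matrix.ProjectiveSpecialLinearGroup (Fin 2) F) :=
    { ns := hns, ca := H41.Ca.conv2 hF, bad := hbad }
  exact H4.CAP.mn_equiv e.symm hmn

end H55.CaFin
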