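import Cfsg.Agent.Lib.H1.SZ
import Cfsg.Agent.Lib.H28.SubOf
import Cfsg.Agent.S0205

/-!
Hall theory for arbitrary sets of primes, given the odd order theorem: Schur–Zassenhaus conjugacy
without solvability hypothesis, extension closure of `C_π`, and `D_π` for π-separable groups.
-/

set_option autoImplicit false

open Cfsg Subgroup
open scoped Pointwise

namespace H55.HallFT

universe u

section sz

variable {G : Type u} [Group G] [Finite G]

theorem solv_or_of_coprime {m n : ℕ} (h : m.Coprime n) : Odd m ∨ Odd n := by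
  by_contra hcon
  rw [not_or, Nat.not_odd_iff_even, Nat.not_odd_iff_even] at hcon
  have := Nat.dvd_gcd hcon.1.two_dvd hcon.2.two_dvd
  rw [h] at this
  omega

theorem solv_or (N : Subgroup G) [N.Normal] (hN : (Nat.card N).Coprime N.index) :
    Group.IsSolvable N ∨ Group.IsSolvable (G ⧸ N) := by
  rcases solv_or_of_coprime hN with h | h
  · exact Or.inl (Cfsg.Agent.S0205.result h)
  · exact Or.inr (Cfsg.Agent.S0205.result (by rwa [Subgroup.index] at h))

theorem conj_of_card (N : Subgroup G) [N.Normal] (hN : (Nat.card N).Coprime N.index)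
    (H K : Subgroup G) (hH : Nat.card H = N.index) (hK : Nat.card K = N.index) :
    ∃ g ∈ N, MulAut.conj g • H = K :=
  H1.SZ.conj_of_card N hN (solv_or N hN) H K hH hK

theorem conj_of_card_rel (L N : Subgroup G) (hNL : N ≤ L)
    (hn : L ≤ normalizer (N : Set G))
    (hcop : (Nat.card N).Coprime (N.relIndex L))
    (H K : Subgroup G) (hH : H ≤ L) (hK : K ≤ L) (hHc : Nat.card H = N.relIndex L)
    (hKc : Nat.card K = N.relIndex L) : ∃ g ∈ N, MulAut.conj g • H = K := by
  refine H1.SZ.conj_of_card_rel L N hNL hn hcop ?_ H K hH hK hHc hKc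
  rcases solv_or_of_coprime hcop with h | h
  · exact Or.inl (Cfsg.Agent.S0205.result h)
  · refine Or.inr ?_
    intro _
    exact Cfsg.Agent.S0205.result (by rwa [Subgroup.relIndex, Subgroup.index] at h)

theorem conj_quot {H M K L : Subgroup G} [H.Normal] [M.Normal] (hHM : H ≤ M)
    (hK : K ⊔ M = ⊤) (hL : L ⊔ M = ⊤) (hKM : K ⊓ M = H) (hLM : L ⊓ M = H)
    (hcop : (H.relIndex M).Coprime M.index) : ∃ m ∈ M, MulAut.conj m • K = L := by
  have hHK : H ≤ K := hKM ▸ inf_le_left
  have hHL : H ≤ L := hLM ▸ inf_le_left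
  have hker : (QuotientGroup.mk' H).ker = H := QuotientGroup.ker_mk' H
  have hsurj : Function.Surjective (QuotientGroup.mk' H) := QuotientGroup.mk'_surjective H
  have hcard : ∀ X : Subgroup G, H ≤ X → Nat.card (X.map (QuotientGroup.mk' H)) = H.relIndex X := by
    intro X hX
    have := Subgroup.relIndex_ker (QuotientGroup.mk' H) (K := X)
    rw [hker] at this
    rw [this]
  have hind : ∀ X : Subgroup G, X ⊔ M = ⊤ → X ⊓ M = H → H.relIndex X = M.index := by
    intro X hX hXM
    rw [← hXM, inf_comm, Subgroup.inf_relIndex_right, ← Subgroup.relIndex_sup_right, hX,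
      Subgroup.relIndex_top_right]
  have hNi : (M.map (QuotientGroup.mk' H)).index = M.index := by
    rw [Subgroup.index_map, hker, sup_eq_left.mpr hHM, MonoidHom.range_eq_top.mpr hsurj,
      Subgroup.index_top, mul_one]
  have : (M.map (QuotientGroup.mk' H)).Normal := Subgroup.Normal.map inferInstance _ hsurj
  obtain ⟨g', hg', hgK⟩ := conj_of_card (M.map (QuotientGroup.mk' H))
    (by rw [hcard M hHM, hNi]; exact hcop) (K.map (QuotientGroup.mk' H))
    (L.map (QuotientGroup.mk' H)) (by rw [hcard K hHK, hNi, hind K hK hKM])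
    (by rw [hcard L hHL, hNi, hind L hL hLM])
  obtain ⟨m, hm, rfl⟩ := hg'
  refine ⟨m, hm, ?_⟩
  rw [← H1.SZ.conj_smul_map] at hgK
  have h1 := congrArg (Subgroup.comap (QuotientGroup.mk' H)) hgK
  rw [Subgroup.comap_map_eq, Subgroup.comap_map_eq, hker, sup_eq_left.mpr hHL] at h1
  rw [← h1, eq_comm, sup_eq_left]
  intro x hx
  rw [H1.SZ.mem_conj_smul]
  apply hHK
  have := ‹H.Normal›.conj_mem x hx m⁻¹
  rwa [inv_inv] at this

end sz

/-! ### `D_π` -/

theorem coprime_pi {π : Set ℕ} {m n : ℕ} (hm : ∀ q : ℕ, q.Prime → q ∣ m → q ∈ π)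
    (hn : ∀ q : ℕ, q.Prime → q ∣ n → q ∉ π) : m.Coprime n :=
  Nat.coprime_of_dvd (fun k hk hkm hkn => hn k hk hkn (hm k hk hkm))

theorem card_dvd_of_hall {π : Set ℕ} {G : Type u} [Group G] [Finite G] {X Y : Subgroup G}
    (hX : ∀ q : ℕ, q.Prime → q ∣ Nat.card X → q ∈ π) (hY : IsPiHall π Y) :
    Nat.card X ∣ Nat.card Y := by
  have h1 : Nat.card X ∣ Nat.card Y * Y.index := by
    rw [Subgroup.card_mul_index]
    exact Subgroup.card_subgroup_dvd_card X
  refine Nat.Coprime.dvd_of_dvd_mul_right ?_ h1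
  exact coprime_pi hX (fun q hq hqY hqπ => hY.2 q hq hqπ hqY)

theorem card_eq_of_hall {π : Set ℕ} {G : Type u} [Group G] [Finite G] {X Y : Subgroup G}
    (hX : IsPiHall π X) (hY : IsPiHall π Y) : Nat.card X = Nat.card Y :=
  Nat.dvd_antisymm (card_dvd_of_hall hX.1 hY) (card_dvd_of_hall hY.1 hX)

/-- There is a Hall π-subgroup containing, up to conjugacy, every π-subgroup. -/
def Dpi (π : Set ℕ) (G : Type u) [Group G] : Prop :=
  ∃ K : Subgroup G, IsPiHall π K ∧ ∀ U : Subgroup G, (∀ q : ℕ, q.Prime → q ∣ Nat.card U → q ∈ π) →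
    ∃ g : G, U ≤ MulAut.conj g • K

theorem Dpi.conj {π : Set ℕ} {G : Type u} [Group G] [Finite G] (h : Dpi π G) {K L : Subgroup G}
    (hK : IsPiHall π K) (hL : IsPiHall π L) : ∃ g : G, MulAut.conj g • K = L := by
  obtain ⟨M, hM, hD⟩ := h
  obtain ⟨a, ha⟩ := hD K hK.1
  obtain ⟨b, hb⟩ := hD L hL.1
  have ha' : K = MulAut.conj a • M := Subgroup.eq_of_le_of_card_ge ha (by
    rw [H1.SZ.card_conj_smul, card_eq_of_hall hM hK])
  have hb' : L = MulAut.conj b • M := Subgroup.eq_of_le_of_card_ge hb (by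
    rw [H1.SZ.card_conj_smul, card_eq_of_hall hM hL])
  refine ⟨b * a⁻¹, ?_⟩
  rw [hb', ha', ← H1.SZ.conj_mul_smul, inv_mul_cancel_right]

theorem isPiHall_conj {π : Set ℕ} {G : Type u} [Group G] {K : Subgroup G} (hK : IsPiHall π K)
    (g : G) : IsPiHall π (MulAut.conj g • K) := by
  refine ⟨?_, ?_⟩
  · rw [H1.SZ.card_conj_smul]
    exact hK.1
  · have : (MulAut.conj g • K).index = K.index :=
      Subgroup.index_map_equiv K (MulAut.conj g)
    rw [this]
    exact hK.2

theorem card_comap {G Q : Type u} [Group G] [Finite G] [Group Q] (f : G →* Q)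
    (hf : Function.Surjective f) (K : Subgroup Q) :
    Nat.card (K.comap f) = Nat.card f.ker * Nat.card K := by
  have h1 : (f.ker).relIndex (K.comap f) = Nat.card K := by
    rw [Subgroup.relIndex_ker, Subgroup.map_comap_eq_self_of_surjective hf]
  rw [← h1, mul_comm, H28.RelSyl.relIndex_mul_card (Subgroup.ker_le_comap f K)]

theorem map_pi {π : Set ℕ} {G Q : Type u} [Group G] [Finite G] [Group Q] (f : G →* Q)
    {U : Subgroup G} (hU : ∀ q : ℕ, q.Prime → q ∣ Nat.card U → q ∈ π) :
    ∀ q : ℕ, q.Prime → q ∣ Nat.card (U.map f) → q ∈ π :=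
  fun q hq hqd => hU q hq (hqd.trans (Subgroup.card_map_dvd U f))

theorem map_conj {G Q : Type u} [Group G] [Group Q] (f : G →* Q)
    (K : Subgroup Q) (g : G) :
    (MulAut.conj (f g) • K).comap f = MulAut.conj g • K.comap f := by
  ext x
  rw [Subgroup.mem_comap, H1.SZ.mem_conj_smul, H1.SZ.mem_conj_smul, Subgroup.mem_comap]
  simp

theorem Dpi.of_surjective {π : Set ℕ} {G Q : Type u} [Group G] [Finite G] [Group Q] (f : G →* Q)
    (hf : Function.Surjective f)
    (hker : (∀ q : ℕ, q.Prime → q ∣ Nat.card f.ker → q ∈ π) ∨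
      (∀ q : ℕ, q.Prime → q ∣ Nat.card f.ker → q ∉ π)) (h : Dpi π Q) : Dpi π G := by
  obtain ⟨K, hK, hD⟩ := h
  have hKi : (K.comap f).index = K.index := Subgroup.index_comap_of_surjective K hf
  rcases hker with hker | hker
  · refine ⟨K.comap f, ⟨?_, ?_⟩, ?_⟩
    · intro q hq hqd
      rw [card_comap f hf] at hqd
      rcases hq.dvd_mul.mp hqd with h1 | h1
      · exact hker q hq h1
      · exact hK.1 q hq h1
    · rw [hKi]
      exact hK.2
    · intro U hU
      obtain ⟨g', hg'⟩ := hD (U.map f) (map_pi f hU)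
      obtain ⟨g, rfl⟩ := hf g'
      refine ⟨g, ?_⟩
      rw [← map_conj f, ← Subgroup.map_le_iff_le_comap]
      exact hg'
  · set K1 := K.comap f with hK1
    have hkK1 : f.ker ≤ K1 := Subgroup.ker_le_comap f K
    have hri : f.ker.relIndex K1 = Nat.card K := by
      rw [Subgroup.relIndex_ker, Subgroup.map_comap_eq_self_of_surjective hf]
    have hcop : (Nat.card f.ker).Coprime (f.ker.relIndex K1) := by
      rw [hri]
      exact (coprime_pi hK.1 hker).symm
    obtain ⟨L, hL⟩ := H28.SubOf.exists_isComplIn hkK1 (Subgroup.le_normalizer_of_normal) hcop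
    have hLcard : Nat.card L = Nat.card K := by
      rw [← H28.SubOf.isComplIn_relIndex hL, hri]
    refine ⟨L, ⟨?_, ?_⟩, ?_⟩
    · rw [hLcard]
      exact hK.1
    · intro q hq hqπ hqd
      have h1 : L.relIndex K1 * K1.index = L.index := Subgroup.relIndex_mul_index hL.2.1
      rw [← h1, H28.SubOf.isComplIn_relIndex (H28.SubOf.isComplIn_symm hL), hKi] at hqd
      rcases hq.dvd_mul.mp hqd with h2 | h2
      · exact hker q hq h2 hqπ
      · exact hK.2 q hq hqπ h2
    · -- every π-subgroup is conjugate into `L`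
      have key : ∀ U : Subgroup G, (∀ q : ℕ, q.Prime → q ∣ Nat.card U → q ∈ π) → U ≤ K1 →
          ∃ g : G, U ≤ MulAut.conj g • L := by
        intro U hU hUK
        set W := f.ker ⊔ U with hW
        have hWK : W ≤ K1 := sup_le hkK1 hUK
        have hkW : f.ker ≤ W := le_sup_left
        have hUk : U ⊓ f.ker = ⊥ := by
          rw [← disjoint_iff]
          exact Subgroup.disjoint_of_coprime_natCard (coprime_pi hU hker)
        have hWr : f.ker.relIndex W = Nat.card U := by
          rw [hW, Subgroup.relIndex_sup_left, ← Subgroup.inf_relIndex_right, inf_comm, hUk,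
            Subgroup.relIndex_bot_left]
        have hLW : Nat.card (L ⊓ W : Subgroup G) = f.ker.relIndex W := by
          have h3 : f.ker ⊔ (L ⊓ W) = W := by
            apply le_antisymm (sup_le hkW inf_le_right)
            intro w hw
            obtain ⟨a, ha, b, hb, hab⟩ := hL.2.2.2 w (hWK hw)
            have hbW : b ∈ W := by
              have : b = a⁻¹ * w := by rw [hab]; group
              rw [this]
              exact mul_mem (inv_mem (hkW ha)) hw
            rw [hab]
            exact mul_mem (mem_sup_left ha) (mem_sup_right ⟨hb, hbW⟩)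
          have h4 : f.ker.relIndex (f.ker ⊔ (L ⊓ W)) = Nat.card (L ⊓ W : Subgroup G) := by
            rw [Subgroup.relIndex_sup_left, ← Subgroup.inf_relIndex_right]
            have : f.ker ⊓ (L ⊓ W) = ⊥ := by
              rw [← inf_assoc, hL.2.2.1, bot_inf_eq]
            rw [this, Subgroup.relIndex_bot_left]
          rw [← h4, h3]
        obtain ⟨g, -, hg⟩ := conj_of_card_rel W f.ker hkW Subgroup.le_normalizer_of_normal
          (by rw [hWr]; exact (coprime_pi hU hker).symm) U (L ⊓ W) le_sup_right inf_le_right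
          hWr.symm hLW
        refine ⟨g⁻¹, ?_⟩
        have h5 : U = MulAut.conj g⁻¹ • (L ⊓ W) := by
          rw [← hg, ← H1.SZ.conj_mul_smul, inv_mul_cancel, map_one, one_smul]
        rw [h5]
        exact Subgroup.pointwise_smul_le_pointwise_smul_iff.mpr inf_le_left
      intro U hU
      obtain ⟨g', hg'⟩ := hD (U.map f) (map_pi f hU)
      obtain ⟨g, rfl⟩ := hf g'
      have h6 : U ≤ MulAut.conj g • K1 := by
        rw [hK1, ← map_conj f, ← Subgroup.map_le_iff_le_comap]
        exact hg'
      have h7 : MulAut.conj g⁻¹ • U ≤ K1 := by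
        have := Subgroup.pointwise_smul_le_pointwise_smul_iff (a := MulAut.conj g⁻¹) |>.mpr h6
        rwa [← H1.SZ.conj_mul_smul, inv_mul_cancel, map_one, one_smul] at this
      obtain ⟨x, hx⟩ := key (MulAut.conj g⁻¹ • U) (by rw [H1.SZ.card_conj_smul]; exact hU) h7
      refine ⟨g * x, ?_⟩
      have := Subgroup.pointwise_smul_le_pointwise_smul_iff (a := MulAut.conj g) |>.mpr hx
      rwa [← H1.SZ.conj_mul_smul, mul_inv_cancel, map_one, one_smul, ← H1.SZ.conj_mul_smul]
        at this

theorem dpi_of_card_one {π : Set ℕ} {G : Type u} [Group G] [Subsingleton G] : Dpi π G := by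
  refine ⟨⊥, ⟨?_, ?_⟩, ?_⟩
  · intro q hq hqd
    rw [Subgroup.card_bot] at hqd
    exact absurd (Nat.dvd_one.mp hqd) hq.one_lt.ne'
  · intro q hq _ hqd
    rw [Subgroup.index_bot, Nat.card_unique] at hqd
    exact absurd (Nat.dvd_one.mp hqd) hq.one_lt.ne'
  · intro U _
    refine ⟨1, fun x _ => ?_⟩
    rw [Subsingleton.elim x 1]
    exact one_mem _

/-- π-separable groups (given by a normal chain) satisfy `D_π`. -/
theorem dpi_of_chain {π : Set ℕ} {G : Type u} [Group G] [Finite G] (n : ℕ)
    (H : Fin (n + 1) → Subgroup G) (h0 : H 0 = ⊥) (hl : H (Fin.last n) = ⊤) (hm : Monotone H)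
    (hn : ∀ i, (H i).Normal)
    (hf : ∀ i : Fin n, (∀ q : ℕ, q.Prime → q ∣ (H i.castSucc).relIndex (H i.succ) → q ∈ π) ∨
        (∀ q : ℕ, q.Prime → q ∣ (H i.castSucc).relIndex (H i.succ) → q ∉ π)) : Dpi π G := by
  have key : ∀ i : Fin (n + 1), ∀ _ : (H i).Normal, Dpi π (G ⧸ H i) := by
    intro i
    induction i using Fin.reverseInduction with
    | last =>
      intro _
      have : Subsingleton (G ⧸ H (Fin.last n)) := by
        rw [hl]
        exact QuotientGroup.subsingleton_quotient_top
      exact dpi_of_card_one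
    | cast i ih =>
      intro hN
      have hN' := hn i.succ
      have hle : H i.castSucc ≤ H i.succ := hm (Fin.castSucc_lt_succ).le
      let f : G ⧸ H i.castSucc →* G ⧸ H i.succ :=
        QuotientGroup.map _ _ (MonoidHom.id G) (by rwa [Subgroup.comap_id])
      have hfs : Function.Surjective f := by
        intro x
        obtain ⟨g, rfl⟩ := QuotientGroup.mk_surjective x
        exact ⟨QuotientGroup.mk g, rfl⟩
      have hfk : f.ker = (H i.succ).map (QuotientGroup.mk' (H i.castSucc)) := by
        ext x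
        obtain ⟨g, rfl⟩ := QuotientGroup.mk_surjective x
        rw [MonoidHom.mem_ker]
        change (QuotientGroup.mk g : G ⧸ H i.succ) = 1 ↔ _
        rw [QuotientGroup.eq_one_iff]
        constructor
        · intro hg
          exact ⟨g, hg, rfl⟩
        · rintro ⟨y, hy, hyg⟩
          have h1 : y⁻¹ * g ∈ H i.castSucc := QuotientGroup.eq.mp hyg
          have h2 : g = y * (y⁻¹ * g) := by group
          rw [h2]
          exact mul_mem hy (hle h1)
      have hfc : Nat.card f.ker = (H i.castSucc).relIndex (H i.succ) := by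
        rw [hfk, ← Subgroup.relIndex_ker, QuotientGroup.ker_mk']
      refine Dpi.of_surjective f hfs ?_ (ih hN')
      rw [hfc]
      exact hf i
  have h1 := key 0 (hn 0)
  have : (H 0).Normal := hn 0
  refine Dpi.of_surjective (QuotientGroup.mk' (H 0)) (QuotientGroup.mk'_surjective _) ?_ h1
  left
  intro q hq hqd
  rw [QuotientGroup.ker_mk', h0, Subgroup.card_bot] at hqd
  exact absurd (Nat.dvd_one.mp hqd) hq.one_lt.ne'

end H55.HallFT
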