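import Cfsg.Agent.Lib.H3.CNPC
import Cfsg.Agent.Lib.H2.Nilp
import Cfsg.Agent.Lib.H2.Residual
import Cfsg.Agent.Lib.H1.Coprime2
import Cfsg.Agent.Lib.H55.HallFT
import Cfsg.Agent.Lib.H11.MinNonNilp2
import Cfsg.Agent.Lib.H28.RelHall

/-!
Coprime action in which all proper invariant subgroups are nilpotent, given the odd order theorem.
-/

set_option autoImplicit false

open Cfsg Subgroup
open scoped Pointwise

namespace H55.CopInv

universe u

section basic

variable {G : Type u} [Group G] [Finite G]

theorem solv_or {A K : Subgroup G} (h : (Nat.card A).Coprime (Nat.card K)) :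
    Group.IsSolvable A ∨ Group.IsSolvable K := by
  rcases H55.HallFT.solv_or_of_coprime h with h | h
  · exact Or.inl (Cfsg.Agent.S0205.result h)
  · exact Or.inr (Cfsg.Agent.S0205.result h)

theorem isSolvable_of_nilpotent {X : Type u} [Group X] (h : Group.IsNilpotent X) :
    Group.IsSolvable X := by
  have := h
  infer_instance

/-- solvability from the image in a quotient -/
theorem isSolvable_of_map {K N : Subgroup G} [N.Normal] (hN : Group.IsSolvable N)
    (hKN : Group.IsSolvable (K.map (QuotientGroup.mk' N))) : Group.IsSolvable K := by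
  let f : K →* K.map (QuotientGroup.mk' N) := (QuotientGroup.mk' N).subgroupMap K
  let g : (N ⊓ K : Subgroup G) →* K := Subgroup.inclusion inf_le_right
  have h1 : Group.IsSolvable (N ⊓ K : Subgroup G) :=
    H1.Coprime.isSolvable_of_le inf_le_left hN
  refine Group.isSolvable_of_ker_le_range g f ?_
  intro x hx
  have h2 : (x : G) ∈ N := by
    rw [MonoidHom.mem_ker] at hx
    have h3 := congrArg Subtype.val hx
    exact (QuotientGroup.eq_one_iff (x : G)).mp h3
  exact ⟨⟨x, h2, x.2⟩, rfl⟩

theorem isNilpotent_map {G' : Type u} [Group G'] (f : G →* G') {X : Subgroup G}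
    (h : Group.IsNilpotent X) : Group.IsNilpotent (X.map f) := by
  have := h
  exact Group.nilpotent_of_surjective (f.subgroupMap X) (f.subgroupMap_surjective X)

end basic

/-- Key: in a group without proper nontrivial invariant normal subgroups. -/
theorem isPGroup_of_simple {G : Type u} [Group G] [Finite G] (K A : Subgroup G) [hKn : K.Normal]
    (htop : K ⊔ A = ⊤) (hcop : (Nat.card A).Coprime (Nat.card K))
    (hnil : ∀ X : Subgroup G, X ≤ K → X ≠ K → A ≤ normalizer (X : Set G) → Group.IsNilpotent X)
    (hsimple : ∀ N : Subgroup G, N.Normal → N ≤ K → N = ⊥ ∨ N = K)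
    (p : ℕ) [hp : Fact p.Prime] (hp2 : p ≠ 2) (hpK : p ∣ Nat.card K) : IsPGroup p K := by
  have hAK : A ≤ normalizer (K : Set G) := Subgroup.le_normalizer_of_normal
  obtain ⟨S, hS, hSA⟩ := H1.Coprime2.exists_invariant_sylow A K hAK hcop (solv_or hcop) p
  obtain ⟨P, hP⟩ := hS.exists_sylow
  set F := H3.CFun.zeFun.{u} p with hF
  have hSne : S ≠ ⊥ := by
    intro h
    have h1 := hS.2
    rw [h, Subgroup.card_bot] at h1
    have h2 : 0 < (Nat.card K).factorization p := hp.out.factorization_pos_of_dvd
      Nat.card_pos.ne' hpK
    have h3 : 1 < p ^ (Nat.card K).factorization p := Nat.one_lt_pow h2.ne' hp.out.one_lt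
    omega
  have hSp : IsPGroup p S := hS.isPGroup
  have hWne : F.W S ≠ ⊥ := F.ne_bot hSp hSne
  have hWS : F.W S ≤ S := F.le S
  set X := K ⊓ normalizer (F.W S : Set G) with hX
  have hAN : A ≤ normalizer (F.W S : Set G) := hSA.trans (H3.CFun.normalizer_le_normalizer F S)
  by_cases hXK : X = K
  · -- `W` normal
    have hKN : K ≤ normalizer (F.W S : Set G) := by rw [← hXK]; exact inf_le_right
    have hWn : (F.W S).Normal := by
      rw [← Subgroup.normalizer_eq_top_iff, eq_top_iff, ← htop]
      exact sup_le hKN hAN
    rcases hsimple _ hWn (hWS.trans hS.1) with h | h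
    · exact absurd h hWne
    · have : S = K := le_antisymm hS.1 (h ▸ hWS)
      rw [← this]
      exact hSp
  · have hXn : Group.IsNilpotent X := by
      refine hnil X inf_le_left hXK ?_
      exact (le_inf hAK (hAN.trans Subgroup.le_normalizer)).trans
        Subgroup.inf_normalizer_le_normalizer_inf
    have hnpc : HasNormalPComplement p K := by
      apply H3.CNPC.npc hp2 F (H3.CFun.hasZJ_zeFun hp2) P
      apply H2.Nilp.hasNPC_of_nilpotent
      have h1 : F.W S = (F.W (P : Subgroup K)).map K.subtype := by
        rw [← hP, F.map K.subtype_injective]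
      have h2 := H28.SubOf.map_normalizer (F.W (P : Subgroup K))
      rw [← h1] at h2
      have h3 : Group.IsNilpotent ((normalizer (F.W (P : Subgroup K) : Set K)).map K.subtype) := by
        rw [h2]
        exact hXn
      have h4 := ((normalizer (F.W (P : Subgroup K) : Set K)).equivMapOfInjective K.subtype
        K.subtype_injective).symm
      exact Group.nilpotent_of_mulEquiv h4
    obtain ⟨P', N, hN, hc⟩ := hnpc
    have hDN : pResidual p K ≤ N := by
      apply H2.Residual.residual_le_of_isPGroup_quotient
      have h1 : Nat.card (K ⧸ N) = Nat.card P' := by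
        rw [← Subgroup.index_eq_card]
        exact hc.symm.index_eq_card
      obtain ⟨k, hk⟩ := P'.2.exists_card_eq
      exact IsPGroup.of_card (h1.trans hk)
    have hDn : ((pResidual p K).map K.subtype).Normal := inferInstance
    rcases hsimple _ hDn (Subgroup.map_subtype_le _) with h | h
    · have h1 : pResidual p K = ⊥ := by
        rwa [Subgroup.map_eq_bot_iff_of_injective _ K.subtype_injective] at h
      obtain ⟨k, hk⟩ := H2.Residual.exists_index_residual (G := K) (p := p)
      rw [h1, Subgroup.index_bot] at hk
      exact IsPGroup.of_card hk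
    · exfalso
      have h1 : pResidual p K = ⊤ := by
        apply Subgroup.map_injective K.subtype_injective
        rw [h, ← MonoidHom.range_eq_map, Subgroup.range_subtype]
      have h2 : N = ⊤ := top_le_iff.mp (h1 ▸ hDN)
      have h3 : (P' : Subgroup K) = ⊥ := by
        have := hc.disjoint
        rwa [h2, disjoint_iff, top_inf_eq] at this
      apply P'.not_dvd_index
      rw [h3, Subgroup.index_bot]
      exact hpK

/-- If all proper `A`-invariant subgroups of `K` are nilpotent then `K` is solvable. -/
theorem solvable (n : ℕ) : ∀ {G : Type u} [Group G] [Finite G] (K A : Subgroup G) [K.Normal],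
    Nat.card G = n → K ⊔ A = ⊤ → (Nat.card A).Coprime (Nat.card K) →
    (∀ X : Subgroup G, X ≤ K → X ≠ K → A ≤ normalizer (X : Set G) → Group.IsNilpotent X) →
    Group.IsSolvable K := by
  induction n using Nat.strong_induction_on with
  | _ n ih =>
    intro G _ _ K A hKn hcard htop hcop hnil
    by_cases hN : ∃ N : Subgroup G, N.Normal ∧ N ≤ K ∧ N ≠ ⊥ ∧ N ≠ K
    · obtain ⟨N, hNn, hNK, hN1, hN2⟩ := hN
      have hNs : Group.IsSolvable N := isSolvable_of_nilpotent (hnil N hNK hN2
        Subgroup.le_normalizer_of_normal)
      apply isSolvable_of_map (N := N) hNs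
      set f := QuotientGroup.mk' N with hf
      have hfs : Function.Surjective f := QuotientGroup.mk'_surjective N
      have hfk : f.ker = N := QuotientGroup.ker_mk' N
      have : (K.map f).Normal := Subgroup.Normal.map inferInstance _ hfs
      refine ih (Nat.card (G ⧸ N)) ?_ (K.map f) (A.map f) rfl ?_ ?_ ?_
      · rw [← hcard, ← Subgroup.index_eq_card, ← Subgroup.card_mul_index N]
        have h1 : 1 < Nat.card N := by
          have h2 : Nat.card N ≠ 1 := fun h => hN1 (Subgroup.card_eq_one.mp h)
          have := Nat.card_pos (α := N)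
          omega
        have h3 : 0 < N.index := Nat.pos_of_ne_zero Subgroup.index_ne_zero_of_finite
        nlinarith
      · rw [← Subgroup.map_sup, htop, Subgroup.map_top_of_surjective f hfs]
      · exact Nat.Coprime.coprime_dvd_left (Subgroup.card_map_dvd A f)
          (Nat.Coprime.coprime_dvd_right (Subgroup.card_map_dvd K f) hcop)
      · intro X hXK hXne hAX
        have hX : X = (X.comap f).map f := (Subgroup.map_comap_eq_self_of_surjective hfs X).symm
        rw [hX]
        apply isNilpotent_map
        apply hnil
        · have := Subgroup.comap_mono (f := f) hXK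
          rwa [Subgroup.comap_map_eq, hfk, sup_eq_left.mpr hNK] at this
        · intro h
          apply hXne
          rw [hX, h]
        · intro a ha
          have h1 := hAX (Subgroup.mem_map_of_mem f ha)
          rw [Subgroup.mem_normalizer_iff] at h1 ⊢
          intro x
          have := h1 (f x)
          simpa [Subgroup.mem_comap] using this
    · have hsimple : ∀ N : Subgroup G, N.Normal → N ≤ K → N = ⊥ ∨ N = K := by
        intro N hNn hNK
        by_contra hcon
        rw [not_or] at hcon
        exact hN ⟨N, hNn, hNK, hcon.1, hcon.2⟩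
      by_cases hodd : ∃ p : ℕ, p.Prime ∧ p ≠ 2 ∧ p ∣ Nat.card K
      · obtain ⟨p, hp, hp2, hpK⟩ := hodd
        have := Fact.mk hp
        have h1 := isPGroup_of_simple K A htop hcop hnil hsimple p hp2 hpK
        exact isSolvable_of_nilpotent h1.isNilpotent
      · have h1 : IsPGroup 2 K := by
          have := Fact.mk Nat.prime_two
          apply H2.Nilp.isPGroup_of_primeFactors
          intro q hq hqd
          by_contra hcon
          exact hodd ⟨q, hq, hcon, hqd⟩
        have := Fact.mk Nat.prime_two
        exact isSolvable_of_nilpotent h1.isNilpotent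

/-- structure of `K` when it is not nilpotent -/
theorem struct {G : Type u} [Group G] [Finite G] (K A : Subgroup G) [hKn : K.Normal]
    (htop : K ⊔ A = ⊤) (hcop : (Nat.card A).Coprime (Nat.card K))
    (hnil : ∀ X : Subgroup G, X ≤ K → X ≠ K → A ≤ normalizer (X : Set G) → Group.IsNilpotent X)
    (hKnn : ¬ Group.IsNilpotent K) :
    Group.IsSolvable K ∧ ∃ r q a b : ℕ, r.Prime ∧ q.Prime ∧ r ≠ q ∧ Nat.card K = r ^ a * q ^ b ∧
      ∃ R : Subgroup G, R.Normal ∧ R ≠ ⊥ ∧ H1.Coprime2.IsSylIn r K R := by
  have hs := solvable _ K A rfl htop hcop hnil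
  refine ⟨hs, ?_⟩
  have hAK : A ≤ normalizer (K : Set G) := Subgroup.le_normalizer_of_normal
  have hK1 : Nontrivial K := by
    rw [← not_subsingleton_iff_nontrivial]
    intro h
    exact hKnn inferInstance
  have hs' : Group.IsSolvable (K ⧸ (⊥ : Subgroup K)) := inferInstance
  obtain ⟨M0, hM0n, -, hM0p⟩ := H1.SZ.exists_normal_prime_index (⊥ : Subgroup K) bot_ne_top hs'
  set q := M0.index with hq
  have hqf := Fact.mk hM0p
  have hDM : pResidual q K ≤ M0 := by
    apply H2.Residual.residual_le_of_isPGroup_quotient
    exact IsPGroup.of_card (n := 1) (by rw [← Subgroup.index_eq_card, pow_one])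
  set M := (pResidual q K).map K.subtype with hM
  have hMn : M.Normal := inferInstance
  have hMK : M ≤ K := Subgroup.map_subtype_le _
  have hMne : M ≠ K := by
    intro h
    have h1 : pResidual q K = ⊤ := by
      apply Subgroup.map_injective K.subtype_injective
      rw [← hM, h, ← MonoidHom.range_eq_map, Subgroup.range_subtype]
    have h2 : M0 = ⊤ := top_le_iff.mp (h1 ▸ hDM)
    rw [h2, Subgroup.index_top] at hq
    exact hM0p.one_lt.ne' hq
  have hMnil : Group.IsNilpotent M := hnil M hMK hMne Subgroup.le_normalizer_of_normal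
  obtain ⟨k, hk⟩ := H2.Residual.exists_index_residual (G := K) (p := q)
  have hKc : Nat.card K = Nat.card M * q ^ k := by
    rw [hM, Subgroup.card_map_of_injective K.subtype_injective, ← hk, Subgroup.card_mul_index]
  obtain ⟨Q, hQ, hQA⟩ := H1.Coprime2.exists_invariant_sylow A K hAK hcop (Or.inr hs) q
  -- normal Sylow subgroups for the other primes
  have hR : ∀ r : ℕ, r.Prime → r ≠ q → ∃ R : Subgroup G, R.Normal ∧ H1.Coprime2.IsSylIn r K R := by
    intro r hr hrq
    have := Fact.mk hr
    obtain ⟨P⟩ : Nonempty (Sylow r M) := inferInstance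
    have hPn : (P : Subgroup M).Normal := by
      have h1 := ((Group.isNilpotent_of_finite_tfae (G := M)).out 0 3).1 hMnil
      exact h1 r inferInstance P
    have hPc : (P : Subgroup M).Characteristic := P.characteristic_of_normal hPn
    refine ⟨(P : Subgroup M).map M.subtype, inferInstance, (Subgroup.map_subtype_le _).trans hMK, ?_⟩
    rw [Subgroup.card_map_of_injective M.subtype_injective, P.card_eq_multiplicity, hKc,
      Nat.factorization_mul Nat.card_pos.ne' (pow_ne_zero _ hM0p.ne_zero)]
    congr 1
    rw [Finsupp.add_apply, Nat.Prime.factorization_pow hM0p, Finsupp.single_apply, if_neg hrq.symm,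
      add_zero]
  have hQp : IsPGroup q Q := hQ.isPGroup
  by_cases hall : ∀ r : ℕ, r.Prime → r ≠ q → ∀ R : Subgroup G, R.Normal → H1.Coprime2.IsSylIn r K R →
      R ≤ centralizer (Q : Set G)
  · exfalso
    apply hKnn
    refine ((Group.isNilpotent_of_finite_tfae (G := K)).out 0 3).2 ?_
    intro r hrf P
    have hr := hrf.out
    have hPS := H1.Coprime2.isSylIn_map P
    have key : K ≤ normalizer (((P : Subgroup K).map K.subtype : Subgroup G) : Set G) := by
      by_cases hrq : r = q
      · subst hrq
        obtain ⟨g, hg, hgP⟩ := H1.Coprime2.IsSylIn.conj hQ hPS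
        rw [← hgP]
        have h1 : K ≤ normalizer (Q : Set G) := by
          have h2 : (K ⊓ normalizer (Q : Set G)).relIndex K = 1 := by
            by_contra hne
            obtain ⟨l, hl, hld⟩ := Nat.exists_prime_and_dvd hne
            have hlf := Fact.mk hl
            by_cases hlr : l = q
            · subst hlr
              have h3 : Q ≤ K ⊓ normalizer (Q : Set G) := le_inf hQ.1 Subgroup.le_normalizer
              have h4 : (K ⊓ normalizer (Q : Set G)).relIndex K ∣ Q.relIndex K :=
                Subgroup.relIndex_dvd_of_le_left K h3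
              obtain ⟨P1, hP1⟩ := hQ.exists_sylow
              have h5 : Q.relIndex K = (P1 : Subgroup K).index := by
                rw [← hP1, ← H28.SubOf.relIndex_eq_index, H28.SubOf.subgroupOf_map]
              rw [h5] at h4
              exact P1.not_dvd_index (hld.trans h4)
            · obtain ⟨R, hRn, hRS⟩ := hR l hl hlr
              have hRQ := hall l hl hlr R hRn hRS
              have h3 : R ≤ K ⊓ normalizer (Q : Set G) :=
                le_inf hRS.1 (hRQ.trans (Subgroup.centralizer_le_normalizer _))
              have h4 : (K ⊓ normalizer (Q : Set G)).relIndex K ∣ R.relIndex K :=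
                Subgroup.relIndex_dvd_of_le_left K h3
              obtain ⟨P1, hP1⟩ := hRS.exists_sylow
              have h5 : R.relIndex K = (P1 : Subgroup K).index := by
                rw [← hP1, ← H28.SubOf.relIndex_eq_index, H28.SubOf.subgroupOf_map]
              rw [h5] at h4
              exact P1.not_dvd_index (hld.trans h4)
          have h3 := Subgroup.relIndex_eq_one.mp h2
          exact h3.trans inf_le_right
        have h2 : MulAut.conj g • Q = Q := H1.SZ.conj_smul_eq_of_mem_normalizer (h1 hg)
        rw [h2]
        exact h1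
      · obtain ⟨R, hRn, hRS⟩ := hR r hr hrq
        obtain ⟨g, hg, hgP⟩ := H1.Coprime2.IsSylIn.conj hRS hPS
        have h2 : MulAut.conj g • R = R := Subgroup.Normal.conjAct hRn g
        rw [← hgP, h2]
        exact Subgroup.le_normalizer_of_normal
    rw [← Subgroup.normalizer_eq_top_iff, eq_top_iff]
    have h2 := H28.SubOf.map_normalizer (P : Subgroup K)
    rw [inf_eq_left.mpr key] at h2
    have h3 : (normalizer ((P : Subgroup K) : Set K)) = ⊤ := by
      apply Subgroup.map_injective K.subtype_injective
      rw [h2, ← MonoidHom.range_eq_map, Subgroup.range_subtype]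
    exact h3.ge
  · push Not at hall
    obtain ⟨r, hr, hrq, R, hRn, hRS, hRQ⟩ := hall
    have hrf := Fact.mk hr
    have hRp : IsPGroup r R := hRS.isPGroup
    have hXK : R ⊔ Q = K := by
      by_contra hne
      have h1 : Group.IsNilpotent (R ⊔ Q : Subgroup G) := by
        refine hnil _ (sup_le hRS.1 hQ.1) hne ?_
        exact (le_inf Subgroup.le_normalizer_of_normal hQA).trans
          (Subgroup.normalizer_inf_normalizer_le_normalizer_sup R Q)
      apply hRQ
      intro x hx
      rw [Subgroup.mem_centralizer_iff]
      intro y hy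
      exact (H11.MinNonNilp2.commute_of_nilpotent (R ⊔ Q) R Q r q hrq hRp hQp le_sup_left
        le_sup_right hx hy).symm
    have hdis : Q ⊓ R = ⊥ := by
      rw [← disjoint_iff]
      exact (IsPGroup.disjoint_of_ne r q hrq R Q hRp hQp).symm
    have hcard := H28.RelHall.card_sup_mul_card_inf (H := Q) (N := R)
      Subgroup.le_normalizer_of_normal
    rw [sup_comm, hXK, hdis, Subgroup.card_bot, mul_one, hQ.2, hRS.2, mul_comm] at hcard
    refine ⟨r, q, _, _, hr, hM0p, hrq, hcard, R, hRn, ?_, hRS⟩
    rintro rfl
    exact hRQ bot_le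

end H55.CopInv
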