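import Mathlib
import Cfsg.Prelude.Def_Balance
import Cfsg.Agent.Lib.H27.EquivSig
import Cfsg.Agent.Lib.H59.PCons2
import Cfsg.Agent.Lib.H26.SolvBal
import Cfsg.Agent.Lib.H13.Cores
import Cfsg.Agent.Lib.H1.Cores

/-!
The subgroup generated by the cores `O(C_G(b))` in a group whose 2-local subgroups are
2-constrained (S3110), modulo the solvable signalizer functor theorem.
-/

set_option autoImplicit false
set_option linter.unusedSectionVars false

open Subgroup Cfsg
open scoped Pointwise

namespace H55.CoreGen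

variable {G : Type*} [Group G] [Finite G] {p : ℕ} [hp : Fact p.Prime]

omit [Finite G] hp in
theorem centralizer_zpowers (b : G) :
    centralizer (zpowers b : Set G) = centralizer ({b} : Set G) := by
  rw [zpowers_eq_closure, centralizer_closure]

omit [Finite G] hp in
theorem isPGroup_zpowers {b : G} {n : ℕ} (h : b ^ p ^ n = 1) : IsPGroup p (zpowers b) := by
  intro x
  obtain ⟨k, hk⟩ := mem_zpowers_iff.mp x.2
  refine ⟨n, ?_⟩
  apply Subtype.ext
  rw [SubgroupClass.coe_pow, ← hk, ← zpow_natCast, ← zpow_mul, mul_comm, zpow_mul, zpow_natCast, h,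
    one_zpow]
  rfl

/-- the centralizer of a nontrivial `p`-element is `p`-constrained -/
theorem constrained
    (h2c : ∀ T : Subgroup G, IsPGroup p T → T ≠ ⊥ → IsPConstrained p ↥(normalizer (T : Set G)))
    {b : G} (hb : IsPGroup p (zpowers b)) (hb1 : b ≠ 1) :
    IsPConstrained p ↥(centralizer ({b} : Set G)) := by
  have hT : zpowers b ≠ ⊥ := by rwa [Ne, zpowers_eq_bot]
  have := H59.PCons2.isPConstrained_centralizer_of_le (h2c _ hb hT) le_normalizer hb
    (centralizer_le_normalizer _)
  rwa [centralizer_zpowers] at this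

omit hp in
theorem le_normalizer_core (a : G) :
    centralizer ({a} : Set G) ≤ normalizer (centralizerPPrimeCore p a : Set G) :=
  le_normalizer.trans (H13.Cores.normalizer_le_normalizer_map_pPrimeCore _)

omit hp in
theorem coprime_core (a : G) : (Nat.card (centralizerPPrimeCore p a)).Coprime p :=
  H13.Cores.coprime_card_map_pPrimeCore _

/-- balance -/
theorem balance
    (h2c : ∀ T : Subgroup G, IsPGroup p T → T ≠ ⊥ → IsPConstrained p ↥(normalizer (T : Set G)))
    {a b : G} (ha : IsPGroup p (zpowers a)) (hb : IsPGroup p (zpowers b)) (hb1 : b ≠ 1)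
    (hab : a * b = b * a) :
    centralizerPPrimeCore p a ⊓ centralizer {b} ≤ centralizerPPrimeCore p b := by
  set H := centralizer ({b} : Set G) with hH
  have hc := constrained h2c hb hb1
  have haH : a ∈ H := by rw [hH, mem_centralizer_singleton_iff]; exact hab
  set X : Subgroup H := (centralizerPPrimeCore p a ⊓ H).subgroupOf H with hX
  set P : Subgroup H := (zpowers a).subgroupOf H with hP
  have hPp : IsPGroup p P := ha.comap_subtype
  have hXc : (Nat.card X).Coprime p := by
    apply Nat.Coprime.coprime_dvd_left _ (coprime_core (p := p) a)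
    rw [hX, H1.SZ.card_subgroupOf_of_le inf_le_right]
    exact card_dvd_of_le inf_le_left
  have h1 : X ≤ centralizer (P : Set H) := by
    intro x hx
    rw [mem_centralizer_iff]
    intro y hy
    apply Subtype.ext
    have hx1 : (x : G) ∈ centralizer ({a} : Set G) := H27.SigBasic.centralizerPPrimeCore_le p a (mem_inf.mp (mem_subgroupOf.mp hx)).1
    rw [← centralizer_zpowers, mem_centralizer_iff] at hx1
    exact hx1 _ (mem_subgroupOf.mp hy)
  have h2 : centralizer (P : Set H) ≤ normalizer (X : Set H) := by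
    apply H1.Coprime.le_normalizer_of_conj_mem
    intro c hc x hx
    rw [mem_subgroupOf] at hx ⊢
    obtain ⟨hx1, hx2⟩ := mem_inf.mp hx
    have hca : (c : G) ∈ centralizer ({a} : Set G) := by
      rw [mem_centralizer_singleton_iff]
      have := mem_centralizer_iff.mp hc ⟨a, haH⟩ (mem_subgroupOf.mpr (mem_zpowers a))
      exact (congrArg Subtype.val this).symm
    refine mem_inf.mpr ⟨?_, (c * x * c⁻¹).2⟩
    exact (mem_normalizer_iff.mp (le_normalizer_core (p := p) a hca) _).mp hx1
  have h3 := H26.SolvBal.le_pPrimeCore_of_normal_in_centralizer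
    ((H59.PCons.isPConstrained_iff.mp hc).centralizer_pCore_le) hPp hXc h1 h2
  intro x hx
  exact ⟨⟨x, (mem_inf.mp hx).2⟩, h3 (mem_subgroupOf.mpr hx), rfl⟩


/-- the cores shrink along powers -/
theorem core_le_of_mem_zpowers
    (h2c : ∀ T : Subgroup G, IsPGroup p T → T ≠ ⊥ → IsPConstrained p ↥(normalizer (T : Set G)))
    {b z : G} (hb : IsPGroup p (zpowers b)) (hz : z ∈ zpowers b) (hz1 : z ≠ 1) :
    centralizerPPrimeCore p b ≤ centralizerPPrimeCore p z := by
  have h1 : zpowers z ≤ zpowers b := by rwa [zpowers_le]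
  have hbz : b * z = z * b := by
    obtain ⟨k, rfl⟩ := mem_zpowers_iff.mp hz
    exact (Commute.refl b).zpow_right k
  have h2 := balance h2c hb (hb.to_le h1) hz1 hbz
  refine le_trans (le_inf le_rfl ?_) h2
  refine (H27.SigBasic.centralizerPPrimeCore_le p b).trans ?_
  rw [← centralizer_zpowers, ← centralizer_zpowers]
  exact centralizer_le h1

theorem core_conj (a g : G) :
    centralizerPPrimeCore p (g * a * g⁻¹) = (centralizerPPrimeCore p a).map (MulAut.conj g).toMonoidHom := by
  have key : ∀ (a g : G), (centralizerPPrimeCore p a).map (MulAut.conj g).toMonoidHom ≤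
      centralizerPPrimeCore p (g * a * g⁻¹) := by
    intro a g
    have h1 : (centralizerPPrimeCore p a).map (MulAut.conj g).toMonoidHom ≤
        centralizer ({g * a * g⁻¹} : Set G) := by
      rintro _ ⟨x, hx, rfl⟩
      have hx1 := mem_centralizer_singleton_iff.mp (H27.SigBasic.centralizerPPrimeCore_le p a hx)
      rw [mem_centralizer_singleton_iff]
      show g * x * g⁻¹ * (g * a * g⁻¹) = g * a * g⁻¹ * (g * x * g⁻¹)
      calc g * x * g⁻¹ * (g * a * g⁻¹) = g * (x * a) * g⁻¹ := by group
        _ = g * (a * x) * g⁻¹ := by rw [hx1]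
        _ = _ := by group
    refine H13.Cores.le_map_pPrimeCore h1 ?_ ?_
    · apply H1.Coprime.le_normalizer_of_conj_mem
      rintro c hc _ ⟨x, hx, rfl⟩
      have hc1 : g⁻¹ * c * g ∈ centralizer ({a} : Set G) := by
        rw [mem_centralizer_singleton_iff] at hc ⊢
        calc g⁻¹ * c * g * a = g⁻¹ * (c * (g * a * g⁻¹)) * g := by group
          _ = g⁻¹ * (g * a * g⁻¹ * c) * g := by rw [hc]
          _ = _ := by group
      refine ⟨(g⁻¹ * c * g) * x * (g⁻¹ * c * g)⁻¹,
        (mem_normalizer_iff.mp (le_normalizer_core (p := p) a hc1) _).mp hx, ?_⟩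
      show g * ((g⁻¹ * c * g) * x * (g⁻¹ * c * g)⁻¹) * g⁻¹ = c * (g * x * g⁻¹) * c⁻¹
      group
    · rw [card_map_of_injective (MulAut.conj g).injective]
      exact coprime_core a
  apply le_antisymm _ (key a g)
  have h2 := key (g * a * g⁻¹) g⁻¹
  have h3 : g⁻¹ * (g * a * g⁻¹) * g⁻¹⁻¹ = a := by group
  rw [h3] at h2
  intro x hx
  refine ⟨g⁻¹ * x * g, h2 ⟨x, hx, ?_⟩, ?_⟩
  · show g⁻¹ * x * g⁻¹⁻¹ = _
    group
  · show g * (g⁻¹ * x * g) * g⁻¹ = x
    group

theorem zpowers_isPGroup_of_orderOf {a : G} (ha : orderOf a = p) : IsPGroup p (zpowers a) :=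
  isPGroup_zpowers (n := 1) (by rw [pow_one, ← ha, pow_orderOf_eq_one])

theorem ne_one_of_orderOf {a : G} (ha : orderOf a = p) : a ≠ 1 := by
  rintro rfl
  rw [orderOf_one] at ha
  exact hp.out.one_lt.ne ha

/-- the cores form an equivariant signalizer functor -/
theorem hyp (hssft : H27.EquivSig.SSFT p G)
    (h2c : ∀ T : Subgroup G, IsPGroup p T → T ≠ ⊥ → IsPConstrained p ↥(normalizer (T : Set G)))
    (hsolv : ∀ a : G, Group.IsSolvable ↥(centralizerPPrimeCore p a)) :
    H27.EquivSig.Hyp p (fun a : G => centralizerPPrimeCore p a) where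
  ssft := hssft
  cent := fun a _ => H27.SigBasic.centralizerPPrimeCore_le p a
  prime := fun a _ h => (Nat.Prime.coprime_iff_not_dvd hp.out).mp (coprime_core a).symm h
  solv := fun a _ => hsolv a
  equiv := fun a g _ => core_conj a g
  bal := fun _ _ ha hb hab => balance h2c (zpowers_isPGroup_of_orderOf ha.1)
    (zpowers_isPGroup_of_orderOf hb.1) (ne_one_of_orderOf hb.1) hab

/-- equivariance of `W` -/
theorem normalizer_le_normalizer_W (B : Subgroup G) :
    normalizer (B : Set G) ≤
      normalizer (H27.EquivSig.W (fun a : G => centralizerPPrimeCore p a) B : Set G) := by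
  apply H1.Coprime.le_normalizer_of_conj_mem
  intro g hg x hx
  have h1 : H27.EquivSig.W (fun a : G => centralizerPPrimeCore p a) B ≤
      (H27.EquivSig.W (fun a : G => centralizerPPrimeCore p a) B).comap (MulAut.conj g).toMonoidHom := by
    apply H27.EquivSig.W_le
    intro a ha h1 y hy
    have h2 : g * a * g⁻¹ ∈ B := (mem_normalizer_iff.mp hg a).mp ha
    have h3 : g * a * g⁻¹ ≠ 1 := by
      intro h
      exact h1 (conj_eq_one_iff.mp h)
    apply H27.EquivSig.le_W (θ := fun a : G => centralizerPPrimeCore p a) h2 h3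
    show _ ∈ centralizerPPrimeCore p (g * a * g⁻¹)
    rw [core_conj]
    exact ⟨y, hy, rfl⟩
  exact h1 hx

/-- For an involution `b` normalizing the elementary abelian 2-group `E`, `|E| ≤ |C_E(b)|²`. -/
theorem card_le_sq_centralizer {E : Subgroup G} (hE : IsElementaryAbelian 2 E) {b : G}
    (hb : b ^ 2 = 1) (hbE : b ∈ normalizer (E : Set G)) :
    Nat.card E ≤ Nat.card (E ⊓ centralizer {b} : Subgroup G) ^ 2 := by
  have hcomm := H27.ElAb.comm hE
  have hbb : b⁻¹ = b := by rw [inv_eq_iff_mul_eq_one, ← pow_two, hb]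
  have hconj : ∀ x ∈ E, b * x * b ∈ E := by
    intro x hx
    have := (mem_normalizer_iff.mp hbE x).mp hx
    rwa [hbb] at this
  have hb2 : ∀ y : G, b * (b * y) = y := by
    intro y; rw [← mul_assoc, ← pow_two, hb, one_mul]
  let f : E →* E :=
    { toFun := fun x => ⟨x * (b * x * b), E.mul_mem x.2 (hconj x x.2)⟩
      map_one' := by
        apply Subtype.ext
        show (1 : G) * (b * 1 * b) = 1
        rw [mul_one, one_mul, ← pow_two, hb]
      map_mul' := by
        rintro ⟨x, hx⟩ ⟨y, hy⟩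
        apply Subtype.ext
        show x * y * (b * (x * y) * b) = x * (b * x * b) * (y * (b * y * b))
        have h1 : b * (x * y) * b = (b * x * b) * (b * y * b) := by
          calc b * (x * y) * b = b * x * (y * b) := by group
            _ = b * x * (b * (b * (y * b))) := by rw [hb2]
            _ = _ := by group
        rw [h1]
        have h2 := hcomm y hy (b * x * b) (hconj x hx)
        calc x * y * (b * x * b * (b * y * b)) = x * (y * (b * x * b)) * (b * y * b) := by group
          _ = x * ((b * x * b) * y) * (b * y * b) := by rw [h2]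
          _ = _ := by group }
  have hker : f.ker.map E.subtype ≤ E ⊓ centralizer {b} := by
    rintro _ ⟨⟨x, hx⟩, hx', rfl⟩
    refine mem_inf.mpr ⟨hx, ?_⟩
    rw [mem_centralizer_singleton_iff]
    have h1 : x * (b * x * b) = 1 := congrArg Subtype.val (MonoidHom.mem_ker.mp hx')
    have h2 : x * x = 1 := by rw [← pow_two]; exact hE.2 x hx
    have h3 : b * x * b = x := by
      have : b * x * b = x⁻¹ := (eq_inv_of_mul_eq_one_right h1)
      rw [this, inv_eq_iff_mul_eq_one]; exact h2
    show x * b = b * x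
    calc x * b = (b * x * b) * b := by rw [h3]
      _ = b * x * (b * b) := by group
      _ = b * x := by rw [← pow_two, hb, mul_one]
  have hrange : f.range.map E.subtype ≤ E ⊓ centralizer {b} := by
    rintro _ ⟨_, ⟨⟨x, hx⟩, rfl⟩, rfl⟩
    refine mem_inf.mpr ⟨E.mul_mem hx (hconj x hx), ?_⟩
    rw [mem_centralizer_singleton_iff]
    show x * (b * x * b) * b = b * (x * (b * x * b))
    have h1 := hcomm x hx _ (hconj x hx)
    calc x * (b * x * b) * b = (b * x * b) * x * b := by rw [h1]
      _ = b * (x * (b * x * b)) := by group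
  have h1 : Nat.card E = Nat.card f.ker * Nat.card f.range := by
    rw [← Subgroup.card_mul_index f.ker, Subgroup.index_ker]
  rw [h1, pow_two]
  apply Nat.mul_le_mul
  · rw [← card_map_of_injective E.subtype_injective]
    exact Nat.le_of_dvd Nat.card_pos (card_dvd_of_le hker)
  · rw [← card_map_of_injective E.subtype_injective]
    exact Nat.le_of_dvd Nat.card_pos (card_dvd_of_le hrange)

theorem centralizer_elem {E : Subgroup G} (hE : IsElementaryAbelian 2 E) {b : G} (hb : b ^ 2 = 1)
    (hbE : b ∈ normalizer (E : Set G)) (hE8 : 2 ^ 3 ≤ Nat.card E) :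
    ∃ F : Subgroup G, IsElementaryAbelian 2 F ∧ b ∈ F ∧ E ⊓ centralizer {b} ≤ F ∧
      2 ^ 2 ≤ Nat.card (E ⊓ centralizer {b} : Subgroup G) ∧ 2 ^ 3 ≤ Nat.card F := by
  have h1 := card_le_sq_centralizer hE hb hbE
  have hC : IsElementaryAbelian 2 (E ⊓ centralizer {b} : Subgroup G) := H27.ElAb.mono hE inf_le_left
  have h4 : 2 ^ 2 ≤ Nat.card (E ⊓ centralizer {b} : Subgroup G) := by
    obtain ⟨n, hn⟩ := IsPGroup.iff_card.mp (H27.ElAb.isPGroup hC)
    rw [hn] at h1 ⊢
    apply Nat.pow_le_pow_right (by norm_num)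
    by_contra hcon
    have : n ≤ 1 := by omega
    have h5 : (2 ^ n) ^ 2 ≤ 4 := by
      rw [← pow_mul]
      exact (Nat.pow_le_pow_right (by norm_num) (show n * 2 ≤ 2 by omega)).trans (by norm_num)
    have := (hE8.trans h1).trans h5
    norm_num at this
  by_cases hbE' : b ∈ E
  · exact ⟨E, hE, hbE', inf_le_left, h4, hE8⟩
  · have hbz : IsElementaryAbelian 2 (zpowers b) := by
      apply H27.ElAb.of_comm
      · rintro x hx y hy
        obtain ⟨k, rfl⟩ := mem_zpowers_iff.mp hx
        obtain ⟨l, rfl⟩ := mem_zpowers_iff.mp hy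
        rw [← zpow_add, ← zpow_add, add_comm]
      · rintro x hx
        obtain ⟨k, rfl⟩ := mem_zpowers_iff.mp hx
        rw [← zpow_natCast, ← zpow_mul, mul_comm, zpow_mul, zpow_natCast, hb, one_zpow]
    have hcm : ⁅(E ⊓ centralizer {b} : Subgroup G), zpowers b⁆ = ⊥ := by
      rw [commutator_eq_bot_iff_le_centralizer, centralizer_zpowers]
      exact inf_le_right
    have hF := H27.ElAb.sup hC hbz hcm
    refine ⟨(E ⊓ centralizer {b}) ⊔ zpowers b, hF, mem_sup_right (mem_zpowers b), le_sup_left, h4, ?_⟩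
    have hlt : (E ⊓ centralizer {b} : Subgroup G) < (E ⊓ centralizer {b}) ⊔ zpowers b := by
      refine lt_of_le_of_ne le_sup_left ?_
      intro h
      have : b ∈ (E ⊓ centralizer {b} : Subgroup G) := by
        rw [h]; exact mem_sup_right (mem_zpowers b)
      exact hbE' (mem_inf.mp this).1
    obtain ⟨m, hm⟩ := IsPGroup.iff_card.mp (H27.ElAb.isPGroup hF)
    have h5 : Nat.card (E ⊓ centralizer {b} : Subgroup G) <
        Nat.card ((E ⊓ centralizer {b}) ⊔ zpowers b : Subgroup G) := by
      by_contra hcon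
      exact hlt.ne (eq_of_le_of_card_ge hlt.le (not_lt.mp hcon))
    rw [hm] at h5 ⊢
    apply Nat.pow_le_pow_right (by norm_num)
    by_contra hcon
    have h6 : 2 ^ m ≤ 2 ^ 2 := Nat.pow_le_pow_right (by norm_num) (by omega)
    exact absurd (h4.trans_lt (h5.trans_le h6)) (lt_irrefl _)

theorem main {S : Subgroup G} (hS : IsPGroup 2 S)
    (h : H27.EquivSig.Hyp 2 (fun a : G => centralizerPPrimeCore 2 a))
    (hpow : ∀ b z : G, IsPGroup 2 (zpowers b) → z ∈ zpowers b → z ≠ 1 →
      centralizerPPrimeCore 2 b ≤ centralizerPPrimeCore 2 z)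
    {E : Subgroup G} (hE : IsElementaryAbelian 2 E) (hE8 : 2 ^ 3 ≤ Nat.card E)
    (hSE : S ≤ normalizer (E : Set G)) {B : Subgroup G} (hBS : B ≤ S)
    (hB : ¬ PRankLE 2 1 ↥B) :
    H27.EquivSig.W (fun a : G => centralizerPPrimeCore 2 a) E =
      H27.EquivSig.W (fun a : G => centralizerPPrimeCore 2 a) B := by
  set θ : G → Subgroup G := fun a : G => centralizerPPrimeCore 2 a with hθ
  -- the value at an involution of `S`
  have key : ∀ b ∈ S, b ^ 2 = 1 → b ≠ 1 → θ b ≤ H27.EquivSig.W θ E ∧
      H27.EquivSig.W θ E ⊓ centralizer {b} ≤ θ b := by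
    intro b hbS hb2 hb1
    obtain ⟨F, hF, hbF, hEF, h4, h8⟩ := centralizer_elem hE hb2 (hSE hbS) hE8
    have h1 : H27.EquivSig.W θ F = H27.EquivSig.W θ E :=
      (h.W_eq hF h8 hEF h4).symm.trans (h.W_eq hE hE8 inf_le_left h4)
    constructor
    · rw [← h1]
      exact H27.EquivSig.le_W hbF hb1
    · rw [← h1, (h.main hF h8).2 b hbF hb1]
  apply le_antisymm
  · obtain ⟨B₀, hB₀, hB₀B, hc⟩ := H27.EquivSig.exists_of_not_pRankLE hB
    have hc2 := H27.EquivSig.pow_le_card hB₀ hc
    have h1 : H27.EquivSig.W θ E ≤ H27.EquivSig.W θ B₀ := by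
      apply H27.GenSub.le_of_centralizers 2 B₀ _ _ hB₀ hc2
      · exact (hB₀B.trans hBS).trans (hSE.trans (normalizer_le_normalizer_W E))
      · exact (h.main hE hE8).1
      · intro a ha ha1
        exact (key a (hBS (hB₀B ha)) (hB₀.2 a ha) ha1).2.trans (H27.EquivSig.le_W ha ha1)
    exact h1.trans (H27.EquivSig.W_le fun a ha h1 => H27.EquivSig.le_W (hB₀B ha) h1)
  · apply H27.EquivSig.W_le
    intro b hb hb1
    have hbp : IsPGroup 2 (zpowers b) := hS.to_le (by rw [zpowers_le]; exact hBS hb)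
    -- an involution in `⟨b⟩`
    obtain ⟨z, hz, hz2⟩ : ∃ z ∈ zpowers b, orderOf z = 2 := by
      have hdvd : 2 ∣ Nat.card (zpowers b) := by
        obtain ⟨n, hn⟩ := IsPGroup.iff_card.mp hbp
        rw [hn]
        apply dvd_pow_self
        rintro rfl
        rw [pow_zero, card_eq_one, zpowers_eq_bot] at hn
        exact hb1 hn
      obtain ⟨z, hz⟩ := exists_prime_orderOf_dvd_card' 2 hdvd
      exact ⟨z, z.2, by rw [orderOf_coe]; exact hz⟩
    have hz1 : z ≠ 1 := by rintro rfl; simp at hz2
    have hzS : z ∈ S := (zpowers_le.mpr (hBS hb)) hz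
    exact (hpow b z hbp hz hz1).trans (key z hzS (by rw [← hz2, pow_orderOf_eq_one]) hz1).1

/-- the elements of order dividing 2 of an abelian subgroup -/
theorem exists_omega {A S : Subgroup G} (hA : ∀ a ∈ A, ∀ b ∈ A, a * b = b * a)
    (hSA : S ≤ normalizer (A : Set G)) (hA3 : ¬ PRankLE 2 2 ↥A) :
    ∃ E : Subgroup G, IsElementaryAbelian 2 E ∧ E ≤ A ∧ 2 ^ 3 ≤ Nat.card E ∧
      S ≤ normalizer (E : Set G) := by
  let E : Subgroup G :=
    { carrier := {x | x ∈ A ∧ x ^ 2 = 1}
      one_mem' := ⟨A.one_mem, one_pow 2⟩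
      mul_mem' := by
        rintro x y ⟨hx, hx2⟩ ⟨hy, hy2⟩
        refine ⟨A.mul_mem hx hy, ?_⟩
        rw [(show Commute x y from hA x hx y hy).mul_pow, hx2, hy2, one_mul]
      inv_mem' := by
        rintro x ⟨hx, hx2⟩
        exact ⟨A.inv_mem hx, by rw [inv_pow, hx2, inv_one]⟩ }
  have hEE : IsElementaryAbelian 2 E :=
    H27.ElAb.of_comm (fun a ha b hb => hA a ha.1 b hb.1) (fun a ha => ha.2)
  refine ⟨E, hEE, fun x hx => hx.1, ?_, ?_⟩
  · obtain ⟨F, hF, hFA, hFc⟩ := H27.EquivSig.exists_of_not_pRankLE hA3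
    have h1 : F ≤ E := fun x hx => ⟨hFA hx, hF.2 x hx⟩
    exact (H27.EquivSig.pow_le_card hF hFc).trans (card_le_of_le h1)
  · apply H1.Coprime.le_normalizer_of_conj_mem
    rintro g hg x ⟨hx, hx2⟩
    refine ⟨(mem_normalizer_iff.mp (hSA hg) x).mp hx, ?_⟩
    rw [conj_pow, hx2, mul_one, mul_inv_cancel]

end H55.CoreGen
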