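import Cfsg.Agent.Lib.H55.FFTv
import Cfsg.Agent.Lib.H2.GenCent

set_option autoImplicit false
set_option linter.unusedSimpArgs false

/-! Generation of an odd order group by centralizers of hyperplanes of an elementary abelian 2-group. -/

namespace H55.FF

open Subgroup

variable {Γ : Type*} [Group Γ]

/-- `A₀` has index two in `A` -/
def Half (A₀ A : Subgroup Γ) : Prop :=
  A₀ ≤ A ∧ A₀ ≠ A ∧ ∀ x ∈ A, ∀ y ∈ A, x ∉ A₀ → y ∉ A₀ → x * y ∈ A₀

theorem comm' {A : Subgroup Γ} (hA : ∀ a ∈ A, a * a = 1) {x y : Γ} (hx : x ∈ A) (hy : y ∈ A) : x * y = y * x := by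
  have := comm (V := A) (fun v => Subtype.ext (hA v.1 v.2)) ⟨x, hx⟩ ⟨y, hy⟩
  exact congrArg Subtype.val this

theorem Half.card [Finite Γ] {A₀ A : Subgroup Γ} (h : Half A₀ A) (hA : ∀ a ∈ A, a * a = 1) :
    Nat.card A = 2 * Nat.card A₀ := by
  obtain ⟨hle, hne, hxy⟩ := h
  have hex : ∃ a ∈ A, a ∉ A₀ := by
    by_contra hcon
    push Not at hcon
    exact hne (le_antisymm hle hcon)
  obtain ⟨a, haA, ha0⟩ := hex
  have h1 : (A₀.subgroupOf A).index = 2 := by
    rw [Subgroup.index_eq_two_iff]
    refine ⟨⟨a, haA⟩, fun b => ?_⟩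
    by_cases hb : b ∈ A₀.subgroupOf A
    · right
      refine ⟨hb, fun hc => ?_⟩
      rw [mem_subgroupOf] at hb hc
      have : (b : Γ)⁻¹ * ((b * ⟨a, haA⟩ : A) : Γ) ∈ A₀ := A₀.mul_mem (A₀.inv_mem hb) hc
      simp at this
      exact ha0 this
    · left
      refine ⟨?_, hb⟩
      rw [mem_subgroupOf] at hb ⊢
      exact hxy _ b.2 _ haA hb ha0
  have h2 := (A₀.subgroupOf A).card_mul_index
  rw [h1] at h2
  have h3 : Nat.card (A₀.subgroupOf A) = Nat.card A₀ := Nat.card_congr (Subgroup.subgroupOfEquivOfLe hle).toEquiv
  rw [← h2, h3, mul_comm]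

theorem hypgen [Finite Γ] (n : ℕ) : ∀ (A K M : Subgroup Γ), Nat.card A ≤ n → (∀ a ∈ A, a * a = 1) → A ≠ ⊥ →
    A ≤ normalizer (K : Set Γ) → Odd (Nat.card K) →
    (∀ A₀, Half A₀ A → K ⊓ centralizer (A₀ : Set Γ) ≤ M) → K ≤ M := by
  induction n with
  | zero =>
    intro A K M hc
    have : 0 < Nat.card A := Nat.card_pos
    omega
  | succ n ih =>
    intro A K M hc hA hbot hAK hodd hM
    have hcomm : IsMulCommutative A := ⟨⟨fun x y => Subtype.ext (comm' hA x.2 y.2)⟩⟩
    -- index two subgroups avoiding `a`
    have hmax : ∀ a ∈ A, a ≠ 1 → ∃ A', Half A' A ∧ a ∉ A' := by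
      intro a ha ha1
      obtain ⟨A', ⟨hA'A, haA'⟩, hmx⟩ := (Set.toFinite {B : Subgroup Γ | B ≤ A ∧ a ∉ B}).exists_maximal ⟨⊥, bot_le, by simpa using ha1⟩
      refine ⟨A', ⟨hA'A, fun h => haA' (h ▸ ha), ?_⟩, haA'⟩
      have key : ∀ x ∈ A, x ∉ A' → a * x ∈ A' := by
        intro x hx hxA'
        -- the subgroup A' ∪ xA'
        let B : Subgroup Γ :=
          { carrier := {y | y ∈ A ∧ (y ∈ A' ∨ x * y ∈ A')}
            one_mem' := ⟨A.one_mem, Or.inl A'.one_mem⟩
            mul_mem' := by
              rintro y z ⟨hy, hy'⟩ ⟨hz, hz'⟩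
              refine ⟨A.mul_mem hy hz, ?_⟩
              rcases hy' with h1 | h1 <;> rcases hz' with h2 | h2
              · exact Or.inl (A'.mul_mem h1 h2)
              · right
                have : x * (y * z) = y * (x * z) := by
                  rw [← mul_assoc, comm' hA hx hy, mul_assoc]
                rw [this]; exact A'.mul_mem h1 h2
              · right
                rw [← mul_assoc]; exact A'.mul_mem h1 h2
              · left
                have : y * z = (x * y) * (x * z) := by
                  rw [comm' hA hx hy, mul_assoc, ← mul_assoc x x z, hA x hx, one_mul]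
                rw [this]; exact A'.mul_mem h1 h2
            inv_mem' := by
              rintro y ⟨hy, hy'⟩
              have hyi : y⁻¹ = y := inv_eq_of_mul_eq_one_left (hA y hy)
              rw [hyi]
              exact ⟨hy, hy'⟩ }
        have hBA : B ≤ A := fun y hy => hy.1
        have hA'B : A' ≤ B := fun y hy => ⟨hA'A hy, Or.inl hy⟩
        have hxB : x ∈ B := ⟨hx, Or.inr (by rw [hA x hx]; exact A'.one_mem)⟩
        by_contra hcon
        have haB : a ∉ B := by
          rintro ⟨-, h1 | h1⟩
          · exact haA' h1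
          · rw [comm' hA hx ha] at h1; exact hcon h1
        exact hxA' (hmx ⟨hBA, haB⟩ hA'B hxB)
      intro x hx y hy hx' hy'
      have : x * y = (a * x) * (a * y) := by
        rw [comm' hA ha hx, mul_assoc, ← mul_assoc a a y, hA a ha, one_mul]
      rw [this]
      exact A'.mul_mem (key x hx hx') (key y hy hy')
    by_cases hcyc : IsCyclic A
    · -- then ⊥ is a half
      have hH : Half ⊥ A := by
        refine ⟨bot_le, fun h => hbot h.symm, ?_⟩
        intro x hx y hy hx1 hy1
        rw [mem_bot] at *
        obtain ⟨g, hg⟩ := hcyc.exists_generator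
        have hg2 : g ^ 2 = 1 := by rw [pow_two]; exact Subtype.ext (hA g.1 g.2)
        have aux : ∀ z ∈ A, z ≠ 1 → z = g.1 := by
          intro z hz hz1
          obtain ⟨k, hk⟩ := Subgroup.mem_zpowers_iff.1 (hg ⟨z, hz⟩)
          have hk' : g ^ (k : ℤ) = g ^ (k % 2) := by
            conv_lhs => rw [← Int.emod_add_mul_ediv k 2, zpow_add, zpow_mul]
            rw [show g ^ (2 : ℤ) = 1 from by exact_mod_cast hg2, one_zpow, mul_one]
          rw [hk'] at hk
          rcases Int.emod_two_eq_zero_or_one k with h0 | h0
          · rw [h0, zpow_zero] at hk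
            exact absurd (congrArg Subtype.val hk).symm hz1
          · rw [h0, zpow_one] at hk
            exact (congrArg Subtype.val hk).symm
        rw [aux x hx hx1, aux y hy hy1]
        exact hA g.1 g.2
      have := hM ⊥ hH
      intro k hk
      apply this
      refine mem_inf.2 ⟨hk, mem_centralizer_iff.2 ?_⟩
      intro y hy
      rw [SetLike.mem_coe, mem_bot] at hy
      rw [hy]; group
    · have hcop : (Nat.card A).Coprime (Nat.card K) := by
        have hp : IsPGroup 2 A := by
          intro a
          exact ⟨1, by rw [pow_one, pow_two]; exact Subtype.ext (hA a.1 a.2)⟩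
        obtain ⟨k, hk⟩ := IsPGroup.iff_card.1 hp
        rw [hk]
        exact Nat.Coprime.pow_left k (Nat.coprime_two_left.2 hodd)
      rw [← H2.GenCent.main A K hcomm hcyc hAK hcop]
      apply iSup₂_le
      rintro a ⟨ha, ha1⟩
      obtain ⟨A', hA', haA'⟩ := hmax a ha ha1
      have hA'bot : A' ≠ ⊥ := by
        rintro rfl
        apply hcyc
        have hc2 := hA'.card hA
        rw [Subgroup.card_bot, mul_one] at hc2
        haveI : Fact (Nat.Prime 2) := ⟨Nat.prime_two⟩
        exact isCyclic_of_prime_card hc2
      have hA'2 : ∀ b ∈ A', b * b = 1 := fun b hb => hA b (hA'.1 hb)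
      have hcard : Nat.card A' ≤ n := by
        have := hA'.card hA
        have h0 : 0 < Nat.card A' := Nat.card_pos
        omega
      have hcentA : ∀ b ∈ A, b * a = a * b := fun b hb => comm' hA hb ha
      refine ih A' (K ⊓ centralizer {a}) M hcard hA'2 hA'bot ?_ ?_ ?_
      · intro b hb
        have hbK := hAK (hA'.1 hb)
        have hba := hcentA b (hA'.1 hb)
        rw [mem_normalizer_iff] at hbK ⊢
        intro x
        rw [mem_inf, mem_inf, hbK x, mem_centralizer_singleton_iff, mem_centralizer_singleton_iff]
        refine and_congr_right fun _ => ?_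
        constructor
        · intro h
          calc b * x * b⁻¹ * a = b * x * (b⁻¹ * a) := by group
            _ = b * x * (a * b⁻¹) := by
                congr 1
                rw [inv_mul_eq_iff_eq_mul, ← mul_assoc, hba]; group
            _ = b * (x * a) * b⁻¹ := by group
            _ = b * (a * x) * b⁻¹ := by rw [h]
            _ = (b * a) * x * b⁻¹ := by group
            _ = a * (b * x * b⁻¹) := by rw [hba]; group
        · intro h
          have e : x = b⁻¹ * (b * x * b⁻¹) * b := by group
          rw [e]
          calc b⁻¹ * (b * x * b⁻¹) * b * a = b⁻¹ * (b * x * b⁻¹) * (b * a) := by group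
            _ = b⁻¹ * ((b * x * b⁻¹) * a) * b := by rw [hba]; group
            _ = b⁻¹ * (a * (b * x * b⁻¹)) * b := by rw [h]
            _ = (b⁻¹ * a) * (b * x * b⁻¹) * b := by group
            _ = (a * b⁻¹) * (b * x * b⁻¹) * b := by
                congr 2
                rw [inv_mul_eq_iff_eq_mul, ← mul_assoc, hba]; group
            _ = a * (b⁻¹ * (b * x * b⁻¹) * b) := by group
      · exact Odd.of_dvd_nat hodd (Subgroup.card_dvd_of_le inf_le_left)
      · intro A₀ hA₀
        -- the preimage
        let A₁ : Subgroup Γ :=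
          { carrier := {y | y ∈ A ∧ (y ∈ A₀ ∨ a * y ∈ A₀)}
            one_mem' := ⟨A.one_mem, Or.inl A₀.one_mem⟩
            mul_mem' := by
              rintro y z ⟨hy, hy'⟩ ⟨hz, hz'⟩
              refine ⟨A.mul_mem hy hz, ?_⟩
              rcases hy' with h1 | h1 <;> rcases hz' with h2 | h2
              · exact Or.inl (A₀.mul_mem h1 h2)
              · right
                have : a * (y * z) = y * (a * z) := by
                  rw [← mul_assoc, comm' hA ha hy, mul_assoc]
                rw [this]; exact A₀.mul_mem h1 h2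
              · right
                rw [← mul_assoc]; exact A₀.mul_mem h1 h2
              · left
                have : y * z = (a * y) * (a * z) := by
                  rw [comm' hA ha hy, mul_assoc, ← mul_assoc a a z, hA a ha, one_mul]
                rw [this]; exact A₀.mul_mem h1 h2
            inv_mem' := by
              rintro y ⟨hy, hy'⟩
              have hyi : y⁻¹ = y := inv_eq_of_mul_eq_one_left (hA y hy)
              rw [hyi]
              exact ⟨hy, hy'⟩ }
        have hmem : ∀ y, y ∈ A₁ ↔ (y ∈ A ∧ (y ∈ A₀ ∨ a * y ∈ A₀)) := fun y => Iff.rfl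
        have hor : ∀ x ∈ A, x ∈ A' ∨ a * x ∈ A' := by
          intro x hx
          by_cases hx' : x ∈ A'
          · exact Or.inl hx'
          · exact Or.inr (hA'.2.2 a ha x hx haA' hx')
        have hHalf : Half A₁ A := by
          refine ⟨fun y hy => hy.1, ?_, ?_⟩
          · intro h
            have hex : ∃ b ∈ A', b ∉ A₀ := by
              by_contra hcon
              push Not at hcon
              exact hA₀.2.1 (le_antisymm hA₀.1 hcon)
            obtain ⟨b, hb, hb0⟩ := hex
            have hbA₁ : b ∈ A₁ := h ▸ hA'.1 hb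
            rcases hbA₁.2 with h1 | h1
            · exact hb0 h1
            · apply haA'
              have := A'.mul_mem (hA₀.1 h1) (A'.inv_mem hb)
              simpa [mul_assoc] using this
          · intro x hx y hy hxn hyn
            rw [hmem] at hxn hyn
            push Not at hxn hyn
            obtain ⟨hx1, hx2⟩ := hxn hx
            obtain ⟨hy1, hy2⟩ := hyn hy
            refine ⟨A.mul_mem hx hy, ?_⟩
            rcases hor x hx with h1 | h1 <;> rcases hor y hy with h2 | h2
            · exact Or.inl (hA₀.2.2 x h1 y h2 hx1 hy1)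
            · right
              have : a * (x * y) = x * (a * y) := by
                rw [← mul_assoc, comm' hA ha hx, mul_assoc]
              rw [this]; exact hA₀.2.2 x h1 _ h2 hx1 hy2
            · right
              rw [← mul_assoc]; exact hA₀.2.2 _ h1 y h2 hx2 hy1
            · left
              have : x * y = (a * x) * (a * y) := by
                rw [comm' hA ha hx, mul_assoc, ← mul_assoc a a y, hA a ha, one_mul]
              rw [this]; exact hA₀.2.2 _ h1 _ h2 hx2 hy2
        refine le_trans ?_ (hM A₁ hHalf)
        rintro x ⟨⟨hxK, hxa⟩, hx0⟩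
        refine mem_inf.2 ⟨hxK, ?_⟩
        have hxa' : x * a = a * x := mem_centralizer_singleton_iff.1 hxa
        have hx0 := mem_centralizer_iff.1 hx0
        rw [mem_centralizer_iff]
        rintro y ⟨hyA, hy | hy⟩
        · exact hx0 y hy
        · have h1 := hx0 _ hy
          -- (a*y)*x = x*(a*y)
          have h2 : y = a * (a * y) := by rw [← mul_assoc, hA a ha, one_mul]
          calc y * x = a * ((a * y) * x) := by rw [← mul_assoc, ← mul_assoc, hA a ha, one_mul]
            _ = a * (x * (a * y)) := by rw [h1]
            _ = (a * x) * (a * y) := by group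
            _ = x * (a * (a * y)) := by rw [← hxa']; group
            _ = x * y := by rw [← h2]

end H55.FF
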