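import Cfsg.Agent.Lib.H55.FFStr
import Cfsg.Agent.Lib.H55.FFGen

set_option autoImplicit false
set_option linter.unusedSimpArgs false

/-! Offenders are generated by transvections. -/

namespace H55.FF

open Subgroup

variable {V : Type*} [Group V]

/-- fixed points -/
def fx (A : Subgroup (MulAut V)) : Subgroup V where
  carrier := {v | ∀ a ∈ A, a v = v}
  one_mem' := fun a _ => map_one a
  mul_mem' := fun {x y} hx hy a ha => by rw [map_mul, hx a ha, hy a ha]
  inv_mem' := fun {x} hx a ha => by rw [map_inv, hx a ha]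

theorem mem_fx {A : Subgroup (MulAut V)} {v : V} : v ∈ fx A ↔ ∀ a ∈ A, a v = v := Iff.rfl

theorem fixed_nontrivial [Finite V] (hV : ∀ v : V, v * v = 1) (A : Subgroup (MulAut V)) (hA : IsPGroup 2 A)
    (U : Subgroup V) (hU : ∃ u ∈ U, u ≠ 1) (hinv : ∀ a ∈ A, ∀ u ∈ U, a u ∈ U) :
    ∃ u ∈ U, u ≠ 1 ∧ ∀ a ∈ A, a u = u := by
  classical
  haveI : Fact (Nat.Prime 2) := ⟨Nat.prime_two⟩
  let act : MulAction A U :=
    { smul := fun a u => ⟨(a : MulAut V) u.1, hinv a.1 a.2 u.1 u.2⟩
      one_smul := fun u => Subtype.ext rfl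
      mul_smul := fun a b u => Subtype.ext rfl }
  have h1 := @IsPGroup.card_modEq_card_fixedPoints 2 A _ hA _ U act _
  have hUp : IsPGroup 2 U := by
    intro u
    exact ⟨1, by rw [pow_one, pow_two]; exact Subtype.ext (hV u.1)⟩
  obtain ⟨k, hk⟩ := IsPGroup.iff_card.1 hUp
  have hk0 : k ≠ 0 := by
    rintro rfl
    rw [pow_zero] at hk
    obtain ⟨u, hu, hu1⟩ := hU
    have := (Nat.card_eq_one_iff_unique.1 hk).1
    exact hu1 (congrArg Subtype.val (Subsingleton.elim (⟨u, hu⟩ : U) 1))
  have h2 : 2 ∣ Nat.card U := by rw [hk]; exact dvd_pow_self 2 hk0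
  have h3 : 2 ∣ Nat.card (@MulAction.fixedPoints A U _ act) := by
    exact (Nat.modEq_zero_iff_dvd.1 (h1.symm.trans (Nat.modEq_zero_iff_dvd.2 h2)))
  have hmem : (1 : U) ∈ (@MulAction.fixedPoints A U _ act) := by
    intro a
    exact Subtype.ext (map_one (a : MulAut V))
  have h4 : 1 < Nat.card (@MulAction.fixedPoints A U _ act) := by
    have : 0 < Nat.card (@MulAction.fixedPoints A U _ act) :=
      Nat.card_pos_iff.2 ⟨⟨⟨1, hmem⟩⟩, inferInstance⟩
    obtain ⟨m, hm⟩ := h3
    omega
  have h5 : Nontrivial (@MulAction.fixedPoints A U _ act) := Finite.one_lt_card_iff_nontrivial.1 h4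
  obtain ⟨⟨u, hu⟩, hne⟩ := @exists_ne _ h5 ⟨1, hmem⟩
  refine ⟨u.1, u.2, fun h => hne (Subtype.ext (Subtype.ext h)), fun a ha => ?_⟩
  exact congrArg Subtype.val (hu ⟨a, ha⟩)

theorem odd_trivial [Finite V] (hV : ∀ v : V, v * v = 1) (A : Subgroup (MulAut V)) (hA : IsPGroup 2 A)
    (q : MulAut V) (hq : Odd (orderOf q)) (hcomm : ∀ a ∈ A, a * q = q * a)
    (hfix : ∀ v ∈ fx A, q v = v) : q = 1 := by
  letI : CommGroup V := { ‹Group V› with mul_comm := comm hV }
  set m := orderOf q with hm
  let N : V → V := fun v => ∏ i ∈ Finset.range m, (q ^ i) v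
  have hNmul : ∀ v w, N (v * w) = N v * N w := by
    intro v w
    simp only [N, map_mul, Finset.prod_mul_distrib]
  have hN1 : N 1 = 1 := by simp only [N, map_one, Finset.prod_const_one]
  have hNfix : ∀ v, q v = v → N v = v := by
    intro v hv
    have h1 : ∀ i : ℕ, (q ^ i) v = v := by
      intro i
      induction i with
      | zero => rfl
      | succ i ih => rw [pow_succ, MulAut.mul_apply, hv, ih]
    simp only [N, h1, Finset.prod_const, Finset.card_range]
    obtain ⟨k, hk⟩ := hq
    rw [hk, pow_succ, pow_mul, pow_two, hV, one_pow, one_mul]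
  have hNq : ∀ v, N (q v) = N v := by
    intro v
    have h1 : ∀ i : ℕ, (q ^ i) (q v) = (q ^ (i + 1)) v := fun i => by rw [pow_succ, MulAut.mul_apply]
    simp only [N, h1]
    have h2 := Finset.prod_range_succ' (fun i => (q ^ i) v) m
    have h3 := Finset.prod_range_succ (fun i => (q ^ i) v) m
    rw [h3] at h2
    have h4 : (q ^ m) v = (q ^ 0) v := by rw [hm, pow_orderOf_eq_one, pow_zero]
    rw [h4] at h2
    exact (mul_right_cancel h2).symm
  have hNa : ∀ a ∈ A, ∀ v, N (a v) = a (N v) := by
    intro a ha v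
    simp only [N, map_prod]
    apply Finset.prod_congr rfl
    intro i _
    have : (q ^ i) * a = a * q ^ i := by
      have h0 : Commute a q := hcomm a ha
      exact (h0.pow_right i).symm
    rw [← MulAut.mul_apply, this, MulAut.mul_apply]
  let U : Subgroup V :=
    { carrier := {v | N v = 1}
      one_mem' := hN1
      mul_mem' := fun {v w} hv hw => by
        simp only [Set.mem_setOf_eq] at *
        rw [hNmul, hv, hw, mul_one]
      inv_mem' := fun {v} hv => by
        simp only [Set.mem_setOf_eq] at *
        have : v⁻¹ = v := inv_eq_of_mul_eq_one_left (hV v)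
        rw [this]; exact hv }
  by_contra hq1
  have hex : ∃ v, q v ≠ v := by
    by_contra hcon
    push Not at hcon
    exact hq1 (by ext v; exact hcon v)
  obtain ⟨v, hv⟩ := hex
  have hU : ∃ u ∈ U, u ≠ 1 := by
    refine ⟨v * q v, ?_, ?_⟩
    · change N (v * q v) = 1
      rw [hNmul, hNq, hV]
    · intro h1
      apply hv
      have : q v = v⁻¹ := eq_inv_of_mul_eq_one_right h1
      rw [this]; exact inv_eq_of_mul_eq_one_left (hV v)
  obtain ⟨u, huU, hu1, hufix⟩ := fixed_nontrivial hV A hA U hU (by
    intro a ha u hu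
    change N (a u) = 1
    rw [hNa a ha]
    have : N u = 1 := hu
    rw [this, map_one])
  have h1 : q u = u := hfix u hufix
  have h2 := hNfix u h1
  have h3 : N u = 1 := huU
  rw [h3] at h2
  exact hu1 h2.symm

theorem isPGroup_of_sq {Γ : Type*} [Group Γ] {A : Subgroup Γ} (hA : ∀ a ∈ A, a * a = 1) : IsPGroup 2 A := by
  intro a
  exact ⟨1, by rw [pow_one, pow_two]; exact Subtype.ext (hA a.1 a.2)⟩

variable (hV : ∀ v : V, v * v = 1) {X F : Subgroup (MulAut V)} (h : FX X F)

include hV h

theorem FX.moves [Finite V] {A₀ : Subgroup (MulAut V)} (hA₀ : ∀ a ∈ A₀, a * a = 1) {a : MulAut V} (ha : a ∈ X)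
    (haA : ∀ b ∈ A₀, b * a = a * b) {x : MulAut V} (hx : x ∈ F) (hxA : ∀ b ∈ A₀, b * x = x * b)
    (hxa : a * x ≠ x * a) : ∃ v ∈ fx A₀, a v ≠ v := by
  by_contra hcon
  push Not at hcon
  apply hxa
  have hainv : ∀ v ∈ fx A₀, a⁻¹ v = v := by
    intro v hv
    have h1 := hcon v hv
    conv_lhs => rw [← h1]
    exact MulAut.inv_apply_self _ a v
  have hxinv : ∀ v ∈ fx A₀, x⁻¹ v ∈ fx A₀ := by
    intro v hv b hb
    have : b * x⁻¹ = x⁻¹ * b := by
      have h0 : Commute b x := hxA b hb
      exact h0.inv_right
    rw [← MulAut.mul_apply, this, MulAut.mul_apply, hv b hb]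
  have hq : x * a * x⁻¹ * a⁻¹ = 1 := by
    apply odd_trivial hV A₀ (isPGroup_of_sq hA₀)
    · have hmem : x * a * x⁻¹ * a⁻¹ ∈ F := by
        have : x * a * x⁻¹ * a⁻¹ = x * (a * x⁻¹ * a⁻¹) := by group
        rw [this]
        exact F.mul_mem hx (h.nor a ha _ (F.inv_mem hx))
      have := orderOf_dvd_natCard (⟨_, hmem⟩ : F)
      rw [Subgroup.orderOf_mk] at this
      exact Odd.of_dvd_nat h.odd this
    · intro b hb
      have c1 : Commute b x := hxA b hb
      have c2 : Commute b a := haA b hb
      exact ((c1.mul_right c2).mul_right c1.inv_right).mul_right c2.inv_right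
    · intro v hv
      simp only [MulAut.mul_apply]
      rw [hainv v hv, hcon _ (hxinv v hv)]
      exact MulAut.apply_inv_self _ x v
  rw [mul_inv_eq_one, mul_inv_eq_iff_eq_mul] at hq
  exact hq.symm

theorem FX.offender [Finite V] (n : ℕ) : ∀ A : Subgroup (MulAut V), Nat.card A ≤ n → A ≤ X → (∀ a ∈ A, a * a = 1) →
    Nat.card V ≤ Nat.card A * Nat.card (fx A) →
    Nat.card V = Nat.card A * Nat.card (fx A) ∧ A ≤ closure {t | t ∈ A ∧ ∃ c, Tv t c} := by
  induction n with
  | zero =>
    intro A hc
    have : 0 < Nat.card A := Nat.card_pos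
    omega
  | succ n ih =>
    intro A hc hAX hA hoff
    by_cases hbot : A = ⊥
    · subst hbot
      refine ⟨?_, bot_le⟩
      have : fx (⊥ : Subgroup (MulAut V)) = ⊤ := by
        rw [eq_top_iff]
        intro v _ a ha
        rw [mem_bot] at ha
        rw [ha]; rfl
      rw [this, Subgroup.card_bot, one_mul, Subgroup.card_top]
    -- good hyperplanes
    have hAF : A ≤ normalizer (F : Set (MulAut V)) := by
      intro a ha
      rw [mem_normalizer_iff]
      intro f
      constructor
      · exact h.nor a (hAX ha) f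
      · intro hf
        have := h.nor a⁻¹ (X.inv_mem (hAX ha)) _ hf
        simpa [mul_assoc] using this
    have step : ∀ A₀, Half A₀ A → (¬ F ⊓ centralizer (A₀ : Set (MulAut V)) ≤ centralizer (A : Set (MulAut V))) →
        (Nat.card V ≤ Nat.card A₀ * Nat.card (fx A₀) ∧ 2 * Nat.card (fx A) ≤ Nat.card (fx A₀)) := by
      intro A₀ hA₀ hnc
      obtain ⟨x, hx, hxn⟩ := SetLike.not_le_iff_exists.1 hnc
      obtain ⟨hxF, hx0⟩ := mem_inf.1 hx
      rw [mem_centralizer_iff] at hxn hx0
      push Not at hxn
      obtain ⟨a, haA, hax⟩ := hxn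
      obtain ⟨v, hv, hav⟩ := h.moves hV (fun b hb => hA b (hA₀.1 hb)) (hAX haA)
        (fun b hb => comm' hA (hA₀.1 hb) haA) hxF (fun b hb => hx0 b hb) hax
      have hlt : fx A < fx A₀ := by
        refine lt_of_le_of_ne (fun w hw b hb => hw b (hA₀.1 hb)) ?_
        intro heq
        rw [← heq] at hv
        exact hav (hv a haA)
      have h2 : 2 * Nat.card (fx A) ≤ Nat.card (fx A₀) := by
        obtain ⟨m, hm⟩ := Subgroup.card_dvd_of_le hlt.le
        have hm2 : 2 ≤ m := by
          by_contra hcon
          have : m = 0 ∨ m = 1 := by omega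
          rcases this with rfl | rfl
          · have : 0 < Nat.card (fx A₀) := Nat.card_pos
            omega
          · rw [mul_one] at hm
            exact hlt.ne (Subgroup.eq_of_le_of_card_ge hlt.le hm.le)
        rw [hm]; nlinarith
      refine ⟨?_, h2⟩
      have h3 := hA₀.card hA
      rw [h3] at hoff
      calc Nat.card V ≤ 2 * Nat.card A₀ * Nat.card (fx A) := hoff
        _ = Nat.card A₀ * (2 * Nat.card (fx A)) := by ring
        _ ≤ _ := Nat.mul_le_mul_left _ h2
    -- F is not centralized by A
    have hAnF : ∀ B : Subgroup (MulAut V), B ≤ A → F ≤ centralizer (B : Set (MulAut V)) → B = ⊥ := by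
      intro B hB hFB
      rw [eq_bot_iff]
      intro b hb
      have hbF : b ∈ F := h.cen b (hAX (hB hb)) (fun f hf => (mem_centralizer_iff.1 (hFB hf)) b hb)
      rw [mem_bot]
      exact h.eq_one hbF (n := 1) (by rw [pow_one, pow_two]; exact hA b (hB hb))
    have hex1 : ∃ A₁, Half A₁ A ∧ ¬ F ⊓ centralizer (A₁ : Set (MulAut V)) ≤ centralizer (A : Set (MulAut V)) := by
      by_contra hcon
      push Not at hcon
      have := hypgen (Nat.card A) A F (centralizer (A : Set (MulAut V))) le_rfl hA hbot hAF h.odd hcon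
      exact hbot (hAnF A le_rfl this)
    obtain ⟨A₁, hA₁, hn1⟩ := hex1
    obtain ⟨o1, l1⟩ := step A₁ hA₁ hn1
    have hcA₁ := hA₁.card hA
    have hposA₁ : 0 < Nat.card A₁ := Nat.card_pos
    obtain ⟨i1, i2⟩ := ih A₁ (by omega) (hA₁.1.trans hAX) (fun a ha => hA a (hA₁.1 ha)) o1
    have hcard : Nat.card V = Nat.card A * Nat.card (fx A) := by
      apply le_antisymm hoff
      rw [i1, hcA₁]
      calc 2 * Nat.card A₁ * Nat.card (fx A) = Nat.card A₁ * (2 * Nat.card (fx A)) := by ring
        _ ≤ _ := Nat.mul_le_mul_left _ l1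
    refine ⟨hcard, ?_⟩
    by_cases hA₁bot : A₁ = ⊥
    · -- A of order two
      subst hA₁bot
      rw [Subgroup.card_bot, mul_one] at hcA₁
      rw [hcA₁] at hcard
      intro a ha
      by_cases ha1 : a = 1
      · rw [ha1]; exact one_mem _
      apply Subgroup.subset_closure
      refine ⟨ha, ?_⟩
      -- a is a transvection
      letI : CommGroup V := { ‹Group V› with mul_comm := comm hV }
      let φ : V →* V :=
        { toFun := fun v => v * a v
          map_one' := by simp
          map_mul' := fun v w => by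
            simp only [map_mul]
            exact mul_mul_mul_comm v w (a v) (a w) }
      have hker : φ.ker = fx A := by
        ext v
        rw [MonoidHom.mem_ker, mem_fx]
        have hva : φ v = v * a v := rfl
        rw [hva]
        constructor
        · intro h1 b hb
          have hb' : b = 1 ∨ b = a := by
            by_contra hcon
            push Not at hcon
            have := hA₁.2.2 b hb a ha (by rw [mem_bot]; exact hcon.1) (by rw [mem_bot]; exact ha1)
            rw [mem_bot] at this
            apply hcon.2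
            rw [eq_inv_of_mul_eq_one_left this]
            exact inv_eq_of_mul_eq_one_left (hA a ha)
          rcases hb' with rfl | rfl
          · rfl
          · rw [eq_inv_of_mul_eq_one_right h1]
            exact inv_eq_of_mul_eq_one_left (hV v)
        · intro h1
          rw [h1 a ha, hV]
      have hcr : Nat.card φ.range = 2 := by
        have e1 := Subgroup.card_mul_index φ.ker
        rw [Subgroup.index_ker, hker] at e1
        rw [hcard, mul_comm] at e1
        exact Nat.eq_of_mul_eq_mul_right Nat.card_pos e1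
      obtain ⟨v, hv⟩ : ∃ v, a v ≠ v := by
        by_contra hcon
        push Not at hcon
        exact ha1 (by ext v; exact hcon v)
      refine ⟨v * a v, ?_, ?_, ha1⟩
      · intro h1
        apply hv
        rw [eq_inv_of_mul_eq_one_right h1]
        exact inv_eq_of_mul_eq_one_left (hV v)
      · intro w
        -- range has two elements
        have hc1 : v * a v ≠ 1 := by
          intro h1
          apply hv
          rw [eq_inv_of_mul_eq_one_right h1]
          exact inv_eq_of_mul_eq_one_left (hV v)
        by_cases hw : w * a w = 1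
        · left
          rw [eq_inv_of_mul_eq_one_right hw]
          exact inv_eq_of_mul_eq_one_left (hV w)
        · right
          have h2 : w * a w = v * a v := by
            obtain ⟨x, y, hxy, huniv⟩ := Nat.card_eq_two_iff.1 hcr
            have m1 : (1 : φ.range) ∈ ({x, y} : Set φ.range) := huniv ▸ Set.mem_univ _
            have m2 : (⟨v * a v, v, rfl⟩ : φ.range) ∈ ({x, y} : Set φ.range) := huniv ▸ Set.mem_univ _
            have m3 : (⟨w * a w, w, rfl⟩ : φ.range) ∈ ({x, y} : Set φ.range) := huniv ▸ Set.mem_univ _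
            simp only [Set.mem_insert_iff, Set.mem_singleton_iff] at m1 m2 m3
            have n2 : (⟨v * a v, v, rfl⟩ : φ.range) ≠ 1 := fun h => hc1 (congrArg Subtype.val h)
            have n3 : (⟨w * a w, w, rfl⟩ : φ.range) ≠ 1 := fun h => hw (congrArg Subtype.val h)
            have : (⟨w * a w, w, rfl⟩ : φ.range) = ⟨v * a v, v, rfl⟩ := by
              rcases m1 with m1 | m1 <;> rcases m2 with m2 | m2 <;> rcases m3 with m3 | m3
              · exact m3.trans m2.symm
              · exact absurd (m2.trans m1.symm) n2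
              · exact absurd (m3.trans m1.symm) n3
              · exact m3.trans m2.symm
              · exact m3.trans m2.symm
              · exact absurd (m3.trans m1.symm) n3
              · exact absurd (m2.trans m1.symm) n2
              · exact m3.trans m2.symm
            exact congrArg Subtype.val this
          calc a w = w⁻¹ * (w * a w) := by group
            _ = w⁻¹ * (v * a v) := by rw [h2]
            _ = w * (v * a v) := by rw [inv_eq_of_mul_eq_one_left (hV w)]
    · -- second hyperplane
      have hex2 : ∃ A₂, Half A₂ A ∧ A₂ ≠ A₁ ∧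
          ¬ F ⊓ centralizer (A₂ : Set (MulAut V)) ≤ centralizer (A : Set (MulAut V)) := by
        by_contra hcon
        push Not at hcon
        have := hypgen (Nat.card A) A F (centralizer (A₁ : Set (MulAut V))) le_rfl hA hbot hAF h.odd (by
          intro A₀ hA₀
          by_cases he : A₀ = A₁
          · rw [he]; exact inf_le_right
          · exact (hcon A₀ hA₀ he).trans (Subgroup.centralizer_le hA₁.1))
        exact hA₁bot (hAnF A₁ hA₁.1 this)
      obtain ⟨A₂, hA₂, hne, hn2⟩ := hex2
      obtain ⟨o2, l2⟩ := step A₂ hA₂ hn2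
      have hcA₂ := hA₂.card hA
      obtain ⟨j1, j2⟩ := ih A₂ (by omega) (hA₂.1.trans hAX) (fun a ha => hA a (hA₂.1 ha)) o2
      have s1 : A₁ ≤ closure {t | t ∈ A ∧ ∃ c, Tv t c} :=
        i2.trans (closure_mono fun t ht => ⟨hA₁.1 ht.1, ht.2⟩)
      have s2 : A₂ ≤ closure {t | t ∈ A ∧ ∃ c, Tv t c} :=
        j2.trans (closure_mono fun t ht => ⟨hA₂.1 ht.1, ht.2⟩)
      -- an element of A₂ outside A₁
      have hex : ∃ b ∈ A₂, b ∉ A₁ := by
        by_contra hcon
        push Not at hcon
        apply hne
        exact Subgroup.eq_of_le_of_card_ge hcon (by omega)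
      obtain ⟨b, hb2, hb1⟩ := hex
      intro a ha
      by_cases ha1 : a ∈ A₁
      · exact s1 ha1
      · have h3 := hA₁.2.2 a ha b (hA₂.1 hb2) ha1 hb1
        have : a = (a * b) * b⁻¹ := by group
        rw [this]
        exact mul_mem (s1 h3) (inv_mem (s2 hb2))

end H55.FF
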