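import Cfsg.Agent.Lib.H55.FFTv

set_option autoImplicit false
set_option linter.unusedSimpArgs false

/-! Structure of the transvections in a solvable group `X` of automorphisms of an elementary abelian
2-group with `O_2(X) = 1`; `F` is (a substitute of) the Fitting subgroup. -/

namespace H55.FF

variable {V : Type*} [Group V]

structure FX (X F : Subgroup (MulAut V)) : Prop where
  le : F ≤ X
  nor : ∀ x ∈ X, ∀ f ∈ F, x * f * x⁻¹ ∈ F
  odd : Odd (Nat.card F)
  cen : ∀ x ∈ X, (∀ f ∈ F, x * f = f * x) → x ∈ F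

variable (hV : ∀ v : V, v * v = 1) {X F : Subgroup (MulAut V)} (h : FX X F)

include h

theorem FX.eq_one {x : MulAut V} (hx : x ∈ F) {n : ℕ} (hn : x ^ (2 ^ n) = 1) : x = 1 := by
  have h1 : orderOf x ∣ 2 ^ n := orderOf_dvd_of_pow_eq_one hn
  have h2 : orderOf x ∣ Nat.card F := by
    have := orderOf_dvd_natCard (⟨x, hx⟩ : F)
    rwa [Subgroup.orderOf_mk] at this
  have h3 : Nat.Coprime (2 ^ n) (Nat.card F) := Nat.Coprime.pow_left n (Nat.coprime_two_left.2 h.odd)
  have h4 := Nat.dvd_gcd h1 h2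
  rw [h3] at h4
  exact orderOf_eq_one_iff.1 (Nat.dvd_one.1 h4)

include hV

theorem FX.mem_prod {t : MulAut V} {c : V} (ht : Tv t c) (htX : t ∈ X) {f : MulAut V} (hf : f ∈ F) :
    t * (f * t * f⁻¹) ∈ F := by
  have : t * (f * t * f⁻¹) = (t * f * t⁻¹) * f⁻¹ := by
    rw [ht.inv hV]; group
  rw [this]
  exact F.mul_mem (h.nor t htX f hf) (F.inv_mem hf)

theorem FX.mem_prod' {t : MulAut V} {c : V} (ht : Tv t c) (htX : t ∈ X) {f : MulAut V} (hf : f ∈ F) :
    (f * t * f⁻¹) * t ∈ F := by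
  have : (f * t * f⁻¹) * t = f * (t * f⁻¹ * t⁻¹) := by
    rw [ht.inv hV]; group
  rw [this]
  exact F.mul_mem hf (h.nor t htX _ (F.inv_mem hf))

theorem FX.pair {t : MulAut V} {c : V} (ht : Tv t c) (htX : t ∈ X) {f : MulAut V} (hf : f ∈ F)
    (hne : f * t * f⁻¹ ≠ t) : t (f c) = f c * c ∧ (f * t * f⁻¹) c = c * f c := by
  have hs := ht.conj f
  have key : ¬ (t (f c) = f c ∨ (f * t * f⁻¹) c = c) := by
    intro hcon
    have h4 := pow_four hV ht hs hcon
    have h1 := h.eq_one (h.mem_prod hV ht htX hf) (n := 2) (by rw [← h4]; rfl)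
    apply hne
    have h2 : f * t * f⁻¹ = t⁻¹ := by
      rw [eq_comm, inv_eq_iff_mul_eq_one]; exact h1
    rw [h2, ht.inv hV]
  rw [not_or] at key
  exact ⟨not_fix_iff hV ht key.1, not_fix_iff hV hs key.2⟩

theorem FX.third {t : MulAut V} {c : V} (ht : Tv t c) (htX : t ∈ X) {f g : MulAut V} (hf : f ∈ F) (hg : g ∈ F)
    (h1 : f * t * f⁻¹ ≠ t) (h2 : g * t * g⁻¹ ≠ t) (h3 : g * t * g⁻¹ ≠ f * t * f⁻¹) :
    g * t * g⁻¹ = ((f * t * f⁻¹) * t) * t * ((f * t * f⁻¹) * t)⁻¹ := by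
  set k := (f * t * f⁻¹) * t with hk
  have hkF : k ∈ F := h.mem_prod' hV ht htX hf
  by_contra hne
  set u := g * t * g⁻¹ with hu
  have huX : u ∈ X := X.mul_mem (X.mul_mem (h.le hg) htX) (X.inv_mem (h.le hg))
  have hTu : Tv u (g c) := ht.conj g
  have e1 : (k * g⁻¹) * u * (k * g⁻¹)⁻¹ = k * t * k⁻¹ := by rw [hu]; group
  have p1 := (h.pair hV hTu huX (F.mul_mem hkF (F.inv_mem hg)) (by rw [e1]; exact fun h => hne h.symm)).1
  have e2 : (k * g⁻¹) (g c) = k c := by
    simp only [MulAut.mul_apply]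
    congr 1
    exact MulAut.inv_apply_self _ g c
  rw [e2] at p1
  have hkc : k c = c * f c := by
    rw [hk]
    simp only [MulAut.mul_apply]
    rw [ht.fix hV]
    exact (h.pair hV ht htX hf h1).2
  have p2 := (h.pair hV ht htX hg h2).2
  have hTs : Tv (f * t * f⁻¹) (f c) := ht.conj f
  have hsX : f * t * f⁻¹ ∈ X := X.mul_mem (X.mul_mem (h.le hf) htX) (X.inv_mem (h.le hf))
  have e3 : (g * f⁻¹) * (f * t * f⁻¹) * (g * f⁻¹)⁻¹ = u := by rw [hu]; group
  have p3 := (h.pair hV hTs hsX (F.mul_mem hg (F.inv_mem hf)) (by rw [e3]; exact h3)).2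
  have e4 : (g * f⁻¹) (f c) = g c := by
    simp only [MulAut.mul_apply]
    congr 1
    exact MulAut.inv_apply_self _ f c
  rw [e3, e4] at p3
  rw [hkc, map_mul, p2, p3] at p1
  have hcm := comm hV
  have : c * g c * (f c * g c) = c * f c := by
    rw [hcm (f c) (g c), mul_assoc, ← mul_assoc (g c), hV, one_mul]
  rw [this] at p1
  exact hTu.c1 (mul_eq_left.1 p1.symm)

omit hV in
theorem FX.exists_conj [Finite V] {t : MulAut V} {c : V} (ht : Tv t c) (ht2 : t * t = 1) (htX : t ∈ X) :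
    ∃ f ∈ F, f * t * f⁻¹ ≠ t := by
  by_contra hcon
  push Not at hcon
  have h1 : t ∈ F := h.cen t htX (fun f hf => by
    have := hcon f hf
    rw [mul_inv_eq_iff_eq_mul] at this
    exact this.symm)
  exact ht.t1 (h.eq_one h1 (n := 1) (by rw [pow_one, pow_two]; exact ht2))

/-- a non-commuting transvection is an `F`-conjugate -/
theorem FX.noncomm [Finite V] {b t : MulAut V} {c d : V} (hb : Tv b d) (hbX : b ∈ X) (ht : Tv t c) (htX : t ∈ X)
    (hbc : b c ≠ c) : ∃ f ∈ F, b = f * t * f⁻¹ := by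
  have hcm := comm hV
  obtain ⟨f0, hf0, ht'⟩ := h.exists_conj ht (ht.sq hV) htX
  obtain ⟨f1, hf1, hb'⟩ := h.exists_conj hb (hb.sq hV) hbX
  have P0 := h.pair hV ht htX hf0 ht'
  have P1 := h.pair hV hb hbX hf1 hb'
  set k := (f0 * t * f0⁻¹) * t with hk
  have hkF : k ∈ F := h.mem_prod' hV ht htX hf0
  have hkc : k c = c * f0 c := by
    rw [hk]; simp only [MulAut.mul_apply]; rw [ht.fix hV]; exact P0.2
  have hpres : ∀ f ∈ F, f c = c ∨ f c = f0 c ∨ f c = k c := by
    intro f hf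
    by_cases h1 : f * t * f⁻¹ = t
    · left
      have := ht.conj f
      rw [h1] at this
      exact (this.center_unique ht)
    · by_cases h2 : f * t * f⁻¹ = f0 * t * f0⁻¹
      · right; left
        have := ht.conj f
        rw [h2] at this
        exact (this.center_unique (ht.conj f0))
      · right; right
        have h3 := h.third hV ht htX hf0 hf ht' h1 h2
        have := ht.conj f
        rw [h3] at this
        exact (this.center_unique (ht.conj k))
  have hbc' : b c = c * d := not_fix_iff hV hb hbc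
  have hβ : b * (f1 * b * f1⁻¹) ∈ F := h.mem_prod hV hb hbX hf1
  have hTb' := hb.conj f1
  have hβc : (b * (f1 * b * f1⁻¹)) c = c * d ∨ (b * (f1 * b * f1⁻¹)) c = c * f1 d := by
    rcases hTb'.mv c with h1 | h1
    · left
      rw [MulAut.mul_apply, h1, hbc']
    · right
      rw [MulAut.mul_apply, h1, map_mul, hbc', P1.1]
      rw [hcm (f1 d) d, mul_assoc, ← mul_assoc d d, hV, one_mul]
  -- d is an F-conjugate of c
  have hd : ∃ g ∈ F, d = g c := by
    have hcc : ∀ x : V, c * x = c → x = 1 := fun x hx => mul_eq_left.1 hx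
    have hd1 := hb.c1
    have hd2 := hTb'.c1
    have aux : ∀ x : V, x ≠ 1 → (c * x = c ∨ c * x = f0 c ∨ c * x = k c) → ∃ g ∈ F, x = g c := by
      intro x hx hcx
      rcases hcx with h1 | h1 | h1
      · exact absurd (hcc x h1) hx
      · refine ⟨k, hkF, ?_⟩
        rw [hkc, ← h1, ← mul_assoc, hV, one_mul]
      · refine ⟨f0, hf0, ?_⟩
        rw [hkc] at h1
        exact mul_left_cancel h1
    rcases hβc with h1 | h1
    · have := hpres _ hβ
      rw [h1] at this
      exact aux d hd1 this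
    · have := hpres _ hβ
      rw [h1] at this
      obtain ⟨g, hg, hgc⟩ := aux _ hd2 this
      refine ⟨f1⁻¹ * g, F.mul_mem (F.inv_mem hf1) hg, ?_⟩
      rw [MulAut.mul_apply, ← hgc]
      exact (MulAut.inv_apply_self _ f1 d).symm
  obtain ⟨g, hg, hgd⟩ := hd
  have hTg := ht.conj g
  have hgX : g * t * g⁻¹ ∈ X := X.mul_mem (X.mul_mem (h.le hg) htX) (X.inv_mem (h.le hg))
  rw [← hgd] at hTg
  have hgt : g * t * g⁻¹ ≠ t := by
    intro h1
    rw [h1] at hTg
    have := hTg.center_unique ht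
    rw [this] at hb
    exact hbc (hb.fix hV)
  have hgc : (g * t * g⁻¹) c = c * d := by rw [hgd]; exact (h.pair hV ht htX hg hgt).2
  refine ⟨g, hg, ?_⟩
  set s := g * t * g⁻¹ with hs
  by_contra hbs
  have hq1 : b * s ≠ 1 := by
    intro h1
    apply hbs
    rw [← hTg.inv hV]
    exact eq_inv_of_mul_eq_one_left h1
  have hq : Tv (b * s) d := by
    refine ⟨hb.c1, fun v => ?_, hq1⟩
    rw [MulAut.mul_apply]
    rcases hTg.mv v with h1 | h1
    · rw [h1]; exact hb.mv v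
    · rw [h1, map_mul, hb.fix hV]
      rcases hb.mv v with h2 | h2
      · right; rw [h2]
      · left; rw [h2, mul_assoc, hV, mul_one]
  have hqX : b * s ∈ X := X.mul_mem hbX hgX
  have hqc : (b * s) c = c := by
    rw [MulAut.mul_apply, hgc, map_mul, hb.fix hV, hbc', mul_assoc, hV, mul_one]
  have e5 : g⁻¹ d = c := by rw [hgd]; exact MulAut.inv_apply_self _ g c
  have hne : g⁻¹ * (b * s) * g⁻¹⁻¹ ≠ b * s := by
    intro h1
    have h2 := hq.conj g⁻¹
    rw [h1, e5] at h2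
    have h3 := h2.center_unique hq
    rw [h3] at hbc
    exact hbc (hb.fix hV)
  have h5 := (h.pair hV hq hqX (F.inv_mem hg) hne).1
  rw [e5, hqc] at h5
  exact hb.c1 (mul_eq_left.1 h5.symm)

/-- transvections of `X` preserve the `F`-class of `t` -/
theorem FX.cls [Finite V] {b t : MulAut V} {c d : V} (hb : Tv b d) (hbX : b ∈ X) (ht : Tv t c) (htX : t ∈ X)
    {f : MulAut V} (hf : f ∈ F) : ∃ g ∈ F, b * (f * t * f⁻¹) * b⁻¹ = g * t * g⁻¹ := by
  have hsX : f * t * f⁻¹ ∈ X := X.mul_mem (X.mul_mem (h.le hf) htX) (X.inv_mem (h.le hf))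
  have aux : (∃ g ∈ F, b = g * t * g⁻¹) → ∃ g ∈ F, b * (f * t * f⁻¹) * b⁻¹ = g * t * g⁻¹ := by
    rintro ⟨g, hg, rfl⟩
    refine ⟨g * (t * (g⁻¹ * f) * t⁻¹), F.mul_mem hg (h.nor t htX _ (F.mul_mem (F.inv_mem hg) hf)), ?_⟩
    group
  by_cases h1 : b (f c) = f c
  · by_cases h2 : (f * t * f⁻¹) d = d
    · refine ⟨f, hf, ?_⟩
      rw [commute_of_fix hV hb (ht.conj f) h1 h2]; group
    · obtain ⟨g, hg, hgb⟩ := h.noncomm hV (ht.conj f) hsX hb hbX h2
      apply aux
      refine ⟨g⁻¹ * f, F.mul_mem (F.inv_mem hg) hf, ?_⟩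
      have : b = g⁻¹ * (g * b * g⁻¹) * g := by group
      rw [this, ← hgb]; group
  · obtain ⟨g, hg, hgb⟩ := h.noncomm hV hb hbX (ht.conj f) hsX h1
    apply aux
    refine ⟨g * f, F.mul_mem hg hf, ?_⟩
    rw [hgb]; group

/-- a transvection of `X` is determined by its center -/
theorem FX.unique [Finite V] {s t : MulAut V} {c : V} (hs : Tv s c) (hsX : s ∈ X) (ht : Tv t c) (htX : t ∈ X) :
    s = t := by
  obtain ⟨f, hf, hft⟩ := h.exists_conj ht (ht.sq hV) htX
  have P := h.pair hV ht htX hf hft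
  have hX' : f * t * f⁻¹ ∈ X := X.mul_mem (X.mul_mem (h.le hf) htX) (X.inv_mem (h.le hf))
  have hfc : f c ≠ 1 := (ht.conj f).c1
  obtain ⟨g, hg, hgs⟩ := h.noncomm hV (ht.conj f) hX' hs hsX (by
    rw [P.2]; intro h1; exact hfc (mul_eq_left.1 h1))
  by_contra hne
  have e1 : s = (g⁻¹ * f) * t * (g⁻¹ * f)⁻¹ := by
    have : s = g⁻¹ * (g * s * g⁻¹) * g := by group
    rw [this, ← hgs]; group
  have hgf : g⁻¹ * f ∈ F := F.mul_mem (F.inv_mem hg) hf
  have hc : (g⁻¹ * f) c = c := by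
    have := ht.conj (g⁻¹ * f)
    rw [← e1] at this
    exact this.center_unique hs
  have h5 := (h.pair hV ht htX hgf (by rw [← e1]; exact hne)).1
  rw [hc, hV, ht.fix hV] at h5
  exact ht.c1 h5

end H55.FF
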