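import Mathlib

set_option autoImplicit false

/-! Transvections on elementary abelian 2-groups (written multiplicatively), solvable FF-groups. -/

namespace H55.FF

variable {V : Type*} [Group V]

/-- `t` is a transvection with center `c` -/
structure Tv (t : MulAut V) (c : V) : Prop where
  c1 : c ≠ 1
  mv : ∀ v, t v = v ∨ t v = v * c
  t1 : t ≠ 1

variable (hV : ∀ v : V, v * v = 1)

include hV

theorem comm (a b : V) : a * b = b * a := by
  have h := hV (a * b)
  have ha := hV a
  have hb := hV b
  calc a * b = (a * a) * (a * b) * (a * b) * (b * a) := by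
        rw [ha, one_mul, h, one_mul]
        have : (a * b)⁻¹ = b * a := by
          rw [mul_inv_rev, inv_eq_of_mul_eq_one_left ha, inv_eq_of_mul_eq_one_left hb]
        rw [← this]; exact (inv_eq_of_mul_eq_one_left h).symm
    _ = b * a := by rw [ha, one_mul, h, one_mul]

theorem Tv.fix {t : MulAut V} {c : V} (h : Tv t c) : t c = c := by
  rcases h.mv c with h1 | h1
  · exact h1
  · rw [hV c] at h1
    exact absurd ((MulEquiv.map_eq_one_iff t).1 h1) h.c1

theorem Tv.sq {t : MulAut V} {c : V} (h : Tv t c) : t * t = 1 := by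
  ext v
  simp only [MulAut.mul_apply, MulAut.one_apply]
  rcases h.mv v with h1 | h1
  · rw [h1, h1]
  · rw [h1, map_mul, h1, h.fix hV, mul_assoc, hV c, mul_one]

theorem Tv.inv {t : MulAut V} {c : V} (h : Tv t c) : t⁻¹ = t :=
  inv_eq_of_mul_eq_one_left (h.sq hV)

omit hV in
theorem Tv.exists {t : MulAut V} {c : V} (h : Tv t c) : ∃ v, t v = v * c := by
  by_contra hcon
  push Not at hcon
  apply h.t1
  ext v
  rcases h.mv v with h1 | h1
  · exact h1
  · exact absurd h1 (hcon v)

omit hV in
theorem Tv.center_unique {t : MulAut V} {c d : V} (h : Tv t c) (h' : Tv t d) : c = d := by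
  obtain ⟨v, hv⟩ := h.exists
  rcases h'.mv v with h1 | h1
  · rw [hv] at h1
    exact absurd (mul_eq_left.1 h1) h.c1
  · rw [hv] at h1
    exact mul_left_cancel h1

omit hV in
theorem Tv.conj {t : MulAut V} {c : V} (h : Tv t c) (s : MulAut V) : Tv (s * t * s⁻¹) (s c) where
  c1 := fun h1 => h.c1 ((MulEquiv.map_eq_one_iff s).1 h1)
  mv := by
    intro v
    rcases h.mv (s⁻¹ v) with h1 | h1
    · left
      simp only [MulAut.mul_apply]
      rw [h1]; exact MulAut.apply_inv_self _ s v
    · right
      simp only [MulAut.mul_apply]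
      rw [h1, map_mul]; congr 1; exact MulAut.apply_inv_self _ s v
  t1 := by
    intro h1
    apply h.t1
    have : t = s⁻¹ * (s * t * s⁻¹) * s := by group
    rw [this, h1]; group

/-- commuting criterion -/
theorem commute_of_fix {s t : MulAut V} {c d : V} (hs : Tv s c) (ht : Tv t d) (h1 : s d = d) (h2 : t c = c) :
    s * t = t * s := by
  letI : CommGroup V := { ‹Group V› with mul_comm := comm hV }
  ext v
  simp only [MulAut.mul_apply]
  rcases hs.mv v with hv | hv <;> rcases ht.mv v with hw | hw <;>
    simp only [hv, hw, map_mul, h1, h2, mul_assoc, mul_comm, mul_left_comm]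

omit hV in
theorem fix_of_commute {s t : MulAut V} {d : V} (ht : Tv t d) (h : s * t = t * s) :
    s d = d := by
  have h1 := ht.conj s
  have h2 : s * t * s⁻¹ = t := by rw [h]; group
  rw [h2] at h1
  exact (ht.center_unique h1).symm

/-- braid relation -/
theorem braid {s t : MulAut V} {c d : V} (hs : Tv s c) (ht : Tv t d) (h1 : s d = d * c) (h2 : t c = c * d) :
    s * t * s = t * s * t := by
  letI : CommGroup V := { ‹Group V› with mul_comm := comm hV }
  have h4 : ∀ a b : V, a * (a * b) = b := fun a b => by rw [← mul_assoc, hV, one_mul]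
  ext v
  simp only [MulAut.mul_apply]
  rcases hs.mv v with hv | hv <;> rcases ht.mv v with hw | hw <;>
    simp only [hv, hw, map_mul, h1, h2, hs.fix hV, ht.fix hV, mul_assoc, mul_comm, mul_left_comm, hV, h4, mul_one, one_mul]

theorem cube {s t : MulAut V} {c d : V} (hs : Tv s c) (ht : Tv t d) (h1 : s d = d * c) (h2 : t c = c * d) :
    (s * t) ^ 3 = 1 := by
  have h := braid hV hs ht h1 h2
  have e : (s * t) ^ 3 = (s * t * s) * (t * s * t) := by
    rw [pow_succ, pow_two]; group
  rw [e, ← h]
  have e2 : s * t * s * (s * t * s) = s * t * (s * s) * t * s := by group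
  rw [e2, hs.sq hV, mul_one]
  have e3 : s * t * t * s = s * (t * t) * s := by group
  rw [e3, ht.sq hV, mul_one, hs.sq hV]

/-- order dividing 4 otherwise -/
theorem pow_four {s t : MulAut V} {c d : V} (hs : Tv s c) (ht : Tv t d) (h : s d = d ∨ t c = c) :
    (s * t) ^ 4 = 1 := by
  letI : CommGroup V := { ‹Group V› with mul_comm := comm hV }
  have h4 : ∀ a b : V, a * (a * b) = b := fun a b => by rw [← mul_assoc, hV, one_mul]
  ext v
  have e : (s * t) ^ 4 = s * t * s * t * s * t * s * t := by
    simp only [pow_succ, pow_zero, one_mul, mul_assoc]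
  rw [e]
  simp only [MulAut.mul_apply, MulAut.one_apply]
  rcases h with h | h
  · rcases ht.mv c with h2 | h2 <;> rcases hs.mv v with hv | hv <;> rcases ht.mv v with hw | hw <;>
      simp only [hv, hw, map_mul, h, h2, hs.fix hV, ht.fix hV, mul_assoc, mul_comm, mul_left_comm, hV, h4, mul_one, one_mul]
  · rcases hs.mv d with h2 | h2 <;> rcases hs.mv v with hv | hv <;> rcases ht.mv v with hw | hw <;>
      simp only [hv, hw, map_mul, h, h2, hs.fix hV, ht.fix hV, mul_assoc, mul_comm, mul_left_comm, hV, h4, mul_one, one_mul]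

theorem not_fix_iff {t : MulAut V} {d v : V} (ht : Tv t d) (h : t v ≠ v) : t v = v * d :=
  (ht.mv v).resolve_left h

end H55.FF
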