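import Mathlib
import Cfsg.Agent.Lib.H55.SylowBasic

/-!
Frobenius–Wielandt type results via transfer.
-/

set_option autoImplicit false

namespace H55.FW

open Subgroup MulAction

/-- If the conjugates of `M` meet `M` inside the kernel of `ϕ`, then the transfer extends `ϕ`. -/
theorem transfer_eq {G A : Type*} [Group G] [Finite G] [CommGroup A] (M : Subgroup G)
    (ϕ : M →* A)
    (h : ∀ g : G, g ∉ M → ∀ y ∈ M, ∀ hy : g⁻¹ * y * g ∈ M, ϕ ⟨g⁻¹ * y * g, hy⟩ = 1)
    (x : G) (hx : x ∈ M) : MonoidHom.transfer ϕ x = ϕ ⟨x, hx⟩ := by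
  classical
  have : Fintype (Quotient (orbitRel (zpowers x) (G ⧸ M))) := Fintype.ofFinite _
  rw [MonoidHom.transfer_eq_prod_quotient_orbitRel_zpowers_quot]
  set q₀ : Quotient (orbitRel (zpowers x) (G ⧸ M)) := Quotient.mk'' (QuotientGroup.mk (1 : G))
    with hq₀
  have hfix : ∀ z : zpowers x, z • (QuotientGroup.mk (1 : G) : G ⧸ M) = QuotientGroup.mk 1 := by
    rintro ⟨z, hz⟩
    have hzM : z ∈ M := (Subgroup.zpowers_le.mpr hx) hz
    show z • (QuotientGroup.mk (1 : G) : G ⧸ M) = QuotientGroup.mk 1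
    rw [MulAction.Quotient.smul_mk, smul_eq_mul, mul_one]
    rw [QuotientGroup.eq]
    simpa using hzM
  have hout : ∀ q : Quotient (orbitRel (zpowers x) (G ⧸ M)), q.out.out ∈ M → q = q₀ := by
    intro q hq
    have h1 : q.out = QuotientGroup.mk (1 : G) := by
      conv_lhs => rw [← QuotientGroup.out_eq' q.out]
      rw [QuotientGroup.eq]
      simpa using hq
    rw [← Quotient.out_eq' q, h1]
  have hq₀out : q₀.out = QuotientGroup.mk (1 : G) := by
    have h1 : q₀ = Quotient.mk'' q₀.out := (Quotient.out_eq' q₀).symm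
    rw [hq₀] at h1
    have h2 := Quotient.eq''.mp h1.symm
    rw [orbitRel_apply] at h2
    obtain ⟨z, hz⟩ := h2
    rw [← hz]
    exact hfix z
  have hq₀M : q₀.out.out ∈ M := by
    have h1 := QuotientGroup.out_eq' q₀.out
    rw [hq₀out] at h1 ⊢
    rw [QuotientGroup.eq] at h1
    simpa using h1
  rw [Fintype.prod_eq_single q₀]
  · have hper : Function.minimalPeriod (x • ·) q₀.out = 1 := by
      rw [Function.minimalPeriod_eq_one_iff_isFixedPt]
      show x • q₀.out = q₀.out
      rw [hq₀out]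
      exact hfix ⟨x, mem_zpowers x⟩
    have key : ∀ (t : G) (ht : t ∈ M) (n : ℕ) (hn : n = 1) (hy : t⁻¹ * x ^ n * t ∈ M),
        ϕ ⟨t⁻¹ * x ^ n * t, hy⟩ = ϕ ⟨x, hx⟩ := by
      rintro t ht n rfl hy
      have : (⟨t⁻¹ * x ^ 1 * t, hy⟩ : M) = (⟨t, ht⟩ : M)⁻¹ * ⟨x, hx⟩ * ⟨t, ht⟩ :=
        Subtype.ext (by simp)
      rw [this, map_mul, map_mul, map_inv, mul_comm, mul_inv_cancel_left]
    exact key _ hq₀M _ hper _
  · intro q hq
    have ht : q.out.out ∉ M := fun h => hq (hout q h)
    exact h _ ht _ (M.pow_mem hx _) _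


theorem conj_le_iff {G : Type*} [Group G] {H K : Subgroup G} {g : G} :
    H.map (MulAut.conj g).toMonoidHom ≤ K ↔ ∀ h ∈ H, g * h * g⁻¹ ∈ K := by
  constructor
  · intro hle h hh
    exact hle ⟨h, hh, rfl⟩
  · rintro hle _ ⟨h, hh, rfl⟩
    exact hle h hh

theorem mem_map_conj {G : Type*} [Group G] {H : Subgroup G} {g x : G} :
    x ∈ H.map (MulAut.conj g).toMonoidHom ↔ g⁻¹ * x * g ∈ H := by
  constructor
  · rintro ⟨h, hh, rfl⟩
    simpa [mul_assoc] using hh
  · intro h
    exact ⟨_, h, by simp [mul_assoc]⟩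

/-- Main lemma on extremely closed subgroups. -/
theorem main {G : Type*} [Group G] [Finite G] (H M : Subgroup G) (hHM : H ≤ M)
    (hcl : ∀ g : G, (H ⊔ H.map (MulAut.conj g).toMonoidHom) ⊓ M = H)
    (hmaxH : IsCoatom (H.subgroupOf M)) (hmaxM : IsCoatom M) :
    (M.Normal ∧ H.Normal) ∨ ∃ K : Subgroup G, K.Normal ∧ H ≤ K ∧ K ⊓ M = H ∧ K ⊔ M = ⊤ := by
  classical
  have hlt : H ≠ M := by
    rintro rfl
    exact hmaxH.1 (by simp)
  obtain ⟨x₀, hx₀M, hx₀H⟩ := SetLike.exists_of_lt (lt_of_le_of_ne hHM hlt)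
  -- `H` is normalized by `M`
  have hHn : ∀ m ∈ M, ∀ h ∈ H, m * h * m⁻¹ ∈ H := by
    intro m hm h hh
    have h1 := hcl m
    rw [← h1]
    refine Subgroup.mem_inf.mpr ⟨Subgroup.mem_sup_right ?_, M.mul_mem (M.mul_mem hm (hHM hh)) (M.inv_mem hm)⟩
    rw [mem_map_conj]
    simpa [mul_assoc] using hh
  have hst : ∀ g : G, ∀ h ∈ H, g * h * g⁻¹ ∈ M → g * h * g⁻¹ ∈ H := by
    intro g h hh hM
    rw [← hcl g]
    refine Subgroup.mem_inf.mpr ⟨Subgroup.mem_sup_right ?_, hM⟩
    rw [mem_map_conj]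
    simpa [mul_assoc] using hh
  -- every element of `M` outside `H` generates `M` together with `H`
  have hgen : ∀ x ∈ M, x ∉ H → M ≤ H ⊔ zpowers x := by
    intro x hx hxH
    have h1 : H.subgroupOf M < (H ⊔ zpowers x).subgroupOf M := by
      refine lt_of_le_of_ne (Subgroup.comap_mono le_sup_left) ?_
      intro h
      apply hxH
      have : (⟨x, hx⟩ : M) ∈ (H ⊔ zpowers x).subgroupOf M := by
        rw [Subgroup.mem_subgroupOf]
        exact Subgroup.mem_sup_right (Subgroup.mem_zpowers x)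
      rw [← h, Subgroup.mem_subgroupOf] at this
      exact this
    have h2 := hmaxH.2 _ h1
    rwa [Subgroup.subgroupOf_eq_top] at h2
  by_cases hMn : M.Normal
  · left
    refine ⟨hMn, ⟨fun h hh g => hst g h hh (hMn.conj_mem _ (hHM hh) g)⟩⟩
  right
  by_cases hcase : ∃ g : G, g ∉ M ∧ ∃ x ∈ M, g⁻¹ * x * g ∈ M ∧ x ∉ H
  · obtain ⟨g, hg, x, hx, hxg, hxH⟩ := hcase
    set L := H ⊔ H.map (MulAut.conj g).toMonoidHom with hL
    have hxgH : g⁻¹ * x * g ∉ H := by
      intro h
      apply hxH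
      have := hst g _ h (by simpa [mul_assoc] using hx)
      simpa [mul_assoc] using this
    have h1 : M ≤ L ⊔ zpowers x := (hgen x hx hxH).trans (sup_le_sup_right le_sup_left _)
    have h2 : M.map (MulAut.conj g).toMonoidHom ≤ L ⊔ zpowers x := by
      have h3 := Subgroup.map_mono (f := (MulAut.conj g).toMonoidHom) (hgen _ hxg hxgH)
      refine h3.trans ?_
      rw [Subgroup.map_sup, MonoidHom.map_zpowers]
      refine sup_le (le_sup_right.trans le_sup_left) ?_
      have : (MulAut.conj g).toMonoidHom (g⁻¹ * x * g) = x := by simp [mul_assoc]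
      rw [this]
      exact le_sup_right
    have hnle : ¬ M.map (MulAut.conj g).toMonoidHom ≤ M := by
      intro hle
      have hgN : g ∈ normalizer (M : Set G) :=
        H55.SylowBasic.mem_normalizer_of_forall M g (conj_le_iff.mp hle)
      have : normalizer (M : Set G) = ⊤ := by
        apply hmaxM.2
        refine lt_of_le_of_ne Subgroup.le_normalizer ?_
        intro h
        rw [← h] at hgN
        exact hg hgN
      exact hMn (Subgroup.normalizer_eq_top_iff.mp this)
    have htop : L ⊔ zpowers x = ⊤ := by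
      have h4 : M ⊔ M.map (MulAut.conj g).toMonoidHom = ⊤ := by
        apply hmaxM.2
        refine lt_of_le_of_ne le_sup_left ?_
        intro h
        exact hnle (le_sup_right.trans h.ge)
      rw [eq_top_iff, ← h4]
      exact sup_le h1 h2
    have hxN : x ∈ normalizer (L : Set G) := by
      have hle : L.map (MulAut.conj x).toMonoidHom ≤ L := by
        rw [hL, Subgroup.map_sup]
        refine sup_le_sup ?_ ?_
        · rw [conj_le_iff]; exact hHn x hx
        · rw [conj_le_iff]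
          intro h hh
          rw [mem_map_conj] at hh ⊢
          have e : g⁻¹ * (x * h * x⁻¹) * g = (g⁻¹ * x * g) * (g⁻¹ * h * g) * (g⁻¹ * x * g)⁻¹ := by
            group
          rw [e]
          exact hHn _ hxg _ hh
      exact H55.SylowBasic.mem_normalizer_of_forall L x (conj_le_iff.mp hle)
    have hLn : L.Normal := by
      rw [← Subgroup.normalizer_eq_top_iff, eq_top_iff, ← htop]
      exact sup_le Subgroup.le_normalizer (by rwa [Subgroup.zpowers_le])
    refine ⟨L, hLn, le_sup_left, hcl g, ?_⟩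
    rw [eq_top_iff, ← htop]
    exact sup_le_sup_left (by rwa [Subgroup.zpowers_le]) _
  · push Not at hcase
    set H' := H.subgroupOf M with hH'
    have hH'n : H'.Normal := by
      refine ⟨fun h hh m => ?_⟩
      rw [hH', Subgroup.mem_subgroupOf] at hh ⊢
      exact hHn m m.2 _ hh
    have hcomm : ∀ a b : M ⧸ H', a * b = b * a := by
      have hz : ∀ a : M ⧸ H', a ∈ zpowers ((⟨x₀, hx₀M⟩ : M) : M ⧸ H') := by
        intro a
        obtain ⟨⟨m, hm⟩, rfl⟩ := QuotientGroup.mk_surjective a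
        have h1 : (⊤ : Subgroup M) ≤ H' ⊔ zpowers (⟨x₀, hx₀M⟩ : M) := by
          rw [top_le_iff]
          apply hmaxH.2
          refine lt_of_le_of_ne le_sup_left ?_
          intro h
          apply hx₀H
          have : (⟨x₀, hx₀M⟩ : M) ∈ H' :=
            h.ge (Subgroup.mem_sup_right (Subgroup.mem_zpowers _))
          rwa [hH', Subgroup.mem_subgroupOf] at this
        have h2 := h1 (Subgroup.mem_top (⟨m, hm⟩ : M))
        obtain ⟨y, hy, z, hz, hyz⟩ := Subgroup.mem_sup_of_normal_left.mp h2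
        rw [← hyz, QuotientGroup.mk_mul, (QuotientGroup.eq_one_iff y).mpr hy, one_mul]
        obtain ⟨k, rfl⟩ := Subgroup.mem_zpowers_iff.mp hz
        exact Subgroup.mem_zpowers_iff.mpr ⟨k, by simp⟩
      intro a b
      obtain ⟨i, hi⟩ := Subgroup.mem_zpowers_iff.mp (hz a)
      obtain ⟨j, hj⟩ := Subgroup.mem_zpowers_iff.mp (hz b)
      rw [← hi, ← hj, ← zpow_add, ← zpow_add, add_comm]
    let _ : CommGroup (M ⧸ H') := { (inferInstance : Group (M ⧸ H')) with mul_comm := hcomm }
    let ϕ : M →* M ⧸ H' := QuotientGroup.mk' H'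
    have hϕ : ∀ m : M, ϕ m = 1 ↔ (m : G) ∈ H := by
      intro m
      show QuotientGroup.mk' H' m = 1 ↔ _
      rw [QuotientGroup.mk'_apply, QuotientGroup.eq_one_iff, hH', Subgroup.mem_subgroupOf]
    have hV : ∀ x (hx : x ∈ M), MonoidHom.transfer ϕ x = ϕ ⟨x, hx⟩ := by
      intro x hx
      apply transfer_eq
      intro g hg y hy hyg
      rw [hϕ]
      show g⁻¹ * y * g ∈ H
      apply hcase g⁻¹ (by simpa using hg) _ hyg
      simpa [mul_assoc] using hy
    refine ⟨(MonoidHom.transfer ϕ).ker, inferInstance, ?_, ?_, ?_⟩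
    · intro h hh
      rw [MonoidHom.mem_ker, hV h (hHM hh), hϕ]
      exact hh
    · ext y
      rw [Subgroup.mem_inf, MonoidHom.mem_ker]
      constructor
      · rintro ⟨h1, h2⟩
        rw [hV y h2, hϕ] at h1
        exact h1
      · intro hy
        exact ⟨by rw [hV y (hHM hy), hϕ]; exact hy, hHM hy⟩
    · rw [eq_top_iff]
      intro g _
      obtain ⟨⟨m, hm⟩, hmg⟩ := QuotientGroup.mk'_surjective H' (MonoidHom.transfer ϕ g)
      have : g = (g * m⁻¹) * m := by group
      rw [this]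
      refine Subgroup.mul_mem _ (Subgroup.mem_sup_left ?_) (Subgroup.mem_sup_right hm)
      rw [MonoidHom.mem_ker, map_mul, map_inv, hV m hm, mul_inv_eq_one]
      exact hmg.symm

end H55.FW
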