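import Cfsg.Agent.Lib.H55.ZC2
import Cfsg.Agent.Lib.H65.PSolHall
import Cfsg.Agent.Lib.H65.Red
import Cfsg.Agent.Lib.H37.QuadCore
import Cfsg.Agent.Lib.H73.Nilp
import Cfsg.Agent.Lib.H51.Involves
import Cfsg.Agent.Lib.H27.Sig

set_option autoImplicit false
set_option linter.unusedSimpArgs false
set_option linter.unusedSectionVars false

/-! Groups all of whose `p'`-subgroups are nilpotent: the minimal counterexample. -/

namespace H55.SN

open Subgroup H55.ZN H55.ZC

universe u

/-- minimal counterexample -/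
structure MC (p : ℕ) (G : Type u) [Group G] [Finite G] : Prop where
  hp : p.Prime
  hp3 : 3 < p
  nil : ∀ H : Subgroup G, (Nat.card H).Coprime p → Group.IsNilpotent H
  ns : ¬ Group.IsSolvable G
  sol : ∀ H : Subgroup G, H ≠ ⊤ → Group.IsSolvable H
  simple : IsSimpleGroup G

variable {p : ℕ} {G : Type u} [Group G] [Finite G]

theorem MC.ne_top (c : MC p G) {H : Subgroup G} (h : Group.IsSolvable H) : H ≠ ⊤ := by
  rintro rfl
  apply c.ns
  exact Group.isSolvable_of_surjective (f := (Subgroup.topEquiv (G := G)).toMonoidHom) (Subgroup.topEquiv (G := G)).surjective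

theorem MC.norm_ne_top (c : MC p G) {X : Subgroup G} (h : X ≠ ⊥) (h' : X ≠ ⊤) : normalizer (X : Set G) ≠ ⊤ := by
  intro hn
  haveI := c.simple
  have h1 : X.Normal := normalizer_eq_top_iff.1 hn
  rcases h1.eq_bot_or_eq_top with h2 | h2
  · exact h h2
  · exact h' h2

theorem MC.sol_norm (c : MC p G) {X : Subgroup G} (h : X ≠ ⊥) (h' : X ≠ ⊤) : Group.IsSolvable (normalizer (X : Set G)) :=
  c.sol _ (c.norm_ne_top h h')

theorem sol_of_le {H K : Subgroup G} (hHK : H ≤ K) (h : Group.IsSolvable K) : Group.IsSolvable H := by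
  haveI := h
  exact solvable_of_solvable_injective (Subgroup.inclusion_injective hHK)

theorem MC.pgroup_ne_top (c : MC p G) {q : ℕ} [Fact q.Prime] {X : Subgroup G} (h : IsPGroup q X) : X ≠ ⊤ := by
  haveI := h.isNilpotent
  exact c.ne_top inferInstance

theorem MC.cent_ne_top (c : MC p G) {g : G} (hg : g ≠ 1) : centralizer ({g} : Set G) ≠ ⊤ := by
  intro h
  haveI := c.simple
  have h1 : g ∈ center G := by
    rw [mem_center_iff]
    intro x
    have : x ∈ centralizer ({g} : Set G) := by rw [h]; trivial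
    exact mem_centralizer_singleton_iff.1 this
  rcases (inferInstance : (center G).Normal).eq_bot_or_eq_top with h2 | h2
  · rw [h2, mem_bot] at h1; exact hg h1
  · apply c.ns
    have : ∀ a b : G, a * b = b * a := fun a b => by
      have : b ∈ center G := by rw [h2]; trivial
      exact mem_center_iff.1 this a
    exact isSolvable_of_comm this

theorem MC.sol_cent (c : MC p G) {g : G} (hg : g ≠ 1) : Group.IsSolvable (centralizer ({g} : Set G)) :=
  c.sol _ (c.cent_ne_top hg)

theorem MC.hc (c : MC p G) : HC G := fun _ ht => c.sol_cent (sq_of_order ht).2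

/-- elements of coprime orders in a `p'`-subgroup commute -/
theorem MC.comm (c : MC p G) {K : Subgroup G} (hK : (Nat.card K).Coprime p) {q : ℕ} [Fact q.Prime] {Q : Subgroup G}
    (hQ : IsPGroup q Q) (hQK : Q ≤ K) {b : G} (hb : b ∈ K) (hbq : (orderOf b).Coprime q) : ∀ x ∈ Q, x * b = b * x := by
  have := H73.Nilp.mem_centralizer_of_le (c.nil K hK) hQ hQK hb hbq
  exact fun x hx => mem_centralizer_iff.1 this x hx

/-- an element of order prime to `p` and 2 normalizing a 2-subgroup centralizes it -/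
theorem MC.comm_of_norm (c : MC p G) {Q : Subgroup G} (hQ : IsPGroup 2 Q) {b : G} (hb : b ∈ normalizer (Q : Set G))
    (hb2 : (orderOf b).Coprime 2) (hbp : (orderOf b).Coprime p) : ∀ x ∈ Q, x * b = b * x := by
  haveI : Fact (Nat.Prime 2) := ⟨Nat.prime_two⟩
  apply c.comm (K := zpowers b ⊔ Q) (q := 2) ?_ hQ le_sup_right (mem_sup_left (mem_zpowers b)) hb2
  have h1 : Nat.card (zpowers b ⊔ Q : Subgroup G) ∣ Nat.card (zpowers b) * Nat.card Q := by
    exact H27.Sig.card_sup_dvd_mul (zpowers_le.2 hb)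
  apply Nat.Coprime.coprime_dvd_left h1
  rw [Nat.card_zpowers]
  refine Nat.Coprime.mul_left hbp ?_
  obtain ⟨n, hn⟩ := IsPGroup.iff_card.1 hQ
  rw [hn]
  exact Nat.Coprime.pow_left n ((Nat.coprime_primes Nat.prime_two c.hp).2 (by have := c.hp3; omega))

/-- a `p'`-section of a proper subgroup is nilpotent -/
theorem MC.sect (c : MC p G) {K : Subgroup G} (hK : Group.IsSolvable K) {Q : Type*} [Group Q] [Finite Q]
    (hQ : (Nat.card Q).Coprime p) {f : K →* Q} (hf : Function.Surjective f) : Group.IsNilpotent Q := by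
  haveI : Fact p.Prime := ⟨c.hp⟩
  obtain ⟨U, ⟨hU1, n, hU2⟩, -⟩ := (H65.PSolHall.main (H37.QuadCore.isPSolvable_of_isSolvable p _ K hK rfl)).1 ⊥ (by
    rw [Subgroup.card_bot]; exact Nat.coprime_one_left p)
  have h1 : (U.map f).index ∣ U.index := Subgroup.index_map_dvd U hf
  have h2 : (U.map f).index ∣ Nat.card Q := Subgroup.index_dvd_card _
  have h3 : (U.map f).index = 1 := by
    rw [hU2] at h1
    exact Nat.Coprime.eq_one_of_dvd (Nat.Coprime.coprime_dvd_left h2 (hQ.pow_right n)) h1
  have h4 : U.map f = ⊤ := Subgroup.index_eq_one.1 h3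
  haveI h5 : Group.IsNilpotent (U.map K.subtype) := by
    apply c.nil
    rw [card_map_of_injective K.subtype_injective]; exact hU1
  let e : U ≃* U.map K.subtype := U.equivMapOfInjective K.subtype K.subtype_injective
  haveI h6 : Group.IsNilpotent U := Group.nilpotent_of_surjective e.symm.toMonoidHom e.symm.surjective
  have h7 : Function.Surjective (f.comp U.subtype) := by
    intro q
    have : q ∈ U.map f := by rw [h4]; trivial
    obtain ⟨x, hx, rfl⟩ := this
    exact ⟨⟨x, hx⟩, rfl⟩
  exact Group.nilpotent_of_surjective _ h7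

theorem perm3_not_nilpotent : ¬ Group.IsNilpotent (Equiv.Perm (Fin 3)) := by
  intro h
  haveI : Fact (Nat.Prime 2) := ⟨Nat.prime_two⟩
  have h1 : orderOf (Equiv.swap (0 : Fin 3) 1) = 2 := orderOf_eq_prime (by decide) (by decide)
  have h2 : orderOf (Equiv.swap (0 : Fin 3) 1 * Equiv.swap 1 2) = 3 := by
    haveI : Fact (Nat.Prime 3) := ⟨Nat.prime_three⟩
    exact orderOf_eq_prime (by decide) (by decide)
  have h3 := H73.Nilp.commute_of_coprime (p := 2) (a := Equiv.swap (0 : Fin 3) 1)
    (b := Equiv.swap (0 : Fin 3) 1 * Equiv.swap 1 2) ⟨1, by rw [h1]; rfl⟩ (by rw [h2]; decide)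
  have h4 := h3.eq
  revert h4
  decide

theorem perm4_not_nilpotent : ¬ Group.IsNilpotent (Equiv.Perm (Fin 4)) := by
  intro h
  haveI : Fact (Nat.Prime 2) := ⟨Nat.prime_two⟩
  have h1 : orderOf (Equiv.swap (0 : Fin 4) 1) = 2 := orderOf_eq_prime (by decide) (by decide)
  have h2 : orderOf (Equiv.swap (0 : Fin 4) 1 * Equiv.swap 1 2) = 3 := by
    haveI : Fact (Nat.Prime 3) := ⟨Nat.prime_three⟩
    exact orderOf_eq_prime (by decide) (by decide)
  have h3 := H73.Nilp.commute_of_coprime (p := 2) (a := Equiv.swap (0 : Fin 4) 1)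
    (b := Equiv.swap (0 : Fin 4) 1 * Equiv.swap 1 2) ⟨1, by rw [h1]; rfl⟩ (by rw [h2]; decide)
  have h4 := h3.eq
  revert h4
  decide

theorem MC.s3 (c : MC p G) {H : Subgroup G} (hH : Group.IsSolvable H) : ¬ Cfsg.Involves (Equiv.Perm (Fin 3)) H := by
  intro h
  obtain ⟨K, f, hf⟩ := H51.Involves.exists_surjective h
  let K' := K.map H.subtype
  have hK' : K' ≤ H := map_subtype_le _
  let e : K ≃* K' := K.equivMapOfInjective H.subtype H.subtype_injective
  have := c.sect (K := K') (sol_of_le hK' hH) (Q := Equiv.Perm (Fin 3)) (by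
    rw [Nat.card_eq_fintype_card, Fintype.card_perm, Fintype.card_fin]
    have h6 : Nat.factorial 3 = 2 * 3 := rfl
    rw [h6]
    exact Nat.Coprime.mul_left ((Nat.coprime_primes Nat.prime_two c.hp).2 (by have := c.hp3; omega))
      ((Nat.coprime_primes Nat.prime_three c.hp).2 (by have := c.hp3; omega)))
    (f := f.comp e.symm.toMonoidHom) (hf.comp e.symm.surjective)
  exact perm3_not_nilpotent this

theorem MC.s4 (c : MC p G) {H : Subgroup G} (hH : Group.IsSolvable H) : ¬ Cfsg.Involves (Equiv.Perm (Fin 4)) H := by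
  intro h
  obtain ⟨K, f, hf⟩ := H51.Involves.exists_surjective h
  let K' := K.map H.subtype
  have hK' : K' ≤ H := map_subtype_le _
  let e : K ≃* K' := K.equivMapOfInjective H.subtype H.subtype_injective
  have := c.sect (K := K') (sol_of_le hK' hH) (Q := Equiv.Perm (Fin 4)) (by
    rw [Nat.card_eq_fintype_card, Fintype.card_perm, Fintype.card_fin]
    have h6 : Nat.factorial 4 = 2 * (2 * (2 * 3)) := rfl
    have h2 : Nat.Coprime 2 p := (Nat.coprime_primes Nat.prime_two c.hp).2 (by have := c.hp3; omega)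
    rw [h6]
    exact Nat.Coprime.mul_left h2 (Nat.Coprime.mul_left h2 (Nat.Coprime.mul_left h2
      ((Nat.coprime_primes Nat.prime_three c.hp).2 (by have := c.hp3; omega)))))
    (f := f.comp e.symm.toMonoidHom) (hf.comp e.symm.surjective)
  exact perm4_not_nilpotent this

end H55.SN
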