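import Cfsg.Agent.Lib.H55.SN1
import Cfsg.Agent.S3755
import Cfsg.Agent.Lib.H28.RelSyl

set_option autoImplicit false
set_option linter.unusedSimpArgs false
set_option linter.unusedSectionVars false

/-! The strong inequality for solvable groups acting with trivial 2-core. -/

namespace H55.SN

open Subgroup Cfsg H65.Sect H65.Irr

universe u

theorem strong {X : Type u} [Group X] [Finite X] {L V W A : Subgroup X} (h : Sec L V W)
    (hsol : Group.IsSolvable L) (hS3 : SF L (act V W))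
    {R : Subgroup X} (hR : H28.RelSyl.IsSyl 2 R L)
    (hcoreL : ∀ N : Subgroup X, N ≤ L → L ≤ normalizer (N : Set X) → (∀ n ∈ N, ∃ r ∈ R, n * r⁻¹ ∈ act V W) → N ≤ act V W)
    (hAL : A ≤ L) (hA1 : ∀ a ∈ A, a * a ∈ act V W) (hA2 : ∀ a ∈ A, ∀ b ∈ A, a * b * a⁻¹ * b⁻¹ ∈ act V W) :
    ((A ⊓ act V W).relIndex A) ^ 2 ≤ (fix V W A).relIndex V := by
  classical
  have h2f : Fact (Nat.Prime 2) := ⟨Nat.prime_two⟩
  by_contra hlt
  push Not at hlt
  obtain ⟨Y, _, _, i, j, hij, hi, hj⟩ := exists_model h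
  set V' := i.range with hV'
  set M' := j.range with hM'
  set A' := (A.subgroupOf L).map j with hA'
  have hVel : IsElementaryAbelian 2 V' := by
    refine ⟨⟨⟨?_⟩⟩, ?_⟩
    · rintro ⟨_, v, rfl⟩ ⟨_, u, rfl⟩
      apply Subtype.ext
      show i v * i u = i u * i v
      have h1 : i (v * u * v⁻¹ * u⁻¹) = 1 := (hi _).mpr (h.comm v v.2 u u.2)
      rw [map_mul, map_mul, map_mul, map_inv, map_inv, mul_inv_eq_one, mul_inv_eq_iff_eq_mul] at h1
      exact h1
    · rintro _ ⟨v, rfl⟩
      rw [← map_pow, hi, pow_two]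
      exact h.sq v v.2
  have hVp : IsPGroup 2 V' := by
    intro x
    exact ⟨1, by apply Subtype.ext; simpa using hVel.2 x x.2⟩
  have hMV : M' ≤ normalizer (V' : Set Y) := by
    rw [le_normalizer_iff]
    rintro _ ⟨l, rfl⟩ _ ⟨v, rfl⟩
    rw [hij]
    exact ⟨_, rfl⟩
  have hfaith : M' ⊓ centralizer (V' : Set Y) = ⊥ := by
    rw [eq_bot_iff]
    rintro _ ⟨⟨l, rfl⟩, hl⟩
    rw [mem_bot, hj]
    refine ⟨h.nV l.2, h.nW l.2, fun v hv => ?_⟩
    have h1 : i ⟨v, hv⟩ * j l = j l * i ⟨v, hv⟩ := mem_centralizer_iff.mp hl _ ⟨_, rfl⟩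
    have h2 : i (psi h l ⟨v, hv⟩ * (⟨v, hv⟩ : V)⁻¹) = 1 := by
      rw [map_mul, map_inv, ← hij, ← h1, mul_inv_cancel_right, mul_inv_cancel]
    exact (hi _).mp h2
  have hsolM : Group.IsSolvable M' := by
    have := hsol
    exact Group.isSolvable_of_surjective j.rangeRestrict_surjective
  have hcore : pCore 2 M' = ⊥ := by
    let g0 : L →* M' := j.rangeRestrict
    let N : Subgroup X := ((pCore 2 M').comap g0).map L.subtype
    have hNL : N ≤ L := Subgroup.map_subtype_le _
    have hn : (pCore 2 M').Normal := inferInstance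
    have h1 : N ≤ act V W := by
      apply hcoreL N hNL
      · rw [le_normalizer_iff]
        rintro l hl _ ⟨x, hx, rfl⟩
        refine ⟨⟨l, hl⟩ * x * ⟨l, hl⟩⁻¹, ?_, rfl⟩
        show g0 (⟨l, hl⟩ * x * ⟨l, hl⟩⁻¹) ∈ pCore 2 M'
        rw [map_mul, map_mul, map_inv]
        exact hn.conj_mem _ hx _
      · rintro _ ⟨x, hx, rfl⟩
        have h2 := H1.Cores.pCore_le_sylow (hR.toSylow.mapSurjective (f := g0) j.rangeRestrict_surjective) hx
        rw [Sylow.coe_mapSurjective] at h2
        obtain ⟨r, hr, hrx⟩ := h2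
        rw [hR.coe_toSylow] at hr
        refine ⟨r, hr, ?_⟩
        have h3 : g0 (x * r⁻¹) = 1 := by rw [map_mul, map_inv, hrx, mul_inv_cancel]
        have h4 : j (x * r⁻¹) = 1 := congrArg Subtype.val h3
        exact (hj _).mp h4
    rw [eq_bot_iff]
    intro m hm
    obtain ⟨l, rfl⟩ := j.rangeRestrict_surjective m
    have h2 : (l : X) ∈ act V W := h1 ⟨l, hm, rfl⟩
    rw [mem_bot]
    exact Subtype.ext ((hj l).mpr h2)
  have hcon := centralizer_pPrimeCore_le hsolM hcore
  have hA'M : A' ≤ M' := by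
    rintro _ ⟨l, _, rfl⟩
    exact ⟨l, rfl⟩
  have hA'el : IsElementaryAbelian 2 A' := by
    refine ⟨⟨⟨?_⟩⟩, ?_⟩
    · rintro ⟨_, a, ha, rfl⟩ ⟨_, b, hb, rfl⟩
      apply Subtype.ext
      show j a * j b = j b * j a
      have h1 : j (a * b * a⁻¹ * b⁻¹) = 1 := (hj _).mpr (hA2 a ha b hb)
      rw [map_mul, map_mul, map_mul, map_inv, map_inv, mul_inv_eq_one, mul_inv_eq_iff_eq_mul] at h1
      exact h1
    · rintro _ ⟨a, ha, rfl⟩
      rw [← map_pow, hj, pow_two]
      exact hA1 a ha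
  have hsmall : (V' ⊓ centralizer (A' : Set Y)).relIndex V' < Nat.card A' ^ 2 := by
    have e1 : (V' ⊓ centralizer (A' : Set Y)).relIndex V' = (fix V W A).relIndex V := by
      rw [inf_relIndex_left, hV', ← Subgroup.index_comap]
      show _ = ((fix V W A).subgroupOf V).index
      congr 1
      ext v
      rw [mem_comap, mem_subgroupOf, mem_fix, mem_centralizer_iff]
      constructor
      · intro hv
        refine ⟨v.2, h.VW v.2, fun a ha => ?_⟩
        have h1 := hv (j ⟨a, hAL ha⟩) ⟨⟨a, hAL ha⟩, ha, rfl⟩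
        have h2 : i (psi h ⟨a, hAL ha⟩ v * v⁻¹) = 1 := by
          rw [map_mul, map_inv, ← hij, h1, mul_inv_cancel_right, mul_inv_cancel]
        exact (hi _).mp h2
      · rintro ⟨-, -, hv⟩ _ ⟨a, ha, rfl⟩
        have h2 : i (psi h a v * v⁻¹) = 1 := (hi _).mpr (hv a ha)
        rw [map_mul, map_inv, ← hij, mul_inv_eq_one, mul_inv_eq_iff_eq_mul] at h2
        exact h2
    have e2 : Nat.card A' = (A ⊓ act V W).relIndex A := by
      rw [hA', ← Subgroup.relIndex_ker, inf_relIndex_left]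
      have : j.ker = (act V W).subgroupOf L := by
        ext l
        rw [MonoidHom.mem_ker, hj, mem_subgroupOf]
      rw [this, Subgroup.relIndex_subgroupOf hAL]
    rw [e1, e2]; exact hlt
  obtain ⟨K', f, hf⟩ := H51.Involves.exists_surjective
    (Cfsg.Agent.S3755.result M' V' hVel hMV hfaith hcon A' hA'M hA'el hsmall)
  let g : L →* M' := j.rangeRestrict
  have hg : Function.Surjective g := j.rangeRestrict_surjective
  let K := (K'.comap g).map L.subtype
  let e : (K'.comap g) ≃* K := (K'.comap g).equivMapOfInjective L.subtype L.subtype_injective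
  refine hS3 K (Subgroup.map_subtype_le _) (f.comp ((g.subgroupComap K').comp e.symm.toMonoidHom)) ?_ ?_
  · intro k hk
    have h1 : ((e.symm k : K'.comap g) : L) = (k : X) := by
      have : ((e (e.symm k) : K) : X) = (k : X) := by rw [e.apply_symm_apply]
      exact this
    have h2 : g.subgroupComap K' (e.symm k) = 1 := by
      apply Subtype.ext
      apply Subtype.ext
      show j ((e.symm k : K'.comap g) : L) = 1
      rw [hj, h1]; exact hk
    show f (g.subgroupComap K' (e.symm k)) = 1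
    rw [h2, map_one]
  · exact hf.comp ((g.subgroupComap_surjective_of_surjective K' hg).comp e.symm.surjective)


theorem strong' {X : Type u} [Group X] [Finite X] {L V A R : Subgroup X} (hV : H55.ZN.Ex2 V)
    (hLV : L ≤ normalizer (V : Set X)) (hsol : Group.IsSolvable L) (hS3 : ¬ Involves (Equiv.Perm (Fin 3)) L)
    (hR : H28.RelSyl.IsSyl 2 R L)
    (hcoreL : ∀ N : Subgroup X, N ≤ L → L ≤ normalizer (N : Set X) →
      (∀ n ∈ N, ∃ r ∈ R, n * r⁻¹ ∈ centralizer (V : Set X)) → N ≤ centralizer (V : Set X))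
    (hAL : A ≤ L) (hA : H55.ZN.Ex2 A) :
    ((A ⊓ centralizer (V : Set X)).relIndex A) ^ 2 ≤ (V ⊓ centralizer (A : Set X)).relIndex V := by
  have hsec : Sec L V ⊥ := H65.TheoremB.sec_bot (H55.ZC.ex2_iff.1 hV) hLV
  have h3 := strong (A := A) hsec hsol (sf_of_not_involves hS3 _) hR (by rw [act_bot]; exact hcoreL) hAL
    (fun a ha => by rw [hA a ha]; exact one_mem _)
    (fun a ha b hb => by
      have : a * b * a⁻¹ * b⁻¹ = 1 := by rw [hA.comm ha hb]; group
      rw [this]; exact one_mem _)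
  rwa [act_bot, fix_bot] at h3

end H55.SN
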