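import Cfsg.Agent.Lib.H55.SN2
import Cfsg.Agent.S1968
import Cfsg.Agent.S0215
import Cfsg.Agent.S0205

set_option autoImplicit false
set_option linter.unusedSimpArgs false
set_option linter.unusedSectionVars false

/-! The functor `J_e(P) C_P(J_e(P))` and a normal elementary abelian subgroup of order at least 8. -/

namespace H55.SN

open Subgroup H55.ZN H55.ZC

universe u

section functor

variable {G : Type u} [Group G] [Finite G]

def WJ (P : Subgroup G) : Subgroup G := JJ P ⊔ (P ⊓ centralizer (JJ P : Set G))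

theorem WJ_le (P : Subgroup G) : WJ P ≤ P := sup_le (JJ_le P) inf_le_left

theorem cent_le_WJ (P : Subgroup G) : P ⊓ centralizer (P : Set G) ≤ WJ P :=
  le_sup_of_le_right (inf_le_inf_left _ (centralizer_le (JJ_le P)))

theorem WJ_cj (g : G) (P : Subgroup G) : WJ (cj g P) = cj g (WJ P) := by
  rw [WJ, WJ, cj_sup, cj_inf, JJ_cj, cj_centralizer]

theorem cj_eq_map (g : G) (P : Subgroup G) : P.map (MulAut.conj g).toMonoidHom = cj g P := rfl

theorem om_le_WJ (P : Subgroup G) : om P ≤ WJ P := by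
  refine le_trans ?_ (cent_le_WJ P)
  intro z hz
  exact ⟨hz.1, mem_centralizer_iff.2 fun s hs => hz.2.2 s hs⟩

theorem isFun : Cfsg.IsConjugacyFunctor 2 (WJ : Subgroup G → Subgroup G) := by
  intro P hP
  refine ⟨WJ_le P, ?_, fun g => WJ_cj g P⟩
  intro hne h
  obtain ⟨z, hz, hz1⟩ := exists_central_inv hP hne
  have := om_le_WJ P hz
  rw [h, mem_bot] at this
  exact hz1 this

theorem norm_WJ {P : Subgroup G} {g : G} (h : g ∈ normalizer (P : Set G)) : g ∈ normalizer (WJ P : Set G) := by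
  rw [← cj_eq_iff] at h ⊢
  rw [← WJ_cj, h]

theorem WJ_congr {P R : Subgroup G} (h1 : WJ P ≤ R) (h2 : R ≤ P) : WJ R = WJ P := by
  have h3 : JJ R = JJ P := JJ_eq_of_le (le_sup_left.trans h1) h2
  rw [WJ, WJ, h3]
  apply le_antisymm
  · exact sup_le_sup_left (inf_le_inf_right _ h2) _
  · refine sup_le_sup_left (le_inf (le_trans ?_ h1) inf_le_right) _
    exact le_sup_right

end functor

variable {p : ℕ} {G : Type u} [Group G] [Finite G]

theorem MC.even (c : MC p G) : 2 ∣ Nat.card G := by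
  rw [← even_iff_two_dvd, ← Nat.not_odd_iff_even]
  intro h
  exact c.ns (Cfsg.Agent.S0205.result h)

theorem syl_ne_bot {S : Subgroup G} (hev : 2 ∣ Nat.card G) (hS : Syl ⊤ S) : S ≠ ⊥ := by
  haveI : Fact (Nat.Prime 2) := ⟨Nat.prime_two⟩
  rintro rfl
  obtain ⟨t, ht⟩ := exists_prime_orderOf_dvd_card' (G := G) 2 hev
  obtain ⟨g, hg⟩ := conj_into hS ht
  rw [mem_bot] at hg
  have : t = 1 := by
    have h2 : t = g * (g⁻¹ * t * g) * g⁻¹ := by group
    rw [h2, hg]; group
  exact (sq_of_order ht).2 this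

/-- no central involution is centralized by the normalizer of a nontrivial weakly closed situation -/
theorem MC.not_wc (c : MC p G) {S : Subgroup G} (hS : Syl ⊤ S) {z : G} (hz : z ∈ om S) (hz1 : z ≠ 1)
    (h : ∀ g : G, g * z * g⁻¹ ∈ S → g * z * g⁻¹ = z) : False := by
  haveI := c.simple
  let P : Sylow 2 G := ⟨S, hS.2.1, fun {R} hR hle => le_antisymm (hS.2.2 R hR hle le_top) hle⟩
  obtain ⟨N, hN, hNodd, hNc⟩ := Cfsg.Agent.S0215.result P z (orderOf_two hz1 hz.2.1) hz.1 h
  rcases hN.eq_bot_or_eq_top with h2 | h2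
  · apply c.cent_ne_top hz1
    rw [eq_top_iff]
    intro g _
    rw [mem_centralizer_singleton_iff]
    have := hNc g
    rw [h2, mem_bot, mul_inv_eq_one, mul_inv_eq_iff_eq_mul] at this
    exact this.symm
  · rw [h2, card_top] at hNodd
    exact (Nat.not_even_iff_odd.2 hNodd) (even_iff_two_dvd.2 c.even)

theorem zpowers_inv_norm {z g : G} (hzz : z * z = 1) (hz1 : z ≠ 1) (h : g * z * g⁻¹ ∈ zpowers z) : g * z * g⁻¹ = z := by
  have h1 : ∀ x ∈ zpowers z, x = 1 ∨ x = z := by
    intro x hx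
    obtain ⟨n, rfl⟩ := mem_zpowers_iff.1 hx
    rcases Int.even_or_odd' n with ⟨k, hk | hk⟩
    · left; rw [hk, zpow_mul, zpow_two, hzz, one_zpow]
    · right; rw [hk, zpow_add, zpow_mul, zpow_two, hzz, one_zpow, one_mul, zpow_one]
  rcases h1 _ h with h2 | h2
  · exfalso; apply hz1
    rw [conj_eq_one_iff] at h2; exact h2
  · exact h2

theorem norm_zpowers_iff {z g : G} (hzz : z * z = 1) (hz1 : z ≠ 1) :
    g ∈ normalizer (zpowers z : Set G) ↔ g * z * g⁻¹ = z := by
  constructor
  · intro h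
    exact zpowers_inv_norm hzz hz1 ((mem_normalizer_iff.1 h z).1 (mem_zpowers z))
  · intro h
    apply mem_normalizer_of_le
    intro x hx
    obtain ⟨n, rfl⟩ := mem_zpowers_iff.1 hx
    rw [← conj_zpow, h]
    exact zpow_mem (mem_zpowers z) n

theorem arith1 {m k a b w v x : ℕ} (h1 : m ^ 2 ≤ k) (h5 : w * b = v * a) (h4 : w ≤ x) (h7 : k * b = v) (h8 : m * a = x)
    (hb : 0 < b) (ha : 0 < a) (hx : 0 < x) : m = 1 := by
  rw [← h7] at h5
  have h9 : w = k * a := by
    apply Nat.eq_of_mul_eq_mul_right hb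
    rw [h5]; ring
  rw [h9, ← h8] at h4
  have h10 : k ≤ m := Nat.le_of_mul_le_mul_right h4 ha
  have h11 : m ^ 2 ≤ m := h1.trans h10
  by_contra hne
  rcases Nat.lt_or_ge m 1 with h | h
  · have hm0 : m = 0 := by omega
    rw [hm0, zero_mul] at h8
    omega
  · have : 2 ≤ m := by omega
    nlinarith

theorem MC.key1 (c : MC p G) {S : Subgroup G} (hS : Syl ⊤ S) {z : G} (hz : z ∈ om S) (hz1 : z ≠ 1) :
    ¬ normalizer ((WJ S : Subgroup G) : Set G) ≤ normalizer (zpowers z : Set G) := by
  haveI : Fact (Nat.Prime 2) := ⟨Nat.prime_two⟩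
  intro hAN
  let P : Sylow 2 G := ⟨S, hS.2.1, fun {R} hR hle => le_antisymm (hS.2.2 R hR hle le_top) hle⟩
  have hzz := hz.2.1
  by_cases hw : Cfsg.IsWeaklyClosed (zpowers z) (P : Subgroup G)
  · apply c.not_wc hS hz hz1
    intro g hg
    have h1 := hw.2 g (by
      rw [cj_eq_map]
      intro x hx
      rw [mem_cj] at hx
      obtain ⟨n, hn⟩ := mem_zpowers_iff.1 hx
      have : x = (g * z * g⁻¹) ^ n := by rw [conj_zpow, hn]; group
      rw [this]; exact zpow_mem hg n)
    apply zpowers_inv_norm hzz hz1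
    rw [← h1, cj_eq_map]
    exact conj_mem_cj (mem_zpowers z)
  · obtain ⟨T, hT1, hT2, hT3, hT4, hT5, g, hg1, hg2, hg3⟩ := Cfsg.Agent.S1968.result P WJ isFun (fun Q _ => cent_le_WJ Q)
      (zpowers z) (by
        rw [zpowers_le]
        exact ⟨hz.1, mem_centralizer_iff.2 fun s hs => hz.2.2 s hs⟩) hAN hw
    have hTS : T ≤ S := hT1.1
    set L := normalizer (T : Set G) with hL
    set R := S ⊓ L with hR
    have hzT : z ∈ T := hT2 (mem_zpowers z)
    have hTR : T ≤ R := le_inf hTS le_normalizer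
    have hzR : ∀ r ∈ R, r * z = z * r := fun r hr => hz.2.2 r hr.1
    have hRs : H28.RelSyl.IsSyl 2 R L := ⟨inf_le_right, hS.2.1.to_le inf_le_left, hT4⟩
    have hT0 : T ≠ ⊥ := by rintro rfl; exact hz1 (mem_bot.1 hzT)
    have hT2g : IsPGroup 2 T := hS.2.1.to_le hTS
    have hLs : Group.IsSolvable L := c.sol_norm hT0 (c.pgroup_ne_top hT2g)
    have hzoT : z ∈ om T := ⟨hzT, hzz, fun s hs => hzR s (hTR hs)⟩
    set V := closure {x | ∃ l ∈ L, x = l * z * l⁻¹} with hV
    have hmemV : ∀ l ∈ L, l * z * l⁻¹ ∈ V := fun l hl => subset_closure ⟨l, hl, rfl⟩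
    have hVo : V ≤ om T := by
      rw [hV, closure_le]
      rintro _ ⟨l, hl, rfl⟩
      have : l ∈ normalizer (om T : Set G) := by
        rw [← cj_eq_iff, ← om_cj, cj_eq_iff.2 hl]
      exact (mem_normalizer_iff.1 this z).1 hzoT
    have hV2 : Ex2 V := (om_ex2 T).mono hVo
    have hLV : L ≤ normalizer (V : Set G) := by
      intro l hl
      apply mem_normalizer_of_le
      intro x hx
      have : V ≤ V.comap (MulAut.conj l).toMonoidHom := by
        conv_lhs => rw [hV]
        rw [closure_le]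
        rintro _ ⟨m, hm, rfl⟩
        show l * (m * z * m⁻¹) * l⁻¹ ∈ V
        have h2 : l * (m * z * m⁻¹) * l⁻¹ = (l * m) * z * (l * m)⁻¹ := by group
        rw [h2]; exact hmemV _ (mul_mem hl hm)
      exact this hx
    have hVT : V ≤ T := hVo.trans fun x hx => hx.1
    have hVR : V ≤ R := hVT.trans hTR
    -- the elementary abelian subgroups of maximal order centralize V
    have hJ : ∀ A, IsA R A → A ≤ centralizer (V : Set G) := by
      intro A hA
      have h1 := strong' (L := L) (V := V) (A := A) (R := R) hV2 hLV hLs (c.s3 hLs) hRs (by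
        intro N hNL hLN hN
        have hNz : ∀ n ∈ N, n * z = z * n := by
          intro n hn
          obtain ⟨r, hr, hnr⟩ := hN n hn
          have h2 := mem_centralizer_iff.1 hnr z (by
            have := hmemV 1 (one_mem _); simpa using this)
          have h3 := hzR r hr
          calc n * z = (n * r⁻¹) * (r * z) := by group
            _ = (n * r⁻¹ * z) * r := by rw [h3]; group
            _ = z * n := by rw [← h2]; group
        rw [le_centralizer_iff, hV, closure_le]
        rintro _ ⟨l, hl, rfl⟩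
        rw [SetLike.mem_coe, mem_centralizer_iff]
        intro n hn
        have h2 := hNz _ ((mem_normalizer_iff.1 (hLN (inv_mem hl)) n).1 hn)
        calc n * (l * z * l⁻¹) = l * ((l⁻¹ * n * l⁻¹⁻¹) * z) * l⁻¹ := by group
          _ = l * z * l⁻¹ * n := by rw [h2]; group) (hA.1.trans inf_le_right) hA.2.1
      set C := centralizer (V : Set G) with hC
      have hVC : V ≤ C := fun x hx => mem_centralizer_iff.2 fun y hy => hV2.comm hy hx
      -- V ⊓ centralizer A = V ⊓ A
      have h2 : V ⊓ centralizer (A : Set G) = V ⊓ A := by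
        apply le_antisymm
        · rintro x ⟨hx1, hx2⟩
          refine ⟨hx1, hA.mem_of_comm (hVR hx1) (hV2 x hx1) ?_⟩
          intro a ha
          first
            | exact mem_centralizer_iff.1 hx2 a ha
            | exact (mem_centralizer_iff.1 hx2 a ha).symm
        · rintro x ⟨hx1, hx2⟩
          exact ⟨hx1, mem_centralizer_iff.2 fun a ha => hA.2.1.comm ha hx2⟩
      rw [h2] at h1
      -- V (A ∩ C) is elementary abelian
      have h3 : Ex2 (V ⊔ (A ⊓ C)) := by
        apply ex2_sup hV2 (hA.2.1.mono inf_le_left)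
        intro v hv b hb
        exact mem_centralizer_iff.1 hb.2 v hv
      have h4 : Nat.card (V ⊔ (A ⊓ C) : Subgroup G) ≤ Nat.card A := hA.2.2 _ (sup_le hVR (inf_le_left.trans hA.1)) h3
      have h5 := H28.RelHall.card_sup_mul_card_inf (H := V) (N := A ⊓ C) (by
        intro v hv
        apply mem_normalizer_of_le
        intro x hx
        have : v * x = x * v := mem_centralizer_iff.1 hx.2 v hv
        rw [this, mul_inv_cancel_right]; exact hx)
      have h6 : V ⊓ (A ⊓ C) = V ⊓ A := by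
        rw [← inf_assoc]; exact inf_eq_left.2 (inf_le_left.trans hVC)
      rw [h6] at h5
      have h7 : (V ⊓ A).relIndex V * Nat.card (V ⊓ A : Subgroup G) = Nat.card V :=
        H28.RelSyl.relIndex_mul_card inf_le_left
      have h8 : (A ⊓ C).relIndex A * Nat.card (A ⊓ C : Subgroup G) = Nat.card A :=
        H28.RelSyl.relIndex_mul_card inf_le_left
      have hb : 0 < Nat.card (V ⊓ A : Subgroup G) := Nat.card_pos
      have ha : 0 < Nat.card (A ⊓ C : Subgroup G) := Nat.card_pos
      have h12 := arith1 h1 h5 h4 h7 h8 hb ha Nat.card_pos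
      exact (relIndex_eq_one.1 h12).trans inf_le_right
    have hJC : JJ R ≤ centralizer (V : Set G) := sSup_le fun A hA => hJ A hA
    have hVJ : V ≤ JJ R := by
      obtain ⟨A, hA⟩ := exists_isA R
      refine le_trans ?_ hA.le_JJ
      intro v hv
      exact hA.mem_of_comm (hVR hv) (hV2 v hv) fun a ha => mem_centralizer_iff.1 (hJ A hA ha) v hv
    have hWC : WJ R ≤ R ⊓ centralizer (V : Set G) := by
      apply le_inf (WJ_le R)
      exact sup_le hJC (inf_le_right.trans (centralizer_le hVJ))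
    have hWR : WJ (R ⊓ centralizer (V : Set G)) = WJ R := WJ_congr hWC inf_le_left
    -- Frattini
    have hVn : L ≤ normalizer ((L ⊓ centralizer (V : Set G) : Subgroup G) : Set G) := by
      intro l hl
      apply mem_normalizer_of_le
      rintro x ⟨hx1, hx2⟩
      refine ⟨L.mul_mem (L.mul_mem hl hx1) (L.inv_mem hl), mem_centralizer_iff.2 fun v hv => ?_⟩
      have h2 := mem_centralizer_iff.1 hx2 _ ((mem_normalizer_iff.1 (hLV (inv_mem hl)) v).1 hv)
      calc v * (l * x * l⁻¹) = l * ((l⁻¹ * v * l⁻¹⁻¹) * x) * l⁻¹ := by group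
        _ = l * x * l⁻¹ * v := by rw [h2]; group
    have h1 := hRs.inf_normal hVn inf_le_left
    obtain ⟨k, hk, m, hm, hgkm⟩ := h1.frattini hVn hg1
    have h2 : R ⊓ (L ⊓ centralizer (V : Set G)) = R ⊓ centralizer (V : Set G) := by
      rw [← inf_assoc, inf_eq_left.2 (inf_le_right : R ≤ L)]
    rw [h2] at hm
    have h3 := norm_WJ hm
    rw [hWR] at h3
    have h4 := hT3 h3
    rw [norm_zpowers_iff hzz hz1] at h4
    apply hg3
    rw [cj_eq_map, cj_eq_iff, norm_zpowers_iff hzz hz1, hgkm]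
    have h5 := mem_centralizer_iff.1 hk.2 z (by have := hmemV 1 (one_mem _); simpa using this)
    calc k * m * z * (k * m)⁻¹ = k * (m * z * m⁻¹) * k⁻¹ := by group
      _ = z := by rw [h4, ← h5]; group

theorem relIndex_le {N : Subgroup G} {z : G} (E : Set G) (h : ∀ n ∈ N, n * z * n⁻¹ ∈ E) :
    (N ⊓ centralizer ({z} : Set G)).relIndex N ≤ E.ncard := by
  let C := (N ⊓ centralizer ({z} : Set G)).subgroupOf N
  have hrel : ∀ a b : N, a⁻¹ * b ∈ C ↔ (a : G) * z * (a : G)⁻¹ = b * z * (b : G)⁻¹ := by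
    intro a b
    rw [mem_subgroupOf, mem_inf, mem_centralizer_singleton_iff]
    constructor
    · rintro ⟨-, h1⟩
      have h2 : ((a : G)⁻¹ * b) * z = z * ((a : G)⁻¹ * b) := h1
      calc (a : G) * z * (a : G)⁻¹ = a * (z * ((a : G)⁻¹ * b)) * (b : G)⁻¹ := by group
        _ = b * z * (b : G)⁻¹ := by rw [← h2]; group
    · intro h1
      refine ⟨(a⁻¹ * b).2, ?_⟩
      show ((a : G)⁻¹ * b) * z = z * ((a : G)⁻¹ * b)
      calc ((a : G)⁻¹ * b) * z = (a : G)⁻¹ * (b * z * (b : G)⁻¹) * b := by group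
        _ = z * ((a : G)⁻¹ * b) := by rw [← h1]; group
  let f : N ⧸ C → E := Quotient.lift (fun n : N => (⟨n * z * (n : G)⁻¹, h n n.2⟩ : E)) (by
    intro a b hab
    have h1 : a⁻¹ * b ∈ C := QuotientGroup.leftRel_apply.1 hab
    exact Subtype.ext ((hrel a b).1 h1))
  have hf : Function.Injective f := by
    intro x y
    induction x using QuotientGroup.induction_on with
    | H a =>
    induction y using QuotientGroup.induction_on with
    | H b =>
    intro hxy
    rw [QuotientGroup.eq]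
    exact (hrel a b).2 (congrArg Subtype.val hxy)
  have := Nat.card_le_card_of_injective f hf
  rw [Nat.card_coe_set_eq] at this
  exact this

theorem MC.exists_E (c : MC p G) {S : Subgroup G} (hS : Syl ⊤ S) :
    ∃ E : Subgroup G, Ex2 E ∧ 2 ^ 3 ≤ Nat.card E ∧ E ≤ S ∧ S ≤ normalizer (E : Set G) := by
  haveI : Fact (Nat.Prime 2) := ⟨Nat.prime_two⟩
  haveI : Fact (Nat.Prime 3) := ⟨Nat.prime_three⟩
  obtain ⟨z, hz, hz1⟩ := exists_central_inv hS.2.1 (syl_ne_bot c.even hS)
  have hzz := hz.2.1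
  have hk := c.key1 hS hz hz1
  set N := normalizer ((WJ S : Subgroup G) : Set G) with hN
  rw [SetLike.not_le_iff_exists] at hk
  obtain ⟨n, hn, hnz⟩ := hk
  rw [norm_zpowers_iff hzz hz1] at hnz
  have hSN : S ≤ N := fun s hs => norm_WJ (le_normalizer hs)
  have hzo : z ∈ om (WJ S) := ⟨om_le_WJ S hz, hzz, fun s hs => hz.2.2 s (WJ_le S hs)⟩
  set E := closure {x | ∃ l ∈ N, x = l * z * l⁻¹} with hE
  have hmemE : ∀ l ∈ N, l * z * l⁻¹ ∈ E := fun l hl => subset_closure ⟨l, hl, rfl⟩
  have hEo : E ≤ om (WJ S) := by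
    rw [hE, closure_le]
    rintro _ ⟨l, hl, rfl⟩
    have : l ∈ normalizer (om (WJ S) : Set G) := by
      rw [← cj_eq_iff, ← om_cj, cj_eq_iff.2 hl]
    exact (mem_normalizer_iff.1 this z).1 hzo
  have hE2 : Ex2 E := (om_ex2 _).mono hEo
  have hNE : N ≤ normalizer (E : Set G) := by
    intro l hl
    apply mem_normalizer_of_le
    intro x hx
    have : E ≤ E.comap (MulAut.conj l).toMonoidHom := by
      conv_lhs => rw [hE]
      rw [closure_le]
      rintro _ ⟨m, hm, rfl⟩
      show l * (m * z * m⁻¹) * l⁻¹ ∈ E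
      have h2 : l * (m * z * m⁻¹) * l⁻¹ = (l * m) * z * (l * m)⁻¹ := by group
      rw [h2]; exact hmemE _ (N.mul_mem hl hm)
    exact this hx
  refine ⟨E, hE2, ?_, hEo.trans (fun x hx => WJ_le S hx.1), hSN.trans hNE⟩
  by_contra hlt
  obtain ⟨k, hk⟩ := IsPGroup.iff_card.1 hE2.isPGroup
  have hk2 : k ≤ 2 := by
    by_contra hcon
    apply hlt
    rw [hk]
    exact Nat.pow_le_pow_right (by norm_num) (by omega)
  have h4 : Nat.card E ≤ 4 := by
    rw [hk]
    exact Nat.pow_le_pow_right (n := 2) (by norm_num) hk2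
  set C := N ⊓ centralizer ({z} : Set G) with hC
  have hle : C.relIndex N ≤ 3 := by
    refine (relIndex_le ((E : Set G) \ {1}) ?_).trans ?_
    · intro l hl
      refine ⟨hmemE l hl, ?_⟩
      rw [Set.mem_singleton_iff, conj_eq_one_iff]
      exact hz1
    · rw [Set.ncard_diff_singleton_of_mem (one_mem E)]
      have : (E : Set G).ncard = Nat.card E := rfl
      rw [this]; omega
  have hSC : S ≤ C := le_inf hSN fun s hs => mem_centralizer_singleton_iff.2 (hz.2.2 s hs)
  have hodd : ¬ 2 ∣ C.relIndex N := by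
    intro hd
    let P : Sylow 2 G := ⟨S, hS.2.1, fun {R} hR hle => le_antisymm (hS.2.2 R hR hle le_top) hle⟩
    apply P.not_dvd_index
    have h1 : C.relIndex N ∣ S.relIndex N := relIndex_dvd_of_le_left N hSC
    have h2 : S.relIndex N ∣ S.index := relIndex_dvd_index_of_le hSN
    exact hd.trans (h1.trans h2)
  have hne : C.relIndex N ≠ 1 := by
    intro h1
    have := mem_centralizer_singleton_iff.1 (relIndex_eq_one.1 h1 hn).2
    apply hnz
    rw [this]; group
  have h3 : C.relIndex N = 3 := by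
    have h0 : C.relIndex N ≠ 0 := by
      intro h0
      apply hodd; rw [h0]; exact dvd_zero 2
    omega
  obtain ⟨Q, hQ⟩ := H28.RelSyl.exists_isSyl 3 N
  have hQC : ¬ Q ≤ C := by
    intro hle
    apply hQ.not_dvd
    rw [← h3]
    exact relIndex_dvd_of_le_left N hle
  rw [SetLike.not_le_iff_exists] at hQC
  obtain ⟨x, hxQ, hxC⟩ := hQC
  obtain ⟨j, hj⟩ := (IsPGroup.iff_orderOf.mp hQ.isPGroup) ⟨x, hxQ⟩
  rw [Subgroup.orderOf_mk] at hj
  have h5 := c.comm_of_norm hE2.isPGroup (b := x) (hNE (hQ.le hxQ)) (by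
    rw [hj]; exact Nat.Coprime.pow_left j (by norm_num)) (by
    rw [hj]; exact Nat.Coprime.pow_left j ((Nat.coprime_primes Nat.prime_three c.hp).2 (by have := c.hp3; omega)))
    z (by have := hmemE 1 (one_mem _); simpa using this)
  apply hxC
  exact ⟨hQ.le hxQ, mem_centralizer_singleton_iff.2 h5.symm⟩

end H55.SN
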