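import Cfsg.Agent.Lib.H55.SN3
import Cfsg.Agent.S3756

set_option autoImplicit false
set_option linter.unusedSimpArgs false
set_option linter.unusedSectionVars false

/-! Existence of a strongly embedded subgroup. -/

namespace H55.SN

open Subgroup H55.ZN H55.ZC H27 H27.EquivSig

universe u

theorem frattini_core2 {X : Type*} [Group X] [Finite X] (hs : Group.IsSolvable X) {P : Subgroup X} (hP : Syl ⊤ P)
    {t : X} (htc : ∀ x : X, t * x = x * t) (htt : t * t = 1) :
    ∃ Q : Subgroup X, Q ≤ P ∧ P ≤ normalizer (Q : Set X) ∧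
      (∀ y ∈ P, (∀ q ∈ Q, y * q * y⁻¹ * q⁻¹ = 1 ∨ y * q * y⁻¹ * q⁻¹ = t) → y ∈ Q) ∧
      ∀ x : X, ∃ k ∈ Cfsg.pPrimeCore 2 X, ∃ n ∈ normalizer (Q : Set X), x = k * n := by
  haveI : Fact (Nat.Prime 2) := ⟨Nat.prime_two⟩
  set N := Cfsg.pPrimeCore 2 X with hN
  haveI : N.Normal := inferInstance
  set π := QuotientGroup.mk' N with hπ
  set K := (Cfsg.pCore 2 (X ⧸ N)).comap π with hK
  haveI hKn : K.Normal := Subgroup.Normal.comap inferInstance π
  have hNK : N ≤ K := by
    intro n hn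
    rw [hK, mem_comap]
    have : π n = 1 := (QuotientGroup.eq_one_iff n).2 hn
    rw [this]; exact one_mem _
  -- the Sylow subgroup
  let S : Sylow 2 X := ⟨P, hP.2.1, fun {R} hR hle => le_antisymm (hP.2.2 R hR hle le_top) hle⟩
  have hKP : ∀ k ∈ K, ∃ q ∈ P ⊓ K, ∃ n ∈ N, k = n * q := by
    intro k hk
    have h1 : Cfsg.pCore 2 (X ⧸ N) ≤ ((S.mapSurjective (QuotientGroup.mk'_surjective N) : Sylow 2 (X ⧸ N)) : Subgroup (X ⧸ N)) :=
      H1.Cores.pCore_le_sylow _
    have h2 := h1 hk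
    rw [Sylow.coe_mapSurjective] at h2
    obtain ⟨q, hq, hqk⟩ := h2
    have h3 : k * q⁻¹ ∈ N := by
      rw [← QuotientGroup.eq_one_iff]
      have : π (k * q⁻¹) = 1 := by
        rw [map_mul, map_inv]
        have : π q = π k := hqk
        rw [this, mul_inv_cancel]
      exact this
    have hqK : q ∈ K := by
      have : q = (k * q⁻¹)⁻¹ * k := by group
      rw [this]; exact K.mul_mem (K.inv_mem (hNK h3)) hk
    exact ⟨q, ⟨hq, hqK⟩, k * q⁻¹, h3, by group⟩
  refine ⟨P ⊓ K, inf_le_left, ?_, ?_, ?_⟩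
  · intro y hy
    apply mem_normalizer_of_le
    rintro x ⟨hx1, hx2⟩
    exact ⟨P.mul_mem (P.mul_mem hy hx1) (P.inv_mem hy), hKn.conj_mem x hx2 y⟩
  · intro y hy hc
    refine ⟨hy, ?_⟩
    show π y ∈ Cfsg.pCore 2 (X ⧸ N)
    have hcc := H26.SolvBal.centralizer_pCore_quotient_le_of_isSolvable (p := 2) hs
    have hs' : ∀ x : X ⧸ N, π t * x = x * π t := by
      intro x
      obtain ⟨x, rfl⟩ := QuotientGroup.mk'_surjective N x
      show π t * π x = π x * π t
      rw [← map_mul, htc, map_mul]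
    have hss : π t * π t = 1 := by rw [← map_mul, htt, map_one]
    have hQn : (Cfsg.pCore 2 (X ⧸ N)).Normal := inferInstance
    -- the subgroup stabilizing the chain
    let D : Subgroup (X ⧸ N) :=
      { carrier := {x | ∀ q ∈ Cfsg.pCore 2 (X ⧸ N), x * q * x⁻¹ * q⁻¹ = 1 ∨ x * q * x⁻¹ * q⁻¹ = π t}
        one_mem' := fun q _ => by left; group
        mul_mem' := by
          intro a b ha hb q hq
          have e : a * b * q * (a * b)⁻¹ * q⁻¹ = (a * (b * q * b⁻¹ * q⁻¹) * a⁻¹) * (a * q * a⁻¹ * q⁻¹) := by group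
          rw [e]
          rcases hb q hq with h1 | h1 <;> rcases ha q hq with h2 | h2 <;> rw [h1, h2]
          · left; group
          · right; group
          · right; rw [← hs' a]; group
          · left; rw [← hs' a, mul_inv_cancel_right, hss]
        inv_mem' := by
          intro a ha q hq
          have hq' : a⁻¹ * q * a⁻¹⁻¹ ∈ Cfsg.pCore 2 (X ⧸ N) := hQn.conj_mem q hq a⁻¹
          have e : a⁻¹ * q * a⁻¹⁻¹ * q⁻¹ = (a * (a⁻¹ * q * a⁻¹⁻¹) * a⁻¹ * (a⁻¹ * q * a⁻¹⁻¹)⁻¹)⁻¹ := by group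
          rw [e]
          rcases ha _ hq' with h1 | h1 <;> rw [h1]
          · left; group
          · right; rw [inv_eq_iff_mul_eq_one]; exact hss }
    have hDn : D.Normal := by
      constructor
      intro x hx g q hq
      have hq' : g⁻¹ * q * g⁻¹⁻¹ ∈ Cfsg.pCore 2 (X ⧸ N) := hQn.conj_mem q hq g⁻¹
      have e : (g * x * g⁻¹) * q * (g * x * g⁻¹)⁻¹ * q⁻¹ =
          g * (x * (g⁻¹ * q * g⁻¹⁻¹) * x⁻¹ * (g⁻¹ * q * g⁻¹⁻¹)⁻¹) * g⁻¹ := by group
      rw [e]
      rcases hx _ hq' with h1 | h1 <;> rw [h1]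
      · left; group
      · right; rw [← hs' g]; group
    have hDodd : ∀ x ∈ D, Odd (orderOf x) → x = 1 := by
      intro x hx hodd
      have hxc : x ∈ centralizer (Cfsg.pCore 2 (X ⧸ N) : Set (X ⧸ N)) := by
        rw [mem_centralizer_iff]
        intro q hq
        rcases hx q hq with h1 | h1
        · rw [mul_inv_eq_one, mul_inv_eq_iff_eq_mul] at h1; exact h1.symm
        · have h2 : ∀ n : ℕ, x ^ n * q * (x ^ n)⁻¹ = (π t) ^ n * q := by
            intro n
            induction n with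
            | zero => simp
            | succ n ih =>
              have h3 : x * q * x⁻¹ = π t * q := by rw [← h1]; group
              have h4 : x * (π t) ^ n = (π t) ^ n * x := ((show Commute (π t) x from hs' x).pow_left n).symm.eq
              calc x ^ (n + 1) * q * (x ^ (n + 1))⁻¹ = x * (x ^ n * q * (x ^ n)⁻¹) * x⁻¹ := by
                    rw [pow_succ']; group
                _ = (x * (π t) ^ n) * q * x⁻¹ := by rw [ih]; group
                _ = (π t) ^ n * (x * q * x⁻¹) := by rw [h4]; group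
                _ = (π t) ^ (n + 1) * q := by rw [h3, pow_succ]; group
          have h3 := h2 (orderOf x)
          rw [pow_orderOf_eq_one, one_mul, inv_one, mul_one] at h3
          obtain ⟨r, hr⟩ := hodd
          have h4 : (π t) ^ orderOf x = π t := by
            rw [hr, pow_succ, pow_mul, pow_two, hss, one_pow, one_mul]
          rw [h4] at h3
          have h5 : π t = 1 := (mul_eq_right.1 h3.symm)
          rw [h5, mul_inv_eq_one, mul_inv_eq_iff_eq_mul] at h1
          exact h1.symm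
      have hxQ := hcc hxc
      obtain ⟨k, hk⟩ := (H1.Cores.isPGroup_pCore (G := X ⧸ N) 2) ⟨x, hxQ⟩
      have hk' : x ^ 2 ^ k = 1 := congrArg Subtype.val hk
      have h1 : orderOf x ∣ 2 ^ k := orderOf_dvd_of_pow_eq_one hk'
      have h2 : (orderOf x).Coprime (2 ^ k) := (Nat.coprime_two_right.2 hodd).pow_right k
      exact orderOf_eq_one_iff.1 (Nat.Coprime.eq_one_of_dvd h2 h1)
    have hD2 : IsPGroup 2 D := by
      rintro ⟨x, hx⟩
      obtain ⟨k, m, hm, hkm⟩ := Nat.exists_eq_two_pow_mul_odd (orderOf_pos x).ne'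
      refine ⟨k, Subtype.ext ?_⟩
      show x ^ 2 ^ k = 1
      apply hDodd _ (D.pow_mem hx _)
      rw [orderOf_pow' x (pow_pos (by norm_num) k).ne', hkm, Nat.gcd_comm,
        Nat.gcd_eq_left (Dvd.intro m rfl), Nat.mul_div_cancel_left _ (pow_pos (by norm_num) k)]
      exact hm
    apply H1.Cores.le_pCore hDn hD2
    intro w hw
    obtain ⟨k, rfl⟩ := QuotientGroup.mk'_surjective N w
    obtain ⟨q, hq, n, hn, rfl⟩ := hKP k hw
    have h1 : π (n * q) = π q := by
      rw [map_mul]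
      have : π n = 1 := (QuotientGroup.eq_one_iff n).2 hn
      rw [this, one_mul]
    show π y * π (n * q) * (π y)⁻¹ * (π (n * q))⁻¹ = 1 ∨ π y * π (n * q) * (π y)⁻¹ * (π (n * q))⁻¹ = π t
    rw [h1, ← map_inv, ← map_inv, ← map_mul, ← map_mul, ← map_mul]
    rcases hc q hq with h2 | h2 <;> rw [h2]
    · left; exact map_one π
    · right; rfl
  · intro x
    have hsyl : Syl K (P ⊓ K) := by
      refine ⟨inf_le_right, hP.2.1.to_le inf_le_left, fun R hR hle hRK => ?_⟩
      obtain ⟨k, -, hk⟩ := hP.conj hR le_top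
      have h1 : R ≤ cj k (P ⊓ K) := by
        rw [cj_inf]
        apply le_inf hk
        have : cj k K = K := cj_eq_iff.2 (by rw [normalizer_eq_top]; exact mem_top k)
        rw [this]; exact hRK
      have h2 : Nat.card R ≤ Nat.card (P ⊓ K : Subgroup X) := by
        rw [← card_cj k (P ⊓ K)]
        exact Nat.le_of_dvd Nat.card_pos (card_dvd_of_le h1)
      exact (Subgroup.eq_of_le_of_card_ge hle h2).ge
    have h1 : cj x (P ⊓ K) ≤ K := by
      have : cj x K = K := cj_eq_iff.2 (by rw [normalizer_eq_top]; exact mem_top x)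
      calc cj x (P ⊓ K) ≤ cj x K := cj_mono inf_le_right
        _ = K := this
    obtain ⟨k, hk, hle⟩ := hsyl.conj (cj_isPGroup hsyl.2.1) h1
    have h2 : cj x (P ⊓ K) = cj k (P ⊓ K) := by
      apply Subgroup.eq_of_le_of_card_ge hle
      rw [card_cj, card_cj]
    obtain ⟨q, hq, n, hn, rfl⟩ := hKP k hk
    refine ⟨n, hn, n⁻¹ * x, ?_, by group⟩
    rw [← cj_eq_iff, cj_mul, h2, ← cj_mul]
    have : n⁻¹ * (n * q) = q := by group
    rw [this, cj_eq_iff]
    exact le_normalizer hq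


variable {p : ℕ} {G : Type u} [Group G] [Finite G]

theorem frattini_cent2 (hC : HC G) {t : G} (ht : orderOf t = 2) {P : Subgroup G} (hP : Syl (centralizer ({t} : Set G)) P) :
    ∃ Q : Subgroup G, Q ≤ P ∧ P ≤ normalizer (Q : Set G) ∧
      (∀ y ∈ P, (∀ q ∈ Q, y * q * y⁻¹ * q⁻¹ = 1 ∨ y * q * y⁻¹ * q⁻¹ = t) → y ∈ Q) ∧
      ∀ x ∈ centralizer ({t} : Set G), ∃ k ∈ th t, ∃ n ∈ normalizer (Q : Set G), x = k * n := by
  set X := centralizer ({t} : Set G) with hX
  have hsyl : Syl (⊤ : Subgroup X) (P.subgroupOf X) := by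
    refine ⟨le_top, hP.2.1.comap_subtype, fun R hR hle _ x hx => ?_⟩
    have h1 : R.map X.subtype ≤ P := by
      apply hP.2.2 _ (hR.map _)
      · intro y hy
        exact ⟨⟨y, hP.1 hy⟩, hle (mem_subgroupOf.2 hy), rfl⟩
      · rintro _ ⟨y, -, rfl⟩; exact y.2
    exact mem_subgroupOf.2 (h1 ⟨x, hx, rfl⟩)
  have htX : t ∈ X := mem_centralizer_singleton_iff.2 rfl
  obtain ⟨Q, hQP, h0, h1, h2⟩ := frattini_core2 (hC t ht) hsyl (t := ⟨t, htX⟩)
    (fun x => Subtype.ext (mem_centralizer_singleton_iff.1 x.2).symm) (Subtype.ext (sq_of_order ht).1)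
  refine ⟨Q.map X.subtype, ?_, ?_, ?_, ?_⟩
  · rintro _ ⟨q, hq, rfl⟩
    exact mem_subgroupOf.1 (hQP hq)
  · intro y hy
    apply mem_normalizer_of_le
    rintro _ ⟨q, hq, rfl⟩
    exact ⟨⟨y, hP.1 hy⟩ * q * ⟨y, hP.1 hy⟩⁻¹, (mem_normalizer_iff.1 (h0 (mem_subgroupOf.2 hy : (⟨y, hP.1 hy⟩ : X) ∈ _)) _).1 hq, rfl⟩
  · intro y hy hc
    refine ⟨⟨y, hP.1 hy⟩, h1 _ (mem_subgroupOf.2 hy) ?_, rfl⟩
    intro q hq
    rcases hc q ⟨q, hq, rfl⟩ with h3 | h3
    · left; exact Subtype.ext h3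
    · right; exact Subtype.ext h3
  · intro x hx
    obtain ⟨k, hk, n, hn, hkn⟩ := h2 ⟨x, hx⟩
    refine ⟨k, ⟨k, hk, rfl⟩, n, ?_, congrArg Subtype.val hkn⟩
    apply mem_normalizer_of_le
    rintro _ ⟨q, hq, rfl⟩
    exact ⟨n * q * n⁻¹, (mem_normalizer_iff.1 hn _).1 hq, rfl⟩

theorem MC.hpow (c : MC p G) {b z : G} (hb : IsPGroup 2 (zpowers b)) (hz : z ∈ zpowers b) (hz1 : z ≠ 1) :
    th b ≤ th z := by
  haveI : Fact (Nat.Prime 2) := ⟨Nat.prime_two⟩
  set H := centralizer ({z} : Set G) with hH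
  have hbH : centralizer ({b} : Set G) ≤ H := by
    intro x hx
    rw [mem_centralizer_singleton_iff] at hx
    obtain ⟨n, rfl⟩ := mem_zpowers_iff.1 hz
    rw [hH, mem_centralizer_singleton_iff]
    exact ((show Commute x b from hx).zpow_right n).eq
  have hbb : b ∈ H := hbH (mem_centralizer_singleton_iff.2 rfl)
  set X := th b with hXd
  have hXb : X ≤ centralizer ({b} : Set G) := th_le b
  have hXH : X ≤ H := hXb.trans hbH
  have h1 : (X.subgroupOf H) ≤ Cfsg.pPrimeCore 2 H := by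
    apply H26.SolvBal.le_pPrimeCore_of_isSolvable (c.sol_cent hz1) (P := (zpowers b).subgroupOf H)
    · exact hb.comap_subtype
    · rw [H1.SZ.card_subgroupOf_of_le hXH]; exact th_coprime b
    · intro x hx
      rw [mem_centralizer_iff]
      intro y hy
      obtain ⟨n, hn⟩ := mem_zpowers_iff.1 (mem_subgroupOf.1 hy)
      apply Subtype.ext
      show (y : G) * x = x * y
      rw [← hn]
      exact ((show Commute (x : G) b from mem_centralizer_singleton_iff.1 (hXb (mem_subgroupOf.1 hx))).zpow_right n).symm.eq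
    · apply H1.Coprime.le_normalizer_of_conj_mem
      intro c' hc x hx
      rw [mem_subgroupOf] at hx ⊢
      have hcP : (c' : G) ∈ centralizer ({b} : Set G) := by
        rw [mem_centralizer_singleton_iff]
        exact (congrArg Subtype.val (mem_centralizer_iff.1 hc ⟨b, hbb⟩ (mem_subgroupOf.2 (mem_zpowers b)))).symm
      exact (mem_normalizer_iff.1 (th_norm b hcP) _).1 hx
  intro x hx
  exact ⟨⟨x, hXH hx⟩, h1 (mem_subgroupOf.2 hx), rfl⟩

theorem not_rank {B F : Subgroup G} (hF : Ex2 F) (hF4 : 4 ≤ Nat.card F) (hFB : F ≤ B) : ¬ Cfsg.PRankLE 2 1 B := by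
  intro h
  have h1 := h (F.subgroupOf B) ⟨⟨fun x y => Subtype.ext (Subtype.ext (hF.comm (mem_subgroupOf.1 x.2) (mem_subgroupOf.1 y.2)))⟩⟩
    (fun a ha => Subtype.ext (by
      show (a : G) ^ 2 = 1
      rw [pow_two]; exact hF a (mem_subgroupOf.1 ha)))
  rw [H1.SZ.card_subgroupOf_of_le hFB] at h1
  omega

/-- the core functor -/
theorem W_cj_le (g : G) (F : Subgroup G) : W (fun a : G => th a) (cj g F) ≤ cj g (W (fun a : G => th a) F) := by
  apply W_le
  intro a ha ha1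
  have h1 : g⁻¹ * a * g ∈ F := mem_cj.1 ha
  have h2 : a = g * (g⁻¹ * a * g) * g⁻¹ := by group
  show th a ≤ _
  rw [h2, th_conj]
  apply cj_mono
  apply le_W (θ := fun a : G => th a) h1
  intro h
  apply ha1
  rw [h2, h]; group

theorem MC.Weq (c : MC p G) {S E : Subgroup G} (hS : Syl ⊤ S) (hE : Ex2 E) (hE8 : 2 ^ 3 ≤ Nat.card E)
    (hSE : S ≤ normalizer (E : Set G)) {F : Subgroup G} (hF : Ex2 F) (hF4 : 4 ≤ Nat.card F) (hFS : F ≤ S) :
    W (fun a : G => th a) E = W (fun a : G => th a) F :=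
  H55.CoreGen.main hS.2.1 (sig c.hc) (fun _ _ hb hz hz1 => c.hpow hb hz hz1) (ex2_iff.1 hE) hE8 hSE hFS (not_rank hF hF4 le_rfl)

theorem MC.four (c : MC p G) {S E : Subgroup G} (hS : Syl ⊤ S) (hE : Ex2 E) (hE8 : 2 ^ 3 ≤ Nat.card E)
    (hSE : S ≤ normalizer (E : Set G)) {F : Subgroup G} (hF : Ex2 F) (hF4 : 4 ≤ Nat.card F) (hFS : F ≤ S)
    {g : G} (hg : cj g F ≤ S) : g ∈ normalizer (W (fun a : G => th a) E : Set G) := by
  have h1 := c.Weq hS hE hE8 hSE hF hF4 hFS
  have h2 := c.Weq hS hE hE8 hSE (hF.cj g) (by rw [card_cj]; exact hF4) hg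
  have h3 := W_cj_le g F
  rw [← h2, ← h1] at h3
  rw [← cj_eq_iff]
  exact (Subgroup.eq_of_le_of_card_ge h3 (card_cj _ _).le).symm

theorem MC.th_le_W (c : MC p G) {S E : Subgroup G} (hS : Syl ⊤ S) (hE : Ex2 E) (hE8 : 2 ^ 3 ≤ Nat.card E)
    (hSE : S ≤ normalizer (E : Set G)) (hES : E ≤ S) {t : G} (htS : t ∈ S) (ht : orderOf t = 2) :
    th t ≤ W (fun a : G => th a) E := by
  obtain ⟨F, hF, htF, -, h4, h8⟩ := H55.CoreGen.centralizer_elem (ex2_iff.1 hE) (b := t)
    (by rw [pow_two]; exact (sq_of_order ht).1) (hSE htS) hE8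
  set B := E ⊓ centralizer ({t} : Set G) with hB
  have hBS : Ex2 (B ⊔ zpowers t) := by
    apply ex2_sup (hE.mono inf_le_left) (ex2_zpowers (sq_of_order ht).1)
    intro b hb y hy
    obtain ⟨j, rfl⟩ := mem_zpowers_iff.1 hy
    exact ((show Commute b t from mem_centralizer_singleton_iff.1 hb.2).zpow_right j).eq
  rw [c.Weq hS hE hE8 hSE hBS (le_trans h4 (Nat.le_of_dvd Nat.card_pos (card_dvd_of_le le_sup_left)))
    (sup_le (inf_le_left.trans hES) (zpowers_le.2 htS))]
  exact le_W (θ := fun a : G => th a) (mem_sup_right (mem_zpowers t)) (sq_of_order ht).2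

theorem MC.cent_le (c : MC p G) {S E : Subgroup G} (hS : Syl ⊤ S) (hE : Ex2 E) (hE8 : 2 ^ 3 ≤ Nat.card E)
    (hSE : S ≤ normalizer (E : Set G)) (hES : E ≤ S) {t : G} (htS : t ∈ S) (ht : orderOf t = 2) :
    centralizer ({t} : Set G) ≤ normalizer (W (fun a : G => th a) E : Set G) := by
  haveI : Fact (Nat.Prime 2) := ⟨Nat.prime_two⟩
  set Θ := W (fun a : G => th a) E with hΘ
  set X := centralizer ({t} : Set G) with hX
  have htt := (sq_of_order ht).1
  obtain ⟨P, hP, hSP⟩ := Syl.exists (K := X) (R := S ⊓ X) (hS.2.1.to_le inf_le_left) inf_le_right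
  obtain ⟨x, -, hx⟩ := hS.conj hP.2.1 le_top
  have h4 : ∀ t' ∈ S, orderOf t' = 2 → 4 ≤ Nat.card (E ⊓ centralizer ({t'} : Set G) : Subgroup G) := by
    intro t' ht' ho
    obtain ⟨F, hF, htF, -, h4, h8⟩ := H55.CoreGen.centralizer_elem (ex2_iff.1 hE) (b := t')
      (by rw [pow_two]; exact (sq_of_order ho).1) (hSE ht') hE8
    exact h4
  have hAP : E ⊓ X ≤ P := le_trans (inf_le_inf_right _ hES) hSP
  have hxM : x ∈ normalizer (Θ : Set G) := by
    have h1 : x⁻¹ ∈ normalizer (Θ : Set G) := by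
      apply c.four hS hE hE8 hSE (hE.mono inf_le_left) (h4 t htS ht) (inf_le_left.trans hES)
      rw [← le_cj_iff]; exact hAP.trans hx
    rw [← inv_inv x]; exact inv_mem h1
  have htP : t ∈ P := hSP ⟨htS, mem_centralizer_singleton_iff.2 rfl⟩
  have htP' : x⁻¹ * t * x ∈ S := mem_cj.1 (hx htP)
  set A := cj x E ⊓ X with hA
  have hA2 : Ex2 A := (hE.cj x).mono inf_le_left
  have hA4 : 4 ≤ Nat.card A := by
    have h1 := h4 _ htP' (by rw [orderOf_cj']; exact ht)
    rw [← card_cj x] at h1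
    refine h1.trans (Nat.le_of_dvd Nat.card_pos (card_dvd_of_le ?_))
    rw [cj_inf]
    refine inf_le_inf_left _ ?_
    intro y hy
    rw [mem_cj, mem_centralizer_singleton_iff] at hy
    rw [hX, mem_centralizer_singleton_iff]
    calc y * t = x * ((x⁻¹ * y * x) * (x⁻¹ * t * x)) * x⁻¹ := by group
      _ = t * y := by rw [hy]; group
  have hPA : P ≤ normalizer (A : Set G) := by
    intro y hy
    apply mem_normalizer_of_le
    rintro a ⟨ha1, ha2⟩
    refine ⟨?_, X.mul_mem (X.mul_mem (hP.1 hy) ha2) (X.inv_mem (hP.1 hy))⟩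
    have h1 := hSE (mem_cj.1 (hx hy))
    have h2 := (mem_normalizer_iff.1 h1 _).1 (mem_cj.1 ha1)
    have : x⁻¹ * (y * a * y⁻¹) * x = x⁻¹ * y * x * (x⁻¹ * a * x) * (x⁻¹ * y * x)⁻¹ := by group
    exact mem_cj.2 (by rw [this]; exact h2)
  have hAP : A ≤ P := by
    have h1 : IsPGroup 2 (P ⊔ A : Subgroup G) := isPGroup_sup hP.2.1 hA2.isPGroup hPA
    exact le_sup_right.trans (hP.2.2 _ h1 le_sup_left (sup_le hP.1 inf_le_right))
  obtain ⟨Q, hQP, hPQ, h1, h2⟩ := frattini_cent2 c.hc ht hP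
  have htQ : t ∈ Q := by
    apply h1 t htP
    intro q hq
    left
    have : q * t = t * q := mem_centralizer_singleton_iff.1 (hP.1 (hQP hq))
    rw [← this]; group
  have hF : ∃ F : Subgroup G, Ex2 F ∧ 4 ≤ Nat.card F ∧ F ≤ Q := by
    by_contra hcon
    push Not at hcon
    have h3 : A ≤ Q := by
      intro y hy
      apply h1 y (hAP hy)
      intro q hq
      have hw1 : y * q * y⁻¹ * q⁻¹ ∈ A := by
        have h5 := (mem_normalizer_iff.1 (hPA (hQP hq)) _).1 (A.inv_mem hy)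
        have : y * q * y⁻¹ * q⁻¹ = y * (q * y⁻¹ * q⁻¹) := by group
        rw [this]; exact A.mul_mem hy h5
      have hw2 : y * q * y⁻¹ * q⁻¹ ∈ Q := Q.mul_mem ((mem_normalizer_iff.1 (hPQ (hAP hy)) _).1 hq) (Q.inv_mem hq)
      generalize y * q * y⁻¹ * q⁻¹ = w at hw1 hw2 ⊢
      by_contra hw
      push Not at hw
      have htw : t * w = w * t := (mem_centralizer_singleton_iff.1 hw1.2).symm
      have h5 : Ex2 (zpowers t ⊔ zpowers w) := by
        apply ex2_sup (ex2_zpowers htt) (ex2_zpowers (hA2 w hw1))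
        intro a ha b hb
        obtain ⟨i, rfl⟩ := mem_zpowers_iff.1 ha
        obtain ⟨j, rfl⟩ := mem_zpowers_iff.1 hb
        exact (((show Commute t w from htw).zpow_left i).zpow_right j).eq
      have h6 : 4 ≤ Nat.card (zpowers t ⊔ zpowers w : Subgroup G) :=
        (card_four htt (hA2 w hw1) htw (sq_of_order ht).2 hw.1 hw.2.symm).2
      exact hcon _ h5 h6 (sup_le (zpowers_le.2 htQ) (zpowers_le.2 hw2))
    exact hcon A hA2 hA4 h3
  obtain ⟨F, hF2, hF4, hFQ⟩ := hF
  intro y hy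
  obtain ⟨k, hk, n, hn, rfl⟩ := h2 y hy
  apply mul_mem
  · exact le_normalizer (c.th_le_W hS hE hE8 hSE hES htS ht hk)
  · have h3 : x⁻¹ * n * x ∈ normalizer (Θ : Set G) := by
      apply c.four hS hE hE8 hSE (hF2.cj x⁻¹) (by rw [card_cj]; exact hF4)
      · rw [← le_cj_iff]; exact hFQ.trans (hQP.trans hx)
      · rw [← cj_mul]
        have : x⁻¹ * n * x * x⁻¹ = x⁻¹ * n := by group
        rw [this, cj_mul, ← le_cj_iff]
        have h5 : cj n F ≤ cj n Q := cj_mono hFQ
        rw [cj_eq_iff.2 hn] at h5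
        exact h5.trans (hQP.trans hx)
    have h4 : n = x * (x⁻¹ * n * x) * x⁻¹ := by group
    rw [h4]
    exact mul_mem (mul_mem hxM h3) (inv_mem hxM)

theorem MC.pCore_bot (c : MC p G) : Cfsg.pCore 2 G = ⊥ := by
  haveI := c.simple
  haveI : Fact (Nat.Prime 2) := ⟨Nat.prime_two⟩
  rcases (inferInstance : (Cfsg.pCore 2 G).Normal).eq_bot_or_eq_top with h | h
  · exact h
  · exact absurd h (c.pgroup_ne_top (H1.Cores.isPGroup_pCore 2))

theorem MC.exists_se (c : MC p G) {S : Subgroup G} (hS : Syl ⊤ S) : ∃ M : Subgroup G, Cfsg.IsStronglyEmbedded M := by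
  haveI : Fact (Nat.Prime 2) := ⟨Nat.prime_two⟩
  haveI := c.simple
  obtain ⟨E, hE, hE8, hES, hSE⟩ := c.exists_E hS
  have hS0 : S ≠ ⊥ := syl_ne_bot c.even hS
  by_cases hb : W (fun a : G => th a) E = ⊥
  · -- characteristic 2 type
    have hth : ∀ t : G, orderOf t = 2 → th t = ⊥ := by
      intro t ht
      obtain ⟨g, hg⟩ := conj_into hS ht
      apply th_bot_of (g := g)
      rw [eq_bot_iff, ← hb]
      exact c.th_le_W hS hE hE8 hSE hES hg (by rw [orderOf_cj']; exact ht)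
    have hct := char_two_type c.hc (even_iff_two_dvd.2 c.even) hth
    obtain ⟨M, hM⟩ := (Set.toFinite {N : Subgroup G | Cfsg.IsTwoLocal N}).exists_maximal
      ⟨normalizer (S : Set G), S, hS.2.1, hS0, rfl⟩
    refine ⟨M, Cfsg.Agent.S3756.result (even_iff_two_dvd.2 c.even) c.pCore_bot ?_ M ⟨hM.1, fun N hN hMN => ?_⟩⟩
    · rintro _ ⟨T, hT, hT0, rfl⟩
      have hs := c.sol_norm hT0 (c.pgroup_ne_top hT)
      exact ⟨hs, hct.2 T hT hT0, c.s4 hs⟩
    · exact le_antisymm (hM.2 hN hMN) hMN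
  · set Θ := W (fun a : G => th a) E with hΘ
    have hodd : ¬ 2 ∣ Nat.card Θ := ((sig c.hc).main (ex2_iff.1 hE) hE8).1
    have hΘt : Θ ≠ ⊤ := by
      intro h
      apply hodd
      rw [h, card_top]; exact c.even
    set M := normalizer (Θ : Set G) with hM
    have hMt : M ≠ ⊤ := c.norm_ne_top hb hΘt
    have hSM : S ≤ M := by
      intro s hs
      apply c.four hS hE hE8 hSE hE (le_trans (by norm_num) hE8) hES
      exact (cj_mono hES).trans (cj_eq_iff.2 (le_normalizer hs)).le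
    have hsyl : Syl M S := ⟨hSM, hS.2.1, fun R hR hle _ => hS.2.2 R hR hle le_top⟩
    have hP0 : (hsyl.sylow : Subgroup ↥M) ≠ ⊥ := by
      intro e
      apply hS0
      rw [eq_bot_iff_forall]
      intro x hx
      have h1 : (⟨x, hSM hx⟩ : M) ∈ (hsyl.sylow : Subgroup ↥M) := mem_subgroupOf.2 hx
      rw [e, mem_bot] at h1
      exact congrArg (fun y : M => (y : G)) h1
    refine ⟨M, (Cfsg.Agent.S0214.result M hMt hsyl.sylow hP0).2 ?_⟩
    intro X hX hX0
    set Y := X.map M.subtype with hY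
    have hYS : Y ≤ S := by
      rintro _ ⟨y, hy, rfl⟩
      exact mem_subgroupOf.1 (hX hy)
    have hY0 : Y ≠ ⊥ := by
      intro e
      apply hX0
      rw [hY, map_eq_bot_iff_of_injective _ M.subtype_injective] at e
      exact e
    obtain ⟨z, hz, hz1⟩ := exists_central_inv (hS.2.1.to_le hYS) hY0
    intro g hg
    by_cases hgz : g * z * g⁻¹ = z
    · apply c.cent_le hS hE hE8 hSE hES (hYS hz.1) (orderOf_two hz1 hz.2.1)
      rw [mem_centralizer_singleton_iff]
      exact mul_inv_eq_iff_eq_mul.1 hgz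
    · have hzY : g * z * g⁻¹ ∈ Y := (mem_normalizer_iff.1 hg z).1 hz.1
      have hzz : (g * z * g⁻¹) * (g * z * g⁻¹) = 1 := by
        have : (g * z * g⁻¹) * (g * z * g⁻¹) = g * (z * z) * g⁻¹ := by group
        rw [this, hz.2.1]; group
      have hne1 : g * z * g⁻¹ ≠ 1 := by rw [Ne, conj_eq_one_iff]; exact hz1
      have hcomm : z * (g * z * g⁻¹) = (g * z * g⁻¹) * z := (hz.2.2 _ hzY).symm
      have h5 : Ex2 (zpowers z ⊔ zpowers (g * z * g⁻¹)) := by
        apply ex2_sup (ex2_zpowers hz.2.1) (ex2_zpowers hzz)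
        intro a ha b hb
        obtain ⟨i, rfl⟩ := mem_zpowers_iff.1 ha
        obtain ⟨j, rfl⟩ := mem_zpowers_iff.1 hb
        exact (((show Commute z _ from hcomm).zpow_left i).zpow_right j).eq
      have h6 := (card_four hz.2.1 hzz hcomm hz1 hne1 (fun h => hgz h.symm)).2
      have h7 : zpowers z ⊔ zpowers (g * z * g⁻¹) ≤ Y := sup_le (zpowers_le.2 hz.1) (zpowers_le.2 hzY)
      apply c.four hS hE hE8 hSE h5 h6 (h7.trans hYS)
      exact (cj_mono h7).trans ((cj_eq_iff.2 hg).le.trans hYS)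

end H55.SN
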