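import Cfsg.Agent.Lib.H55.SN4
import Cfsg.Agent.Lib.H57.Bd1

set_option autoImplicit false
set_option linter.unusedSimpArgs false
set_option linter.unusedSectionVars false

/-! The strongly embedded endgame: basic facts. -/

namespace H55.SN

open Subgroup H55.ZN H55.ZC H57.Bd

universe u v

variable {p : ℕ} {G : Type u} [Group G] [Finite G] {Ω : Type v} [MulAction G Ω]

theorem frattini_sub {X P : Subgroup G} (hs : Group.IsSolvable X) (hP : Syl X P) :
    ∃ Q : Subgroup G, Q ≤ P ∧ (∀ y ∈ P, (∀ q ∈ Q, y * q = q * y) → y ∈ Q) ∧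
      ∀ x ∈ X, ∃ k ∈ (Cfsg.pPrimeCore 2 X).map X.subtype, ∃ n ∈ normalizer (Q : Set G), x = k * n := by
  have hsyl : Syl (⊤ : Subgroup X) (P.subgroupOf X) := by
    refine ⟨le_top, hP.2.1.comap_subtype, fun R hR hle _ x hx => ?_⟩
    have h1 : R.map X.subtype ≤ P := by
      apply hP.2.2 _ (hR.map _)
      · intro y hy
        exact ⟨⟨y, hP.1 hy⟩, hle (mem_subgroupOf.2 hy), rfl⟩
      · rintro _ ⟨y, -, rfl⟩; exact y.2
    exact mem_subgroupOf.2 (h1 ⟨x, hx, rfl⟩)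
  obtain ⟨Q, hQP, h1, h2⟩ := frattini_core hs hsyl
  refine ⟨Q.map X.subtype, ?_, ?_, ?_⟩
  · rintro _ ⟨q, hq, rfl⟩
    exact mem_subgroupOf.1 (hQP hq)
  · intro y hy hc
    refine ⟨⟨y, hP.1 hy⟩, h1 _ (mem_subgroupOf.2 hy) ?_, rfl⟩
    intro q hq
    exact Subtype.ext (hc q ⟨q, hq, rfl⟩)
  · intro x hx
    obtain ⟨k, hk, n, hn, hkn⟩ := h2 ⟨x, hx⟩
    refine ⟨k, ⟨k, hk, rfl⟩, n, ?_, congrArg Subtype.val hkn⟩
    apply mem_normalizer_of_le
    rintro _ ⟨q, hq, rfl⟩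
    exact ⟨n * q * n⁻¹, (mem_normalizer_iff.1 hn _).1 hq, rfl⟩

theorem mem_S_of {a : Ω} {x : G} (h1 : x * x = 1) (h2 : x ≠ 1) (h3 : x ∈ MulAction.stabilizer G a) : x ∈ S G a a :=
  ⟨orderOf_two h2 h1, MulAction.mem_stabilizer_iff.1 h3⟩

/-- Lemma Q -/
theorem lemQ (B : Bd G Ω) {a : Ω} {X V : Subgroup G} (hX : Group.IsSolvable X) (hV : Ex2 V) (hV4 : 4 ≤ Nat.card V)
    (hVX : V ≤ X) (hVa : V ≤ MulAction.stabilizer G a) : X ≤ MulAction.stabilizer G a := by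
  haveI : Fact (Nat.Prime 2) := ⟨Nat.prime_two⟩
  obtain ⟨P, hP, hVP⟩ := Syl.exists (K := X) (R := V) hV.isPGroup hVX
  obtain ⟨v, hv, hv1⟩ : ∃ v ∈ V, v ≠ 1 := by
    by_contra hcon
    push Not at hcon
    have : V = ⊥ := eq_bot_iff.2 fun x hx => mem_bot.2 (hcon x hx)
    rw [this, card_bot] at hV4
    omega
  have hvS : v ∈ S G a a := mem_S_of (hV v hv) hv1 (hVa hv)
  have hP0 : P ≠ ⊥ := by rintro rfl; exact hv1 (mem_bot.1 (hVP hv))
  obtain ⟨z, hz, hz1⟩ := exists_central_inv hP.2.1 hP0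
  have hza : z ∈ S G a a := ⟨orderOf_two hz1 hz.2.1, B.fix_of_comm hvS (hz.2.2 v (hVP hv))⟩
  have hPa : P ≤ MulAction.stabilizer G a := by
    intro y hy
    exact B.fix_of_comm hza (hz.2.2 y hy).symm
  obtain ⟨Q, hQP, h1, h2⟩ := frattini_sub hX hP
  have hQ0 : Q ≠ ⊥ := by
    rintro rfl
    apply hz1
    apply mem_bot.1
    apply h1 z hz.1
    intro q hq
    rw [mem_bot.1 hq]; group
  obtain ⟨t, ht, ht1⟩ := exists_central_inv (hP.2.1.to_le hQP) hQ0
  have hta : t ∈ S G a a := mem_S_of ht.2.1 ht1 (hPa (hQP ht.1))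
  have hN : normalizer (Q : Set G) ≤ MulAction.stabilizer G a := by
    intro n hn
    have h3 : n * t * n⁻¹ ∈ Q := (mem_normalizer_iff.1 hn t).1 ht.1
    have h4 := S_conj hta n
    exact (B.ctr_eq (⟨h4.1, MulAction.mem_stabilizer_iff.1 (hPa (hQP h3))⟩ : n * t * n⁻¹ ∈ S G a a) h4).symm
  have hO : (Cfsg.pPrimeCore 2 X).map X.subtype ≤ MulAction.stabilizer G a := by
    apply H27.GenSub.le_of_centralizers 2 V _ _ (ex2_iff.1 hV) hV4
    · intro x hx
      exact H13.Cores.normalizer_le_normalizer_map_pPrimeCore X (le_normalizer (hVX hx))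
    · rw [card_map_of_injective X.subtype_injective]
      have := H1.Cores.coprime_card_pPrimeCore (G := X) 2
      exact (Nat.Prime.coprime_iff_not_dvd Nat.prime_two).1 this.symm
    · rintro w hw hw1 y ⟨-, hy⟩
      exact B.fix_of_comm (mem_S_of (hV w hw) hw1 (hVa hw)) (mem_centralizer_singleton_iff.1 hy).symm
  intro x hx
  obtain ⟨k, hk, n, hn, rfl⟩ := h2 x hx
  exact (MulAction.stabilizer G a).mul_mem (hO hk) (hN hn)

theorem MC.stab_ne_top (c : MC p G) (B : Bd G Ω) (a : Ω) : MulAction.stabilizer G a ≠ ⊤ := by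
  intro h
  obtain ⟨x, y, hxy⟩ := B.two
  have : ∀ b : Ω, b = a := by
    intro b
    obtain ⟨g, hg⟩ := B.trans a b
    have h1 : g ∈ MulAction.stabilizer G a := by rw [h]; trivial
    rw [← hg]; exact h1
  exact hxy ((this x).trans (this y).symm)

theorem MC.sol_stab (c : MC p G) (B : Bd G Ω) (a : Ω) : Group.IsSolvable (MulAction.stabilizer G a) :=
  c.sol _ (c.stab_ne_top B a)

/-- every point stabilizer contains a fours group -/
theorem MC.exists_V (c : MC p G) (B : Bd G Ω) (a : Ω) :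
    ∃ V : Subgroup G, Ex2 V ∧ 4 ≤ Nat.card V ∧ V ≤ MulAction.stabilizer G a := by
  obtain ⟨S', hS, -⟩ := Syl.exists (K := (⊤ : Subgroup G)) (R := ⊥) (IsPGroup.of_bot) bot_le
  obtain ⟨E, hE, hE8, hES, hSE⟩ := c.exists_E hS
  obtain ⟨e, he, he1⟩ : ∃ e ∈ E, e ≠ 1 := by
    by_contra hcon
    push Not at hcon
    have : E = ⊥ := eq_bot_iff.2 fun x hx => mem_bot.2 (hcon x hx)
    rw [this, card_bot] at hE8
    omega
  obtain ⟨b, hb⟩ := B.exists_ctr (orderOf_two he1 (hE e he))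
  obtain ⟨g, hg⟩ := B.trans b a
  refine ⟨cj g E, hE.cj g, by rw [card_cj]; exact le_trans (by norm_num) hE8, ?_⟩
  intro x hx
  have h1 : (g⁻¹ * x * g) • b = b := B.fix_of_comm hb (hE.comm he (mem_cj.1 hx))
  rw [MulAction.mem_stabilizer_iff, ← hg]
  rw [mul_smul, mul_smul, inv_smul_eq_iff] at h1
  exact h1

/-- a 2-subgroup is conjugate into a subgroup of odd index -/
theorem conj_of_odd {H K V : Subgroup G} (hHK : H ≤ K) (hodd : ¬ 2 ∣ H.relIndex K) (hV : IsPGroup 2 V) (hVK : V ≤ K) :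
    ∃ k ∈ K, cj k V ≤ H := by
  haveI : Fact (Nat.Prime 2) := ⟨Nat.prime_two⟩
  obtain ⟨T, hT⟩ := H28.RelSyl.exists_isSyl 2 H
  have hTK : H28.RelSyl.IsSyl 2 T K := by
    refine ⟨hT.le.trans hHK, hT.isPGroup, ?_⟩
    rw [← relIndex_mul_relIndex T H K hT.le hHK]
    intro h
    rcases (Nat.Prime.dvd_mul Nat.prime_two).1 h with h1 | h1
    · exact hT.not_dvd h1
    · exact hodd h1
  obtain ⟨k, hk, hle⟩ := hTK.exists_conj_le hV hVK
  refine ⟨k, hk, le_trans ?_ hT.le⟩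
  intro x hx
  apply hle
  exact H28.Cj.mem_cj.2 (mem_cj.1 hx)

/-- elements of order prime to `2p` of a point stabilizer -/
theorem MC.centV (c : MC p G) (B : Bd G Ω) {a : Ω} {x : G} (hx : x ∈ MulAction.stabilizer G a)
    (hx2 : (orderOf x).Coprime 2) (hxp : (orderOf x).Coprime p) :
    ∃ V : Subgroup G, Ex2 V ∧ 4 ≤ Nat.card V ∧ V ≤ MulAction.stabilizer G a ∧ V ≤ centralizer ({x} : Set G) := by
  haveI : Fact (Nat.Prime 2) := ⟨Nat.prime_two⟩
  haveI : Fact p.Prime := ⟨c.hp⟩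
  set K := MulAction.stabilizer G a with hK
  obtain ⟨V, hV, hV4, hVK⟩ := c.exists_V B a
  obtain ⟨H', ⟨hH1, n, hH2⟩, hxH⟩ := (H65.PSolHall.main (H37.QuadCore.isPSolvable_of_isSolvable p _ K (c.sol_stab B a) rfl)).1
    (zpowers (⟨x, hx⟩ : K)) (by rw [Nat.card_zpowers, Subgroup.orderOf_mk]; exact hxp)
  set H := H'.map K.subtype with hH
  have hHK : H ≤ K := map_subtype_le _
  have hcard : (Nat.card H).Coprime p := by rw [hH, card_map_of_injective K.subtype_injective]; exact hH1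
  have hrel : H.relIndex K = p ^ n := by rw [hH, H28.RelSyl.relIndex_map_subtype]; exact hH2
  have hodd : ¬ 2 ∣ H.relIndex K := by
    rw [hrel]
    intro h
    have := (Nat.prime_dvd_prime_iff_eq Nat.prime_two c.hp).1 (Nat.Prime.dvd_of_dvd_pow Nat.prime_two h)
    have := c.hp3
    omega
  obtain ⟨k, hk, hle⟩ := conj_of_odd hHK hodd hV.isPGroup hVK
  have hxH' : x ∈ H := ⟨⟨x, hx⟩, hxH (mem_zpowers _), rfl⟩
  refine ⟨cj k V, hV.cj k, by rw [card_cj]; exact hV4, hle.trans hHK, ?_⟩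
  intro y hy
  rw [mem_centralizer_singleton_iff]
  exact c.comm hcard (hV.cj k).isPGroup hle hxH' hx2 y hy

/-- (R) the two point stabilizers are `p`-groups -/
theorem MC.isPGroup_D (c : MC p G) (B : Bd G Ω) {a b : Ω} (hab : a ≠ b) : IsPGroup p (D G a b) := by
  haveI : Fact p.Prime := ⟨c.hp⟩
  have key : ∀ q : ℕ, q.Prime → q ∣ Nat.card (D G a b) → q = p := by
    intro q hq hd
    haveI : Fact q.Prime := ⟨hq⟩
    by_contra hqp
    obtain ⟨x', hx'⟩ := exists_prime_orderOf_dvd_card' (G := D G a b) q hd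
    obtain ⟨x, hx⟩ := x'
    rw [Subgroup.orderOf_mk] at hx'
    have hx1 : x ≠ 1 := by rintro rfl; rw [orderOf_one] at hx'; exact hq.one_lt.ne hx'
    have hq2 : q ≠ 2 := by
      rintro rfl
      exact B.no_inv_D hab hx hx'
    have h2 : (orderOf x).Coprime 2 := by rw [hx']; exact (Nat.coprime_primes hq Nat.prime_two).2 hq2
    have hp' : (orderOf x).Coprime p := by rw [hx']; exact (Nat.coprime_primes hq c.hp).2 hqp
    obtain ⟨V, hV, hV4, hVa, hVx⟩ := c.centV B hx.1 h2 hp'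
    obtain ⟨V', hV', hV'4, hVb, hV'x⟩ := c.centV B hx.2 h2 hp'
    have hC := lemQ B (c.sol_cent hx1) hV' hV'4 hV'x hVb
    obtain ⟨v, hv, hv1⟩ : ∃ v ∈ V, v ≠ 1 := by
      by_contra hcon
      push Not at hcon
      have : V = ⊥ := eq_bot_iff.2 fun x hx => mem_bot.2 (hcon x hx)
      rw [this, card_bot] at hV4
      omega
    have h3 := hC (hVx hv)
    exact hab (B.fix_eq (orderOf_two hv1 (hV v hv)) (MulAction.mem_stabilizer_iff.1 (hVa hv)) (MulAction.mem_stabilizer_iff.1 h3))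
  exact IsPGroup.of_card (Nat.eq_prime_pow_of_unique_prime_dvd Nat.card_pos.ne' (fun {q} hq hd => key q hq hd))

theorem two_invs {V : Subgroup G} (hV : Ex2 V) (hV4 : 4 ≤ Nat.card V) :
    ∃ x ∈ V, ∃ y ∈ V, x ≠ 1 ∧ y ≠ 1 ∧ x ≠ y := by
  obtain ⟨x, hx, hx1⟩ : ∃ x ∈ V, x ≠ 1 := by
    by_contra hcon
    push Not at hcon
    have : V = ⊥ := eq_bot_iff.2 fun x hx => mem_bot.2 (hcon x hx)
    rw [this, card_bot] at hV4
    omega
  obtain ⟨y, hy, hyx⟩ : ∃ y ∈ V, y ∉ zpowers x := by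
    by_contra hcon
    push Not at hcon
    have h1 : Nat.card V ≤ Nat.card (zpowers x) := Nat.le_of_dvd Nat.card_pos (card_dvd_of_le hcon)
    rw [Nat.card_zpowers, orderOf_two hx1 (hV x hx)] at h1
    omega
  exact ⟨x, hx, y, hy, hx1, fun h => hyx (h ▸ one_mem _), fun h => hyx (h ▸ mem_zpowers x)⟩

end H55.SN
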