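import Cfsg.Agent.Lib.H55.SN5
import Cfsg.Agent.Lib.H3.SL2Free
import Cfsg.Agent.Lib.H98.DicksonSolv

set_option autoImplicit false
set_option linter.unusedSimpArgs false
set_option linter.unusedSectionVars false

/-! The strongly embedded endgame: point stabilizers with trivial 2-core. -/

namespace H55.SN

open Subgroup H55.ZN H55.ZC H57.Bd

universe u v

variable {p : ℕ} {G : Type u} [Group G] [Finite G] {Ω : Type v} [MulAction G Ω]

theorem five_le (hp : p.Prime) (hp3 : 3 < p) : 5 ≤ p := by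
  rcases Nat.lt_or_ge p 5 with h | h
  · have : p = 4 := by omega
    subst this
    exact absurd hp (by decide)
  · exact h

theorem sl_not_solvable [Fact p.Prime] (hp5 : 5 ≤ p) : ¬ Group.IsSolvable (Matrix.SpecialLinearGroup (Fin 2) (ZMod p)) := by
  intro h5
  have h6 : Group.IsSolvable (Matrix.ProjectiveSpecialLinearGroup (Fin 2) (ZMod p)) :=
    Group.isSolvable_of_surjective (QuotientGroup.mk'_surjective _)
  exact H98.DicksonSolv.psl_not_solvable (ZMod p) (by rw [Nat.card_zmod]; omega) h6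

theorem sl2_of_solvable [Fact p.Prime] (hp5 : 5 ≤ p) {X : Type*} [Group X] (hX : Group.IsSolvable X) :
    ¬ Cfsg.Involves (Matrix.SpecialLinearGroup (Fin 2) (ZMod p)) X := by
  intro h
  obtain ⟨K, f, hf⟩ := H51.Involves.exists_surjective h
  apply sl_not_solvable hp5
  haveI := hX
  haveI : Group.IsSolvable K := inferInstance
  exact Group.isSolvable_of_surjective (f := f) hf

theorem neg_one_central [Fact p.Prime] : ∀ A : Matrix.SpecialLinearGroup (Fin 2) (ZMod p), (-1) * A = A * (-1) := by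
  intro A
  rw [neg_mul, one_mul, mul_neg, mul_one]

theorem MC.not_sl2 (c : MC p G) [Fact p.Prime] :
    ¬ Cfsg.Involves (Matrix.SpecialLinearGroup (Fin 2) (ZMod p)) G := by
  intro h
  haveI := c.simple
  obtain ⟨K, f, hf⟩ := H51.Involves.exists_surjective h
  have hp5 := five_le c.hp c.hp3
  by_cases hK : K = ⊤
  · have hker : f.ker.map K.subtype = ⊥ := by
      have hn : (f.ker.map K.subtype).Normal := by
        constructor
        rintro _ ⟨x, hx, rfl⟩ g
        have hgK : g ∈ K := by rw [hK]; trivial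
        exact ⟨⟨g, hgK⟩ * x * ⟨g, hgK⟩⁻¹, (inferInstance : f.ker.Normal).conj_mem x hx _, rfl⟩
      rcases hn.eq_bot_or_eq_top with h1 | h1
      · exact h1
      · exfalso
        have h2 : ∀ x : K, f x = 1 := by
          intro x
          have : (x : G) ∈ f.ker.map K.subtype := by rw [h1]; trivial
          obtain ⟨y, hy, hyx⟩ := this
          rw [← Subtype.ext hyx]; exact hy
        apply sl_not_solvable hp5
        apply isSolvable_of_comm
        intro a b
        obtain ⟨x, rfl⟩ := hf a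
        obtain ⟨y, rfl⟩ := hf b
        rw [h2, h2]
    have hinj : Function.Injective f := by
      rw [← MonoidHom.ker_eq_bot_iff]
      rwa [Subgroup.map_eq_bot_iff_of_injective _ K.subtype_injective] at hker
    obtain ⟨g, hg⟩ := hf (-1)
    have hg1 : (g : G) ≠ 1 := by
      intro h1
      have h2 : g = 1 := Subtype.ext h1
      rw [h2, map_one] at hg
      have h3 := congrArg (fun A : Matrix.SpecialLinearGroup (Fin 2) (ZMod p) => A.1 0 0) hg
      simp at h3
      have h4 : (2 : ZMod p) = 0 := by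
        have : (2 : ZMod p) = 1 + 1 := by norm_num
        rw [this]
        nth_rewrite 1 [h3]
        ring
      have h5 : ((2 : ℕ) : ZMod p) = 0 := by exact_mod_cast h4
      rw [ZMod.natCast_eq_zero_iff] at h5
      have := Nat.le_of_dvd (by norm_num) h5
      omega
    apply c.cent_ne_top hg1
    rw [eq_top_iff]
    intro x _
    have hxK : x ∈ K := by rw [hK]; trivial
    rw [mem_centralizer_singleton_iff]
    have : f (⟨x, hxK⟩ * g) = f (g * ⟨x, hxK⟩) := by
      rw [map_mul, map_mul, hg, neg_one_central]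
    exact congrArg Subtype.val (hinj this)
  · have hs := c.sol K hK
    apply sl_not_solvable hp5
    exact Group.isSolvable_of_surjective (f := f) hf

theorem pCore_bot_of_nil {X : Type*} [Group X] [Finite X] (hX : Group.IsNilpotent X) (h : Cfsg.pCore 2 X = ⊥) :
    ¬ 2 ∣ Nat.card X := by
  haveI : Fact (Nat.Prime 2) := ⟨Nat.prime_two⟩
  intro hd
  obtain ⟨P⟩ : Nonempty (Sylow 2 X) := inferInstance
  have h1 : (P : Subgroup X) ≤ Cfsg.pCore 2 X := H1.Cores.le_pCore (H73.Nilp.sylow_normal P) P.isPGroup'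
  rw [h, le_bot_iff] at h1
  have := P.dvd_card_of_dvd_card hd
  rw [h1, card_bot] at this
  omega

theorem MC.zj (c : MC p G) (B : Bd G Ω) {a : Ω} (h2 : Cfsg.pCore 2 (MulAction.stabilizer G a) = ⊥) {w : G}
    (hw : w ∈ MulAction.stabilizer G a) (hwp : IsPGroup p (zpowers w)) {g : G} (hg : g * w * g⁻¹ = w⁻¹) :
    ∃ h ∈ MulAction.stabilizer G a, h * w * h⁻¹ = w⁻¹ := by
  haveI : Fact (Nat.Prime 2) := ⟨Nat.prime_two⟩
  haveI : Fact p.Prime := ⟨c.hp⟩
  have hp2 : p ≠ 2 := by have := c.hp3; omega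
  by_cases hw1 : w = 1
  · exact ⟨1, one_mem _, by rw [hw1]; group⟩
  set K := MulAction.stabilizer G a with hK
  have hKs : Group.IsSolvable K := c.sol_stab B a
  set F := H3.CFun.wwFun.{u} false p with hF
  have hFZ : H3.CFun.HasZJ F := @H3.CFun.hasZJ_wwFun.{u} p _ hp2 false
  obtain ⟨P'⟩ : Nonempty (Sylow p K) := inferInstance
  set P := (P' : Subgroup K).map K.subtype with hP
  have hPs : H28.RelSyl.IsSyl p P K := H28.RelSyl.isSyl_map P'
  obtain ⟨m, hm, hmP⟩ := hPs.exists_conj_le hwp (zpowers_le.2 hw)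
  have hwP : m * w * m⁻¹ ∈ P := hmP ⟨w, mem_zpowers w, rfl⟩
  have hP0 : P ≠ ⊥ := by
    intro h
    rw [h, mem_bot, conj_eq_one_iff] at hwP
    exact hw1 hwP
  set W' := F.W (P' : Subgroup K) with hW'
  set W := F.W P with hW
  have hWW : W = W'.map K.subtype := F.map K.subtype_injective _
  have hW0 : W ≠ ⊥ := F.ne_bot hPs.isPGroup hP0
  have hWP : W ≤ P := F.le _
  -- the normalizer covers
  have hO1 : ¬ 2 ∣ Nat.card (Cfsg.pPrimeCore p K) := by
    have hnil : Group.IsNilpotent (Cfsg.pPrimeCore p K) := by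
      haveI := c.nil ((Cfsg.pPrimeCore p K).map K.subtype) (by
        rw [card_map_of_injective K.subtype_injective]
        exact H1.Cores.coprime_card_pPrimeCore p)
      let e : Cfsg.pPrimeCore p K ≃* (Cfsg.pPrimeCore p K).map K.subtype :=
        (Cfsg.pPrimeCore p K).equivMapOfInjective K.subtype K.subtype_injective
      exact Group.nilpotent_of_surjective e.symm.toMonoidHom e.symm.surjective
    apply pCore_bot_of_nil hnil
    have h3 : (Cfsg.pCore 2 (Cfsg.pPrimeCore p K)).map (Cfsg.pPrimeCore p K).subtype ≤ Cfsg.pCore 2 K := by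
      apply H1.Cores.le_pCore ?_ ((H1.Cores.isPGroup_pCore 2).map _)
      rw [← normalizer_eq_top_iff, eq_top_iff]
      refine le_trans ?_ (H13.Cores.normalizer_le_normalizer_map _ (Cfsg.pCore 2 (Cfsg.pPrimeCore p K)))
      rw [normalizer_eq_top]
    rw [h2, le_bot_iff, Subgroup.map_eq_bot_iff_of_injective _ (Subgroup.subtype_injective _)] at h3
    exact h3
  have hcov : Cfsg.pPrimeCore p K ⊔ normalizer (W' : Set K) = ⊤ := by
    apply H3.CFun.sup_normalizer_of_quotient F P' (H1.Cores.coprime_card_pPrimeCore p)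
    apply H3.SL2Free.normal_of_qd_free hp2 F hFZ ?_ ?_
      (P'.mapSurjective (f := QuotientGroup.mk' (Cfsg.pPrimeCore p K)) (QuotientGroup.mk'_surjective _))
    · intro h3
      have hs : Group.IsSolvable (K ⧸ Cfsg.pPrimeCore p K) := inferInstance
      exact sl2_of_solvable (five_le c.hp c.hp3) hs (H51.QdStab3.involves_sl2_of_qd h3)
    · exact H26.SolvBal.centralizer_pCore_quotient_le_of_isSolvable hKs
  have hidx : ¬ 2 ∣ (normalizer (W' : Set K)).index := by
    intro hd
    apply hO1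
    have h3 := H28.RelHall.card_sup_mul_card_inf (H := normalizer (W' : Set K)) (N := Cfsg.pPrimeCore p K)
      (by intro x _; rw [normalizer_eq_top (Cfsg.pPrimeCore p K)]; trivial)
    rw [sup_comm, hcov, card_top, ← Subgroup.index_mul_card (normalizer (W' : Set K))] at h3
    have hpos : 0 < Nat.card (normalizer (W' : Set K)) := Nat.card_pos
    have h4 : (normalizer (W' : Set K)).index * Nat.card (normalizer (W' : Set K) ⊓ Cfsg.pPrimeCore p K : Subgroup K) =
        Nat.card (Cfsg.pPrimeCore p K) := by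
      apply Nat.eq_of_mul_eq_mul_left hpos
      rw [← h3]; ring
    rw [← h4]
    exact hd.mul_right _
  have hNW : normalizer (W : Set G) ≤ K := by
    obtain ⟨V, hV, hV4, hVK⟩ := c.exists_V B a
    set H := (normalizer (W' : Set K)).map K.subtype with hH
    have hHK : H ≤ K := map_subtype_le _
    have hrel : ¬ 2 ∣ H.relIndex K := by rw [hH, H28.RelSyl.relIndex_map_subtype]; exact hidx
    obtain ⟨k, hk, hle⟩ := conj_of_odd hHK hrel hV.isPGroup hVK
    have hHN : H ≤ normalizer (W : Set G) := by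
      rintro _ ⟨n, hn, rfl⟩
      apply mem_normalizer_of_le
      rw [hWW]
      rintro _ ⟨x, hx, rfl⟩
      exact ⟨n * x * n⁻¹, (mem_normalizer_iff.1 hn _).1 hx, rfl⟩
    exact lemQ B (c.sol_norm hW0 (c.pgroup_ne_top (hPs.isPGroup.to_le hWP))) (hV.cj k)
      (by rw [card_cj]; exact hV4) (hle.trans hHN) (hle.trans hHK)
  -- P is a Sylow subgroup of G
  obtain ⟨Ps, hPPs⟩ := hPs.isPGroup.exists_le_sylow
  have hPeq : (Ps : Subgroup G) = P := by
    by_contra hne
    have hlt : P < (Ps : Subgroup G) := lt_of_le_of_ne hPPs (fun h => hne h.symm)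
    have h3 := H28.RelSyl.lt_inf_normalizer_of_isPGroup Ps.isPGroup' hlt
    have h4 : (Ps : Subgroup G) ⊓ normalizer (P : Set G) ≤ K :=
      inf_le_right.trans ((H3.CFun.normalizer_le_normalizer F P).trans hNW)
    have h5 := hPs.eq_of_le (Ps.isPGroup'.to_le inf_le_left) h3.le h4
    exact h3.ne h5.symm
  have hctl := H3.SL2Free.controls_sl2 hp2 F hFZ c.not_sl2 Ps
  rw [hPeq] at hctl
  obtain ⟨n, hn, hn2⟩ := H3.SL2Free.set_form hctl (A := {m * w * m⁻¹}) (by
    rw [Set.singleton_subset_iff]; exact hwP) (m * g * m⁻¹) (by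
    intro x hx
    rw [Set.mem_singleton_iff] at hx
    rw [hx]
    have : m * g * m⁻¹ * (m * w * m⁻¹) * (m * g * m⁻¹)⁻¹ = m * (g * w * g⁻¹) * m⁻¹ := by group
    rw [this, hg]
    have h6 := P.inv_mem hwP
    have : (m * w * m⁻¹)⁻¹ = m * w⁻¹ * m⁻¹ := by group
    rwa [this] at h6)
  have h7 := hn2 _ (Set.mem_singleton _)
  refine ⟨m⁻¹ * n * m, K.mul_mem (K.mul_mem (K.inv_mem hm) (hNW hn)) hm, ?_⟩
  have h8 : m⁻¹ * n * m * w * (m⁻¹ * n * m)⁻¹ = m⁻¹ * (n * (m * w * m⁻¹) * n⁻¹) * m := by group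
  rw [h8, h7]
  have h9 : m⁻¹ * (m * g * m⁻¹ * (m * w * m⁻¹) * (m * g * m⁻¹)⁻¹) * m = g * w * g⁻¹ := by group
  rw [h9, hg]

end H55.SN
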