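import Cfsg.Agent.Lib.H55.SN6

set_option autoImplicit false
set_option linter.unusedSimpArgs false
set_option linter.unusedSectionVars false

/-! The strongly embedded endgame: point stabilizers with trivial 2-core. -/

namespace H55.SN

open Subgroup H55.ZN H55.ZC H57.Bd

universe u v

variable {p : ℕ} {G : Type u} [Group G] [Finite G] {Ω : Type v} [MulAction G Ω]

theorem inv_pow_even {h w : G} (hh : h * w * h⁻¹ = w⁻¹) (n : ℕ) : h ^ (2 * n) * w = w * h ^ (2 * n) := by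
  have h1 : h ^ 2 * w * (h ^ 2)⁻¹ = w := by
    have : h ^ 2 * w * (h ^ 2)⁻¹ = h * (h * w * h⁻¹) * h⁻¹ := by rw [pow_two]; group
    rw [this, hh]
    have : h * w⁻¹ * h⁻¹ = (h * w * h⁻¹)⁻¹ := by group
    rw [this, hh, inv_inv]
  have h2 : Commute (h ^ 2) w := mul_inv_eq_iff_eq_mul.1 h1
  rw [pow_mul]
  exact (h2.pow_left n).eq

theorem inv_pow_odd {h w : G} (hh : h * w * h⁻¹ = w⁻¹) (n : ℕ) : h ^ (2 * n + 1) * w * (h ^ (2 * n + 1))⁻¹ = w⁻¹ := by
  have h1 := inv_pow_even hh n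
  calc h ^ (2 * n + 1) * w * (h ^ (2 * n + 1))⁻¹ = h * (h ^ (2 * n) * w) * (h ^ (2 * n))⁻¹ * h⁻¹ := by
        rw [pow_succ']; group
    _ = h * w * h⁻¹ := by rw [h1]; group
    _ = w⁻¹ := hh

theorem MC.inv_inv (c : MC p G) (B : Bd G Ω) {a b : Ω} (hab : a ≠ b) (h2 : Cfsg.pCore 2 (MulAction.stabilizer G a) = ⊥) {w u : G}
    (hw : w ∈ D G a b) (hw1 : w ≠ 1) (hu : u ∈ S G a b) (huw : u * w * u⁻¹ = w⁻¹) :
    ∃ t ∈ S G a a, t * w * t⁻¹ = w⁻¹ := by
  have hwp : IsPGroup p (zpowers w) := (c.isPGroup_D B hab).to_le (zpowers_le.2 hw)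
  obtain ⟨h, hha, hh⟩ := c.zj B h2 hw.1 hwp huw
  have hww : w * w ≠ 1 := fun h => hw1 (B.eq_one_of_sq hab hw h)
  obtain ⟨k, m, hm, hkm⟩ := Nat.exists_eq_two_pow_mul_odd (orderOf_pos h).ne'
  obtain ⟨r, hr⟩ := hm
  have h3 := inv_pow_odd hh r
  rw [← hr] at h3
  set y := h ^ m with hy
  have hya : y ∈ MulAction.stabilizer G a := pow_mem hha m
  have hy2 : orderOf y = 2 ^ k := by
    have hm0 : 0 < m := by omega
    rw [hy, orderOf_pow' h hm0.ne', hkm, Nat.gcd_eq_right (Dvd.intro_left _ rfl), Nat.mul_div_cancel _ hm0]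
  rcases k with _ | k
  · exfalso
    rw [pow_zero, orderOf_eq_one_iff] at hy2
    rw [hy2] at h3
    apply hww
    have : w = w⁻¹ := by simpa using h3
    nth_rewrite 2 [this]; group
  rcases k with _ | k
  · exact ⟨y, ⟨by simpa using hy2, MulAction.mem_stabilizer_iff.1 hya⟩, h3⟩
  · exfalso
    set τ := y ^ 2 ^ (k + 1) with hτ
    have hτ2 : orderOf τ = 2 := by
      rw [hτ, orderOf_pow' y (pow_pos (by norm_num) _).ne', hy2, Nat.gcd_eq_right (pow_dvd_pow 2 (by omega)),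
        Nat.pow_div (by omega) (by norm_num)]
      have : k + 1 + 1 - (k + 1) = 1 := by omega
      rw [this, pow_one]
    have hτw : τ * w = w * τ := by
      have := inv_pow_even h3 (2 ^ k)
      rwa [← pow_succ'] at this
    have hτa : τ ∈ S G a a := ⟨hτ2, MulAction.mem_stabilizer_iff.1 (pow_mem hya _)⟩
    obtain ⟨d, hd⟩ := B.exists_ctr hu.1
    have had : a ≠ d := by
      rintro rfl
      exact hab (hd.2.symm.trans hu.2)
    set N := normalizer (zpowers w : Set G) with hN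
    have hτN : τ ∈ N := by
      apply mem_normalizer_of_le
      intro x hx
      obtain ⟨n, rfl⟩ := mem_zpowers_iff.1 hx
      rw [← conj_zpow, hτw, mul_inv_cancel_right]
      exact zpow_mem (mem_zpowers w) n
    have huN : u ∈ N := by
      apply mem_normalizer_of_le
      intro x hx
      obtain ⟨n, rfl⟩ := mem_zpowers_iff.1 hx
      rw [← conj_zpow, huw]
      exact zpow_mem (inv_mem (mem_zpowers w)) n
    obtain ⟨g, hg, -, hgu⟩ := B.conj_of_ne hτa hd had hτN huN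
    have h4 : g⁻¹ * w * g⁻¹⁻¹ ∈ zpowers w := (mem_normalizer_iff.1 (N.inv_mem hg) w).1 (mem_zpowers w)
    obtain ⟨n, hn⟩ := mem_zpowers_iff.1 h4
    have h5 : τ * (g⁻¹ * w * g⁻¹⁻¹) = (g⁻¹ * w * g⁻¹⁻¹) * τ := by
      rw [← hn]
      exact ((show Commute τ w from hτw).zpow_right n).eq
    have h6 : u * w * u⁻¹ = w := by
      rw [← hgu]
      calc g * τ * g⁻¹ * w * (g * τ * g⁻¹)⁻¹ = g * (τ * (g⁻¹ * w * g⁻¹⁻¹)) * τ⁻¹ * g⁻¹ := by group
        _ = w := by rw [h5]; group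
    rw [huw] at h6
    apply hww
    nth_rewrite 1 [← h6]; group

/-- all involutions of a point stabilizer lie in any normal subgroup of even order -/
theorem inv_mem_normal (B : Bd G Ω) {a b : Ω} (hab : a ≠ b) {L : Subgroup (MulAction.stabilizer G a)} (hL : L.Normal)
    (hd : 2 ∣ Nat.card L) {t : G} (ht : t ∈ S G a a) : (⟨t, MulAction.mem_stabilizer_iff.2 ht.2⟩ : MulAction.stabilizer G a) ∈ L := by
  haveI : Fact (Nat.Prime 2) := ⟨Nat.prime_two⟩
  obtain ⟨⟨t0, ht0⟩, ho⟩ := exists_prime_orderOf_dvd_card' (G := L) 2 hd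
  rw [Subgroup.orderOf_mk] at ho
  have h0 : (t0 : G) ∈ S G a a := ⟨by rw [orderOf_coe]; exact ho, MulAction.mem_stabilizer_iff.1 t0.2⟩
  obtain ⟨d, hd, hdt⟩ := B.D_trans_I hab h0 ht
  have h1 := hL.conj_mem t0 ht0 ⟨d, hd.1⟩
  have h2 : (⟨d, hd.1⟩ : MulAction.stabilizer G a) * t0 * (⟨d, hd.1⟩ : MulAction.stabilizer G a)⁻¹ =
      ⟨t, MulAction.mem_stabilizer_iff.2 ht.2⟩ := Subtype.ext hdt
  rwa [h2] at h1

theorem MC.case1 (c : MC p G) (B : Bd G Ω) {a : Ω} (h2 : Cfsg.pCore 2 (MulAction.stabilizer G a) = ⊥) : False := by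
  haveI : Fact (Nat.Prime 2) := ⟨Nat.prime_two⟩
  obtain ⟨b, hab⟩ : ∃ b : Ω, a ≠ b := by
    obtain ⟨x, y, hxy⟩ := B.two
    by_cases h : a = x
    · exact ⟨y, h ▸ hxy⟩
    · exact ⟨x, h⟩
  obtain ⟨V, hV, hV4, hVa⟩ := c.exists_V B a
  obtain ⟨x, hx, x', hx', hx1, hx'1, hne⟩ := two_invs hV hV4
  obtain ⟨u, hu⟩ := B.exists_S a b
  have hxS := mem_S_of (hV x hx) hx1 (hVa hx)
  have hx'S := mem_S_of (hV x' hx') hx'1 (hVa hx')
  obtain ⟨k, hkD, huk, hkx⟩ := B.K_trans hab hu hxS hx'S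
  have hk1 : k ≠ 1 := by
    rintro rfl
    apply hne
    simpa using hkx
  obtain ⟨t, ht, htk⟩ := c.inv_inv B hab h2 hkD hk1 hu huk
  set K := MulAction.stabilizer G a with hK
  have hKs : Group.IsSolvable K := c.sol_stab B a
  set N := Cfsg.pPrimeCore 2 K with hN
  set π := QuotientGroup.mk' N with hπ
  set L := (Cfsg.pCore 2 (K ⧸ N)).comap π with hL
  have hLn : L.Normal := Subgroup.Normal.comap inferInstance π
  have hLe : 2 ∣ Nat.card L := by
    -- the 2-core of the quotient is nontrivial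
    have h3 : Cfsg.pCore 2 (K ⧸ N) ≠ ⊥ := by
      intro h4
      have h5 := H26.SolvBal.centralizer_pCore_quotient_le_of_isSolvable (p := 2) hKs
      rw [h4] at h5
      have h6 : (⊤ : Subgroup (K ⧸ N)) ≤ ⊥ := by
        refine le_trans ?_ h5
        intro y _
        rw [mem_centralizer_iff]
        intro z hz
        rw [SetLike.mem_coe, mem_bot] at hz
        rw [hz]; group
      have h7 : (⟨t, MulAction.mem_stabilizer_iff.2 ht.2⟩ : K) ∈ N := by
        rw [← QuotientGroup.eq_one_iff]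
        exact mem_bot.1 (h6 (mem_top _))
      have h8 := H1.Cores.coprime_card_pPrimeCore (G := K) 2
      have h9 : orderOf (⟨t, MulAction.mem_stabilizer_iff.2 ht.2⟩ : K) ∣ Nat.card N := Subgroup.orderOf_dvd_natCard _ h7
      rw [Subgroup.orderOf_mk, ht.1] at h9
      exact (Nat.Prime.coprime_iff_not_dvd Nat.prime_two).1 h8.symm h9
    have h4 : L.map π = Cfsg.pCore 2 (K ⧸ N) := map_comap_eq_self_of_surjective (QuotientGroup.mk'_surjective N) _
    have h5 : 2 ∣ Nat.card (Cfsg.pCore 2 (K ⧸ N)) := by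
      obtain ⟨n, hn⟩ := IsPGroup.iff_card.1 (H1.Cores.isPGroup_pCore (G := K ⧸ N) 2)
      rw [hn]
      apply dvd_pow_self
      rintro rfl
      rw [pow_zero, card_eq_one] at hn
      exact h3 hn
    rw [← h4] at h5
    exact h5.trans (card_map_dvd L π)
  have htL := inv_mem_normal B hab hLn hLe ht
  have hkK : k ∈ K := hkD.1
  -- k ∈ N
  have hkN : (⟨k, hkK⟩ : K) ∈ N := by
    have h3 : (⟨k, hkK⟩ : K) * ⟨k, hkK⟩ ∈ L := by
      have h4 := L.mul_mem (hLn.conj_mem _ htL ⟨k, hkK⟩) (L.inv_mem htL)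
      have h5 : (⟨k, hkK⟩ : K) * ⟨t, MulAction.mem_stabilizer_iff.2 ht.2⟩ * (⟨k, hkK⟩ : K)⁻¹ *
          (⟨t, MulAction.mem_stabilizer_iff.2 ht.2⟩ : K)⁻¹ = (⟨k, hkK⟩ : K) * ⟨k, hkK⟩ := by
        apply Subtype.ext
        show k * t * k⁻¹ * t⁻¹ = k * k
        have h6 : t * k⁻¹ * t⁻¹ = k := by
          have : t * k⁻¹ * t⁻¹ = (t * k * t⁻¹)⁻¹ := by group
          rw [this, htk, _root_.inv_inv]
        calc k * t * k⁻¹ * t⁻¹ = k * (t * k⁻¹ * t⁻¹) := by group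
          _ = k * k := by rw [h6]
      rwa [h5] at h4
    have hodd : Odd (orderOf k) := B.odd_order hab hkD
    have h4 : (⟨k, hkK⟩ : K) ∈ L := by
      obtain ⟨r, hr⟩ := hodd
      have h5 : (⟨k, hkK⟩ : K) = ((⟨k, hkK⟩ : K) * ⟨k, hkK⟩) ^ (r + 1) := by
        apply Subtype.ext
        show k = (k * k) ^ (r + 1)
        have : (k * k) ^ (r + 1) = k ^ (orderOf k + 1) := by
          rw [hr, ← pow_two, ← pow_mul]; congr 1
        rw [this, pow_succ, pow_orderOf_eq_one, one_mul]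
      rw [h5]
      exact L.pow_mem h3 _
    rw [← QuotientGroup.eq_one_iff, ← orderOf_eq_one_iff]
    obtain ⟨j, hj⟩ := (H1.Cores.isPGroup_pCore (G := K ⧸ N) 2) ⟨π ⟨k, hkK⟩, h4⟩
    have h5 : (π ⟨k, hkK⟩) ^ 2 ^ j = 1 := congrArg Subtype.val hj
    have h6 : orderOf (π ⟨k, hkK⟩) ∣ 2 ^ j := orderOf_dvd_of_pow_eq_one h5
    have h7 : orderOf (π ⟨k, hkK⟩) ∣ orderOf k := by
      have := orderOf_map_dvd π (⟨k, hkK⟩ : K)
      rwa [Subgroup.orderOf_mk] at this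
    have h8 : (orderOf k).Coprime (2 ^ j) := (Nat.coprime_two_right.2 hodd).pow_right j
    exact Nat.eq_one_of_dvd_coprimes h8 h7 h6
  -- contradiction
  have hNn : N.Normal := inferInstance
  have hxK : x ∈ K := hVa hx
  have h3 := N.mul_mem hkN (hNn.conj_mem _ (N.inv_mem hkN) ⟨x, hxK⟩)
  have h4 : (⟨k, hkK⟩ : K) * (⟨x, hxK⟩ * (⟨k, hkK⟩ : K)⁻¹ * (⟨x, hxK⟩ : K)⁻¹) = ⟨x' * x, K.mul_mem (hVa hx') hxK⟩ := by
    apply Subtype.ext
    show k * (x * k⁻¹ * x⁻¹) = x' * x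
    have h5 : x⁻¹ = x := hV.inv hx
    rw [← hkx, h5]; group
  rw [h4] at h3
  have h5 : orderOf (⟨x' * x, K.mul_mem (hVa hx') hxK⟩ : K) = 2 := by
    rw [Subgroup.orderOf_mk]
    apply orderOf_two
    · intro h
      apply hne
      have h6 : x' = x⁻¹ := eq_inv_of_mul_eq_one_left h
      rw [h6, hV.inv hx]
    · exact hV _ (V.mul_mem hx' hx)
  have h6 : orderOf (⟨x' * x, K.mul_mem (hVa hx') hxK⟩ : K) ∣ Nat.card N := Subgroup.orderOf_dvd_natCard _ h3
  rw [h5] at h6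
  have h8 := H1.Cores.coprime_card_pPrimeCore (G := K) 2
  exact (Nat.Prime.coprime_iff_not_dvd Nat.prime_two).1 h8.symm h6

end H55.SN
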