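import Cfsg.Agent.Lib.H55.SN5

set_option autoImplicit false
set_option linter.unusedSimpArgs false
set_option linter.unusedSectionVars false

/-! The strongly embedded endgame: commuting involutions in the point stabilizers. -/

namespace H55.SN

open Subgroup H55.ZN H55.ZC H57.Bd

universe u v

theorem mersenne {p n e : ℕ} (hp : p.Prime) (hp3 : 3 < p) (hn : 2 ≤ n) (h : p ^ e + 1 = 2 ^ n) : e = 1 := by
  have hodd : p % 2 = 1 := by
    rcases hp.eq_two_or_odd with h1 | h1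
    · omega
    · exact h1
  have h4 : 4 ∣ 2 ^ n := by
    have : 2 ^ 2 ∣ 2 ^ n := pow_dvd_pow 2 hn
    exact this
  rcases Nat.even_or_odd' e with ⟨k, rfl | rfl⟩
  · exfalso
    rw [← h] at h4
    have h1 : (p ^ k) % 2 = 1 := by
      rw [Nat.pow_mod, hodd, one_pow]; norm_num
    have h2 : p ^ (2 * k) = (p ^ k) * (p ^ k) := by rw [two_mul, pow_add]
    rw [h2] at h4
    have h3 : (p ^ k) % 4 = 1 ∨ (p ^ k) % 4 = 3 := by omega
    rcases h3 with h5 | h5
    · have : (p ^ k * p ^ k + 1) % 4 = 2 := by rw [Nat.add_mod, Nat.mul_mod, h5]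
      omega
    · have : (p ^ k * p ^ k + 1) % 4 = 2 := by rw [Nat.add_mod, Nat.mul_mod, h5]
      omega
  · have h1 : p + 1 ∣ p ^ (2 * k + 1) + 1 ^ (2 * k + 1) := Odd.nat_add_dvd_pow_add_pow p 1 ⟨k, rfl⟩
    rw [one_pow, h] at h1
    obtain ⟨m, hm, hpm⟩ := (Nat.dvd_prime_pow Nat.prime_two).1 h1
    have h2 : p ^ 2 ≡ 1 [MOD 2 ^ (m + 1)] := by
      apply Nat.ModEq.symm
      rw [Nat.modEq_iff_dvd' (Nat.one_le_pow _ _ (by omega))]
      have h3 : p ^ 2 - 1 = (p + 1) * (p - 1) := by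
        have := Nat.sq_sub_sq p 1
        simpa using this
      rw [h3, hpm, pow_succ]
      exact Nat.mul_dvd_mul_left _ (by omega)
    have h3 : p ^ (2 * k + 1) ≡ p [MOD 2 ^ (m + 1)] := by
      have h5 := (h2.pow k).mul_right p
      rwa [one_pow, one_mul, ← pow_mul, ← pow_succ] at h5
    have h5 : 2 ^ n ≡ 2 ^ m [MOD 2 ^ (m + 1)] := by
      rw [← h, ← hpm]; exact h3.add_right 1
    have h6 : n ≤ m := by
      by_contra hcon
      have h7 : 2 ^ (m + 1) ∣ 2 ^ n := pow_dvd_pow 2 (by omega)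
      have h8 : 2 ^ (m + 1) ∣ 2 ^ m := (h5.dvd_iff dvd_rfl).1 h7
      have := Nat.le_of_dvd (pow_pos (by norm_num) m) h8
      have h9 : 2 ^ m < 2 ^ (m + 1) := Nat.pow_lt_pow_right (by norm_num) (by omega)
      omega
    have h7 : 2 ^ n ≤ 2 ^ m := Nat.pow_le_pow_right (by norm_num) h6
    rw [← h, ← hpm] at h7
    have h8 : p ^ (2 * k + 1) ≤ p ^ 1 := by rw [pow_one]; omega
    have := (Nat.pow_le_pow_iff_right hp.one_lt).1 h8
    omega

variable {p : ℕ} {G : Type u} [Group G] [Finite G] {Ω : Type v} [MulAction G Ω]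

theorem relIndex_eq {N : Subgroup G} {z : G} (E : Set G) (h : ∀ n ∈ N, n * z * n⁻¹ ∈ E)
    (hs : ∀ e ∈ E, ∃ n ∈ N, n * z * n⁻¹ = e) : (N ⊓ centralizer ({z} : Set G)).relIndex N = E.ncard := by
  apply le_antisymm (relIndex_le E h)
  let C := (N ⊓ centralizer ({z} : Set G)).subgroupOf N
  have hrel : ∀ a b : N, a⁻¹ * b ∈ C → (a : G) * z * (a : G)⁻¹ = b * z * (b : G)⁻¹ := by
    intro a b
    rw [mem_subgroupOf, mem_inf, mem_centralizer_singleton_iff]
    rintro ⟨-, h1⟩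
    have h2 : ((a : G)⁻¹ * b) * z = z * ((a : G)⁻¹ * b) := h1
    calc (a : G) * z * (a : G)⁻¹ = a * (z * ((a : G)⁻¹ * b)) * (b : G)⁻¹ := by group
      _ = b * z * (b : G)⁻¹ := by rw [← h2]; group
  let f : N ⧸ C → E := Quotient.lift (fun n : N => (⟨n * z * (n : G)⁻¹, h n n.2⟩ : E)) (by
    intro a b hab
    have h1 : a⁻¹ * b ∈ C := QuotientGroup.leftRel_apply.1 hab
    exact Subtype.ext (hrel a b h1))
  have hf : Function.Surjective f := by
    rintro ⟨e, he⟩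
    obtain ⟨n, hn, hne⟩ := hs e he
    exact ⟨QuotientGroup.mk ⟨n, hn⟩, Subtype.ext hne⟩
  have := Nat.card_le_card_of_surjective f hf
  rw [Nat.card_coe_set_eq] at this
  exact this

structure C2 (p : ℕ) (G : Type u) [Group G] [Finite G] (Ω : Type v) [MulAction G Ω] : Prop where
  c : MC p G
  B : Bd G Ω
  com : ∀ a : Ω, ∀ x ∈ S G a a, ∀ y ∈ S G a a, x * y = y * x

/-- all involutions fixing `a`, and `1` -/
def C2.E (h : C2 p G Ω) (a : Ω) : Subgroup G where
  carrier := {x | x * x = 1 ∧ x • a = a}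
  one_mem' := ⟨by simp, one_smul _ _⟩
  mul_mem' := by
    rintro x y ⟨hx1, hx2⟩ ⟨hy1, hy2⟩
    have hc : x * y = y * x := by
      by_cases h1 : x = 1
      · rw [h1]; group
      by_cases h2 : y = 1
      · rw [h2]; group
      exact h.com a x ⟨orderOf_two h1 hx1, hx2⟩ y ⟨orderOf_two h2 hy1, hy2⟩
    refine ⟨?_, by rw [mul_smul, hy2, hx2]⟩
    calc x * y * (x * y) = x * (y * x) * y := by group
      _ = (x * x) * (y * y) := by rw [← hc]; group
      _ = 1 := by rw [hx1, hy1, one_mul]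
  inv_mem' := by
    rintro x ⟨hx1, hx2⟩
    have : x⁻¹ = x := inv_eq_of_mul_eq_one_left hx1
    rw [this]; exact ⟨hx1, hx2⟩

variable (h : C2 p G Ω)
include h

theorem C2.mem_E {a : Ω} {x : G} : x ∈ h.E a ↔ x * x = 1 ∧ x • a = a := Iff.rfl

theorem C2.ex2 (a : Ω) : Ex2 (h.E a) := fun _ hx => hx.1

theorem C2.le_stab (a : Ω) : h.E a ≤ MulAction.stabilizer G a := fun _ hx => hx.2

theorem C2.mem_of_S {a : Ω} {x : G} (hx : x ∈ S G a a) : x ∈ h.E a := ⟨S_sq hx, hx.2⟩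

theorem C2.coe_E (a : Ω) : ((h.E a : Subgroup G) : Set G) = insert 1 (S G a a) := by
  ext x
  constructor
  · intro hx
    by_cases h1 : x = 1
    · exact Or.inl h1
    · exact Or.inr ⟨orderOf_two h1 hx.1, hx.2⟩
  · rintro (rfl | hx)
    · exact one_mem _
    · exact h.mem_of_S hx

theorem C2.card_E (a : Ω) : Nat.card (h.E a) = (S G a a).ncard + 1 := by
  have h1 : Nat.card (h.E a) = ((h.E a : Subgroup G) : Set G).ncard := rfl
  rw [h1, h.coe_E, Set.ncard_insert_of_notMem]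
  intro h2
  exact S_ne_one h2 rfl

theorem C2.four (a : Ω) : 4 ≤ Nat.card (h.E a) := by
  obtain ⟨V, hV, hV4, hVa⟩ := h.c.exists_V h.B a
  refine hV4.trans (Nat.le_of_dvd Nat.card_pos (card_dvd_of_le ?_))
  intro x hx
  exact ⟨hV x hx, hVa hx⟩

theorem C2.exists_ne (a : Ω) : ∃ b : Ω, a ≠ b := by
  obtain ⟨x, y, hxy⟩ := h.B.two
  by_cases h1 : a = x
  · exact ⟨y, h1 ▸ hxy⟩
  · exact ⟨x, h1⟩

theorem C2.rel {a b : Ω} (hab : a ≠ b) {x : G} (hx : x ∈ S G a a) :
    (D G a b ⊓ centralizer ({x} : Set G)).relIndex (D G a b) = (S G a a).ncard := by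
  apply relIndex_eq
  · intro n hn
    have := S_conj hx n
    rwa [(mem_D.1 hn).1] at this
  · intro e he
    obtain ⟨d, hd, hd2⟩ := h.B.D_trans_I hab hx he
    exact ⟨d, hd, hd2⟩

/-- the number of involutions in a point stabilizer is `p` -/
theorem C2.ncard (a : Ω) : (S G a a).ncard = p := by
  haveI : Fact p.Prime := ⟨h.c.hp⟩
  obtain ⟨b, hab⟩ := h.exists_ne a
  obtain ⟨x, hx⟩ := h.B.exists_I a
  have h1 := h.rel hab hx
  obtain ⟨k, hk⟩ := IsPGroup.iff_card.1 (h.c.isPGroup_D h.B hab)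
  have h2 : (S G a a).ncard ∣ p ^ k := by
    rw [← h1, ← hk, relIndex]; exact index_dvd_card _
  obtain ⟨e, he, hpe⟩ := (Nat.dvd_prime_pow h.c.hp).1 h2
  obtain ⟨n, hn⟩ := IsPGroup.iff_card.1 (h.ex2 a).isPGroup
  have h3 := h.card_E a
  have h4 := h.four a
  rw [hn] at h3 h4
  have hn2 : 2 ≤ n := by
    by_contra hcon
    have : 2 ^ n ≤ 2 ^ 1 := Nat.pow_le_pow_right (by norm_num) (by omega)
    omega
  rw [hpe] at h3
  have h5 := mersenne h.c.hp h.c.hp3 hn2 h3.symm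
  rw [hpe, h5, pow_one]

/-- a `p`-element commuting with one involution of a point stabilizer commutes with all -/
theorem C2.comm_all {a : Ω} {w x : G} (hw : w • a = a) (hwp : IsPGroup p (zpowers w)) (hx : x ∈ S G a a)
    (hc : w * x = x * w) : ∀ y ∈ S G a a, w * y = y * w := by
  haveI : Fact p.Prime := ⟨h.c.hp⟩
  intro y hy
  by_contra hne
  have hwn : ∀ n ∈ zpowers w, n • a = a := by
    intro n hn
    have : zpowers w ≤ MulAction.stabilizer G a := zpowers_le.2 hw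
    exact this hn
  have h1 : (zpowers w ⊓ centralizer ({y} : Set G)).relIndex (zpowers w) ≤ (S G a a \ {x}).ncard := by
    apply relIndex_le
    intro n hn
    have h2 := S_conj hy n
    rw [hwn n hn] at h2
    refine ⟨h2, ?_⟩
    rw [Set.mem_singleton_iff]
    intro h3
    have h4 : n * x = x * n := by
      obtain ⟨k, rfl⟩ := mem_zpowers_iff.1 hn
      exact ((show Commute w x from hc).zpow_left k).eq
    have h5 : y = x := by
      have : y = n⁻¹ * (n * y * n⁻¹) * n := by group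
      rw [this, h3, mul_assoc, ← h4]; group
    exact hne (h5 ▸ hc)
  rw [Set.ncard_diff_singleton_of_mem hx, h.ncard] at h1
  obtain ⟨k, hk⟩ := IsPGroup.iff_card.1 hwp
  have h2 : (zpowers w ⊓ centralizer ({y} : Set G)).relIndex (zpowers w) ∣ p ^ k := by
    rw [← hk, relIndex]; exact index_dvd_card _
  obtain ⟨e, he, hpe⟩ := (Nat.dvd_prime_pow h.c.hp).1 h2
  rw [hpe] at h1
  have hp1 := h.c.hp.one_lt
  rcases e with _ | e
  · rw [pow_zero, relIndex_eq_one] at hpe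
    apply hne
    exact mem_centralizer_singleton_iff.1 (hpe (mem_zpowers w)).2
  · have : p ≤ p ^ (e + 1) := Nat.le_self_pow (by omega) p
    omega

/-- if a nontrivial `p`-element centralizes an involution of `G_a`, its centralizer lies in `G_a` -/
theorem C2.cent_le {a : Ω} {w x : G} (hw : w • a = a) (hw1 : w ≠ 1) (hwp : IsPGroup p (zpowers w)) (hx : x ∈ S G a a)
    (hc : w * x = x * w) : centralizer ({w} : Set G) ≤ MulAction.stabilizer G a := by
  apply lemQ h.B (h.c.sol_cent hw1) (h.ex2 a) (h.four a) ?_ (h.le_stab a)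
  intro y hy
  rw [mem_centralizer_singleton_iff]
  by_cases hy1 : y = 1
  · rw [hy1]; group
  · exact (h.comm_all hw hwp hx hc y ⟨orderOf_two hy1 hy.1, hy.2⟩).symm

theorem C2.zp {a b : Ω} (hab : a ≠ b) {w : G} (hw : w ∈ D G a b) : IsPGroup p (zpowers w) :=
  (h.c.isPGroup_D h.B hab).to_le (zpowers_le.2 hw)

/-- `|D| ≤ p²` -/
theorem C2.card_D {a b : Ω} (hab : a ≠ b) : Nat.card (D G a b) = p ∨ Nat.card (D G a b) = p ^ 2 := by
  haveI : Fact p.Prime := ⟨h.c.hp⟩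
  obtain ⟨x, hx⟩ := h.B.exists_I a
  obtain ⟨y, hy⟩ := h.B.exists_I b
  have h1 := h.rel hab hx
  have h2 := h.rel hab.symm hy
  rw [D_comm, h.ncard] at h2
  rw [h.ncard] at h1
  have h3 : (D G a b ⊓ centralizer ({x} : Set G)) ⊓ (D G a b ⊓ centralizer ({y} : Set G)) = ⊥ := by
    rw [eq_bot_iff]
    rintro w ⟨⟨hw, hwx⟩, -, hwy⟩
    rw [mem_bot]
    by_contra hw1
    have h4 := h.cent_le (mem_D.1 hw).1 hw1 (h.zp hab hw) hx (mem_centralizer_singleton_iff.1 hwx)
    have h5 : y ∈ centralizer ({w} : Set G) := by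
      rw [mem_centralizer_singleton_iff]; exact (mem_centralizer_singleton_iff.1 hwy).symm
    exact hab (h.B.fix_eq hy.1 (h4 h5) hy.2)
  have h4 := Subgroup.relIndex_inf_le (H := D G a b ⊓ centralizer ({x} : Set G)) (K := D G a b ⊓ centralizer ({y} : Set G))
    (L := D G a b)
  rw [h3, h1, h2, relIndex_bot_left] at h4
  obtain ⟨k, hk⟩ := IsPGroup.iff_card.1 (h.c.isPGroup_D h.B hab)
  have h5 : p ∣ Nat.card (D G a b) := by
    rw [← h1, relIndex]; exact index_dvd_card _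
  rw [hk] at h4 h5 ⊢
  have hk0 : k ≠ 0 := by
    rintro rfl
    rw [pow_zero] at h5
    exact h.c.hp.one_lt.ne' (Nat.dvd_one.1 h5)
  have hk2 : k ≤ 2 := by
    rw [← pow_two] at h4
    exact (Nat.pow_le_pow_iff_right h.c.hp.one_lt).1 h4
  have : k = 1 ∨ k = 2 := by omega
  rcases this with rfl | rfl
  · left; rw [pow_one]
  · right; rfl

/-- no involution of `G_a` normalizes `D` -/
theorem C2.no_norm {a b : Ω} (hab : a ≠ b) {τ : G} (hτ : τ ∈ S G a a) (hN : τ ∈ normalizer (D G a b : Set G)) : False := by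
  obtain ⟨x, hx, y, hy, hx1, hy1, hxy⟩ := two_invs (h.ex2 a) (h.four a)
  obtain ⟨x', hx', hne⟩ : ∃ x' ∈ S G a a, x' ≠ τ := by
    by_cases h1 : x = τ
    · exact ⟨y, ⟨orderOf_two hy1 hy.1, hy.2⟩, fun h2 => hxy (h1.trans h2.symm)⟩
    · exact ⟨x, ⟨orderOf_two hx1 hx.1, hx.2⟩, h1⟩
  obtain ⟨d, hd, hdx⟩ := h.B.D_trans_I hab hτ hx'
  have h1 : τ * d⁻¹ * τ⁻¹ ∈ D G a b := (mem_normalizer_iff.1 hN _).1 ((D G a b).inv_mem hd)
  have h2 : d * (τ * d⁻¹ * τ⁻¹) ∈ D G a b := (D G a b).mul_mem hd h1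
  have h3 : d * (τ * d⁻¹ * τ⁻¹) = x' * τ⁻¹ := by rw [← hdx]; group
  rw [h3] at h2
  have h4 : x' * τ⁻¹ ∈ h.E a := (h.E a).mul_mem (h.mem_of_S hx') ((h.E a).inv_mem (h.mem_of_S hτ))
  have h5 := h.B.eq_one_of_sq hab h2 h4.1
  exact hne (mul_inv_eq_one.1 h5)

end H55.SN
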