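import Cfsg.Agent.Lib.H55.SN7

set_option autoImplicit false
set_option linter.unusedSimpArgs false
set_option linter.unusedSectionVars false

/-! The strongly embedded endgame: the two point stabilizers and the final count. -/

namespace H55.SN

open Subgroup H55.ZN H55.ZC H57.Bd

universe u v

variable {p : ℕ} {G : Type u} [Group G] [Finite G] {Ω : Type v} [MulAction G Ω]

theorem norm_D {a b : Ω} {s : G} (hs : s ∈ S G a b) : s ∈ normalizer (D G a b : Set G) := by

  rw [mem_normalizer_iff]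
  intro d
  constructor
  · exact fun hd => conj_mem_D_of_S hs hd
  · intro hd
    have h1 := conj_mem_D_of_S hs hd
    have h2 : s * (s * d * s⁻¹) * s⁻¹ = d := by
      have : s * (s * d * s⁻¹) * s⁻¹ = (s * s) * d * (s * s)⁻¹ := by group
      rw [this, S_sq hs]; group
    rwa [h2] at h1

theorem C2.no_sq (h : C2 p G Ω) {a b : Ω} (hab : a ≠ b) (hc : Nat.card (D G a b) = p ^ 2) : False := by
  haveI : Fact p.Prime := ⟨h.c.hp⟩
  obtain ⟨u, hu⟩ := h.B.exists_S a b
  have hcomm : ∀ x ∈ D G a b, ∀ y ∈ D G a b, x * y = y * x := by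
    intro x hx y hy
    have := IsPGroup.commutative_of_card_eq_prime_sq (p := p) (G := D G a b) hc ⟨x, hx⟩ ⟨y, hy⟩
    exact congrArg Subtype.val this
  obtain ⟨x, hx⟩ := h.B.exists_I a
  -- some element is not inverted
  obtain ⟨d, hd, hdu⟩ : ∃ d ∈ D G a b, u * d * u⁻¹ ≠ d⁻¹ := by
    by_contra hcon
    push Not at hcon
    have h1 := h.rel hab hx
    have h2 : D G a b ⊓ centralizer ({x} : Set G) = ⊥ := by
      rw [eq_bot_iff]
      rintro w ⟨hw, hwx⟩
      exact mem_bot.2 (h.B.K_semireg hab hu hw (hcon w hw) hx (mem_centralizer_singleton_iff.1 hwx))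
    rw [h2, relIndex_bot_left, hc, h.ncard] at h1
    have := h.c.hp.one_lt
    nlinarith
  set v := d * (u * d * u⁻¹) with hv
  have hd' : u * d * u⁻¹ ∈ D G a b := conj_mem_D_of_S hu hd
  have hvD : v ∈ D G a b := (D G a b).mul_mem hd hd'
  have hv1 : v ≠ 1 := by
    intro h1
    exact hdu (eq_inv_of_mul_eq_one_right h1)
  have huv : v * u = u * v := by
    have h1 : u * v * u⁻¹ = v := by
      have : u * v * u⁻¹ = (u * d * u⁻¹) * ((u * u) * d * (u * u)⁻¹) := by rw [hv]; group
      rw [this, S_sq hu, hv]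
      have h2 := hcomm d hd _ hd'
      rw [h2]; group
    exact (mul_inv_eq_iff_eq_mul.1 h1).symm
  obtain ⟨e, he⟩ := h.B.exists_ctr hu.1
  have hae : a ≠ e := by
    rintro rfl
    exact hab (he.2.symm.trans hu.2)
  have hve : v • e = e := h.B.fix_of_comm he huv.symm
  have hC := h.cent_le hve hv1 (h.zp hab hvD) he huv
  have hDe : D G a b ≤ D G e a := by
    intro y hy
    refine ⟨hC ?_, hy.1⟩
    rw [mem_centralizer_singleton_iff]
    exact hcomm y hy v hvD
  have hDeq : D G a b = D G e a := by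
    apply Subgroup.eq_of_le_of_card_ge hDe
    rcases h.card_D hae.symm with h1 | h1
    · rw [h1, hc]
      exact Nat.le_self_pow (by norm_num) p
    · rw [h1, hc]
  apply h.no_norm hae.symm he
  rw [← hDeq]
  exact norm_D hu

theorem C2.card_D' (h : C2 p G Ω) {a b : Ω} (hab : a ≠ b) : Nat.card (D G a b) = p := by
  rcases h.card_D hab with h1 | h1
  · exact h1
  · exact (h.no_sq hab h1).elim

theorem C2.D_inv (h : C2 p G Ω) {a b : Ω} (hab : a ≠ b) {u : G} (hu : u ∈ S G a b) :
    ∀ d ∈ D G a b, u * d * u⁻¹ = d⁻¹ := by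
  haveI : Fact p.Prime := ⟨h.c.hp⟩
  obtain ⟨x, hx, y, hy, hx1, hy1, hxy⟩ := two_invs (h.ex2 a) (h.four a)
  obtain ⟨k, hk, huk, hkx⟩ := h.B.K_trans hab hu ⟨orderOf_two hx1 hx.1, hx.2⟩ ⟨orderOf_two hy1 hy.1, hy.2⟩
  have hk1 : k ≠ 1 := by
    rintro rfl
    apply hxy
    simpa using hkx
  have hcard := h.card_D' hab
  have h1 : zpowers k = D G a b := by
    have h2 : zpowers k ≤ D G a b := zpowers_le.2 hk
    apply Subgroup.eq_of_le_of_card_ge h2
    have h3 : Nat.card (zpowers k) ∣ p := by rw [← hcard]; exact card_dvd_of_le h2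
    rcases (Nat.dvd_prime h.c.hp).1 h3 with h4 | h4
    · exfalso
      rw [card_eq_one, zpowers_eq_bot] at h4
      exact hk1 h4
    · rw [h4, hcard]
  intro d hd
  rw [← h1] at hd
  obtain ⟨n, rfl⟩ := mem_zpowers_iff.1 hd
  rw [← conj_zpow, huk, inv_zpow]

theorem C2.fix_D (h : C2 p G Ω) {a b e : Ω} (hab : a ≠ b) (hD : ∀ d ∈ D G a b, d • e = e) : e = a ∨ e = b := by
  haveI : Fact p.Prime := ⟨h.c.hp⟩
  by_contra hcon
  push Not at hcon
  obtain ⟨hea, heb⟩ := hcon
  have e1 : D G a b = D G b e := by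
    apply Subgroup.eq_of_le_of_card_ge
    · intro d hd; exact ⟨hd.2, hD d hd⟩
    · rw [h.card_D' hab, h.card_D' heb.symm]
  have e2 : D G a b = D G e a := by
    apply Subgroup.eq_of_le_of_card_ge
    · intro d hd; exact ⟨hD d hd, hd.1⟩
    · rw [h.card_D' hab, h.card_D' hea]
  obtain ⟨x, hx⟩ := h.B.exists_S a b
  obtain ⟨y, hy⟩ := h.B.exists_S b e
  obtain ⟨z, hz⟩ := h.B.exists_S e a
  set g := z * y * x with hg
  have hga : g • a = a := by rw [hg, mul_smul, mul_smul, hx.2, hy.2, hz.2]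
  have hginv : ∀ d ∈ D G a b, g * d * g⁻¹ = d⁻¹ := by
    intro d hd
    have h1 := h.D_inv hab hx d hd
    have h2 := h.D_inv heb.symm hy d⁻¹ (by rw [← e1]; exact (D G a b).inv_mem hd)
    have h3 := h.D_inv hea hz d (by rw [← e2]; exact hd)
    calc g * d * g⁻¹ = z * (y * (x * d * x⁻¹) * y⁻¹) * z⁻¹ := by rw [hg]; group
      _ = d⁻¹ := by rw [h1, h2, _root_.inv_inv, h3]
  have hgN : g ∈ normalizer (D G a b : Set G) := by
    apply mem_normalizer_of_le
    intro d hd
    rw [hginv d hd]; exact (D G a b).inv_mem hd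
  rcases Nat.even_or_odd (orderOf g) with hev | hodd
  · obtain ⟨m, hm⟩ := hev
    have hpos := orderOf_pos g
    have hτ : orderOf (g ^ m) = 2 := by
      apply orderOf_two
      · intro h1
        have := Nat.le_of_dvd (by omega) (orderOf_dvd_of_pow_eq_one h1)
        omega
      · rw [← pow_add, ← hm, pow_orderOf_eq_one]
    apply h.no_norm hab (τ := g ^ m)
    · refine ⟨hτ, ?_⟩
      have : g ^ m ∈ MulAction.stabilizer G a := pow_mem hga m
      exact this
    · exact pow_mem hgN m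
  · obtain ⟨r, hr⟩ := hodd
    have hDne : ∃ d ∈ D G a b, d ≠ 1 := by
      by_contra hcon
      push Not at hcon
      have : D G a b = ⊥ := eq_bot_iff.2 fun x hx => mem_bot.2 (hcon x hx)
      have h1 := h.card_D' hab
      rw [this, card_bot] at h1
      exact h.c.hp.one_lt.ne h1
    obtain ⟨d, hd, hd1⟩ := hDne
    have h1 : g ^ (2 * r + 1) * d * (g ^ (2 * r + 1))⁻¹ = d⁻¹ := by
      have h2 : g ^ 2 * d * (g ^ 2)⁻¹ = d := by
        have : g ^ 2 * d * (g ^ 2)⁻¹ = g * (g * d * g⁻¹) * g⁻¹ := by rw [pow_two]; group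
        rw [this, hginv d hd, hginv _ ((D G a b).inv_mem hd), _root_.inv_inv]
      have h3 : Commute (g ^ 2) d := mul_inv_eq_iff_eq_mul.1 h2
      have h4 : g ^ (2 * r) * d = d * g ^ (2 * r) := by rw [pow_mul]; exact (h3.pow_left r).eq
      calc g ^ (2 * r + 1) * d * (g ^ (2 * r + 1))⁻¹ = g * (g ^ (2 * r) * d) * (g ^ (2 * r))⁻¹ * g⁻¹ := by
            rw [pow_succ']; group
        _ = g * d * g⁻¹ := by rw [h4]; group
        _ = d⁻¹ := hginv d hd
    rw [← hr, pow_orderOf_eq_one, one_mul, inv_one, mul_one] at h1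
    apply hd1
    apply h.B.eq_one_of_sq hab hd
    nth_rewrite 1 [h1]; group

/-- a nontrivial `p`-element fixes a point -/
theorem C2.exists_fix [Finite Ω] (h : C2 p G Ω) {w : G} (hw : IsPGroup p (zpowers w)) : ∃ e : Ω, w • e = e := by
  classical
  haveI : Fact p.Prime := ⟨h.c.hp⟩
  obtain ⟨a, b, hab⟩ := h.B.two
  have h1 := (h.c.isPGroup_D h.B hab).card_modEq_card_fixedPoints Ω
  have h2 := hw.card_modEq_card_fixedPoints Ω
  have h3 : Nat.card (MulAction.fixedPoints (D G a b) Ω) = 2 := by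
    have : MulAction.fixedPoints (D G a b) Ω = {a, b} := by
      ext e
      rw [MulAction.mem_fixedPoints]
      constructor
      · intro he
        rcases h.fix_D hab (e := e) (fun d hd => he ⟨d, hd⟩) with h4 | h4
        · exact Or.inl h4
        · exact Or.inr h4
      · rintro (rfl | he) ⟨d, hd⟩
        · exact hd.1
        · rw [Set.mem_singleton_iff] at he
          rw [he]; exact hd.2
    rw [this, Nat.card_coe_set_eq, Set.ncard_pair hab]
  rw [h3] at h1
  have h4 := h2.symm.trans h1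
  have h5 : Nat.card (MulAction.fixedPoints (zpowers w) Ω) ≠ 0 := by
    intro h6
    rw [h6] at h4
    have h7 : p ∣ 2 := (Nat.modEq_zero_iff_dvd.1 h4.symm)
    have := Nat.le_of_dvd (by norm_num) h7
    have := h.c.hp3
    omega
  obtain ⟨⟨⟨e, he⟩⟩, -⟩ := (Nat.card_ne_zero.1 h5)
  exact ⟨e, he ⟨w, mem_zpowers w⟩⟩

/-- products of two involutions with different centres are `p`-elements -/
theorem C2.pel (h : C2 p G Ω) {a b : Ω} (hab : a ≠ b) {t u : G} (ht : t ∈ S G a a) (hu : u ∈ S G b b) :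
    IsPGroup p (zpowers (t * u)) := by
  haveI : Fact p.Prime := ⟨h.c.hp⟩
  haveI : Fact (Nat.Prime 2) := ⟨Nat.prime_two⟩
  set w := t * u with hw
  have hodd : Odd (orderOf w) := h.B.odd_mul ht hu hab
  have hinv : t * w * t⁻¹ = w⁻¹ := H25.Isolated.left_inverts (S_sq ht) (S_sq hu)
  have key : ∀ q : ℕ, q.Prime → q ∣ orderOf w → q = p := by
    intro q hq hd
    by_contra hne
    set y := w ^ (orderOf w / q) with hy
    have hyq : orderOf y = q := orderOf_pow_orderOf_div (orderOf_pos w).ne' hd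
    have hq2 : q ≠ 2 := by
      rintro rfl
      exact (Nat.not_even_iff_odd.2 hodd) (even_iff_two_dvd.2 hd)
    have hty : t * y * t⁻¹ = y⁻¹ := by
      rw [hy, ← conj_pow, hinv, inv_pow]
    have htN : zpowers t ≤ normalizer (zpowers y : Set G) := by
      rw [zpowers_le]
      apply mem_normalizer_of_le
      intro x hx
      obtain ⟨n, rfl⟩ := mem_zpowers_iff.1 hx
      rw [← conj_zpow, hty]
      exact zpow_mem (inv_mem (mem_zpowers y)) n
    have hcop : (Nat.card (zpowers t ⊔ zpowers y : Subgroup G)).Coprime p := by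
      apply Nat.Coprime.coprime_dvd_left (H27.Sig.card_sup_dvd_mul htN)
      rw [Nat.card_zpowers, Nat.card_zpowers, ht.1, hyq]
      exact Nat.Coprime.mul_left ((Nat.coprime_primes Nat.prime_two h.c.hp).2 (by have := h.c.hp3; omega))
        ((Nat.coprime_primes hq h.c.hp).2 hne)
    have h1 := h.c.comm hcop (q := 2) (isPGroup_inv (S_sq ht)) le_sup_left (mem_sup_right (mem_zpowers y))
      (by rw [hyq]; exact (Nat.coprime_primes hq Nat.prime_two).2 hq2) t (mem_zpowers t)
    have h2 : y = y⁻¹ := by rw [← hty, h1]; group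
    have h3 : y * y = 1 := by nth_rewrite 2 [h2]; group
    have h4 : orderOf y ∣ 2 := orderOf_dvd_of_pow_eq_one (by rw [pow_two]; exact h3)
    rw [hyq] at h4
    exact hq2 ((Nat.prime_dvd_prime_iff_eq hq Nat.prime_two).1 h4)
  apply IsPGroup.of_card (n := (orderOf w).primeFactorsList.length)
  rw [Nat.card_zpowers]
  exact Nat.eq_prime_pow_of_unique_prime_dvd (orderOf_pos w).ne' (fun {q} hq hd => key q hq hd)

theorem C2.ncard_S (h : C2 p G Ω) {a b : Ω} (hab : a ≠ b) : (S G a b).ncard ≤ p := by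
  obtain ⟨y, hy⟩ := h.B.exists_I b
  rw [← h.ncard a]
  apply Set.ncard_le_ncard_of_injOn (fun s => s⁻¹ * y * s⁻¹⁻¹)
  · intro s hs
    have h1 := S_conj hy s⁻¹
    have h2 : s⁻¹ • b = a := by rw [S_inv hs]; exact S_swap hs
    rwa [h2] at h1
  · intro s hs s' hs' hss
    have hx : s⁻¹ * y * s⁻¹⁻¹ ∈ S G a a := by
      have h1 := S_conj hy s⁻¹
      have h2 : s⁻¹ • b = a := by rw [S_inv hs]; exact S_swap hs
      rwa [h2] at h1
    apply h.B.mid_unique hx hy hab hs (by group) hs'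
    have : s⁻¹ * y * s⁻¹⁻¹ = s'⁻¹ * y * s'⁻¹⁻¹ := hss
    rw [this]; group

theorem C2.false [Finite Ω] (h : C2 p G Ω) : False := by
  classical
  obtain ⟨a, b, hab⟩ := h.B.two
  obtain ⟨t, ht⟩ := h.B.exists_I a
  have hfin : ∀ x y : Ω, (S G x y).Finite := fun x y => Set.toFinite _
  let A := {e : Ω // e ≠ a}
  haveI : Finite A := inferInstance
  haveI : Fintype A := Fintype.ofFinite A
  -- the two families
  let X := Σ e : A, (S G e.1 e.1 : Set G)
  let Y := Σ e : A, (S G e.1 (t • e.1) \ {t} : Set G)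
  have key : ∀ x : X, ∃ e : A, x.2.1 • e.1 = t • e.1 := by
    rintro ⟨⟨e, he⟩, ⟨u, hu⟩⟩
    have h1 := h.pel (fun h => he h.symm) ht hu
    obtain ⟨f, hf⟩ := h.exists_fix h1
    have h2 : u • f = t • f := by
      have h3 : t • (u • f) = f := by rw [← mul_smul]; exact hf
      calc u • f = (t * t) • (u • f) := by rw [S_sq ht, one_smul]
        _ = t • (t • (u • f)) := mul_smul _ _ _
        _ = t • f := by rw [h3]
    refine ⟨⟨f, ?_⟩, h2⟩
    rintro rfl
    rw [ht.2] at h2
    exact he (h.B.fix_eq hu.1 hu.2 h2)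
  choose φ hφ using key
  let F : X → Y := fun x => ⟨φ x, ⟨x.2.1, ⟨x.2.2.1, hφ x⟩, by
    rintro h1
    rw [Set.mem_singleton_iff] at h1
    have h2 := x.2.2
    rw [h1] at h2
    exact x.1.2 (h.B.fix_eq ht.1 h2.2 ht.2)⟩⟩
  have hF : Function.Injective F := by
    rintro ⟨⟨e, he⟩, ⟨u, hu⟩⟩ ⟨⟨e', he'⟩, ⟨u', hu'⟩⟩ hxy
    have h1 : u = u' := by
      have h2 : ∀ y y' : Y, y = y' → y.2.1 = y'.2.1 := by rintro y y' rfl; rfl
      exact h2 _ _ hxy
    subst h1
    have h2 : e = e' := h.B.fix_eq hu.1 hu.2 hu'.2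
    subst h2
    rfl
  have hle := Nat.card_le_card_of_injective F hF
  have hX : Nat.card X = Nat.card A * p := by
    rw [Nat.card_sigma]
    have : ∀ e : A, Nat.card (S G e.1 e.1 : Set G) = p := fun e => h.ncard e.1
    rw [Finset.sum_congr rfl (fun e _ => this e), Finset.sum_const, Finset.card_univ, smul_eq_mul, Nat.card_eq_fintype_card]
  have hY : Nat.card Y ≤ Nat.card A * (p - 1) := by
    rw [Nat.card_sigma]
    have : ∀ e : A, Nat.card (S G e.1 (t • e.1) \ {t} : Set G) ≤ p - 1 := by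
      rintro ⟨e, he⟩
      have hne : e ≠ t • e := fun h1 => he (h.B.fix_eq ht.1 h1.symm ht.2)
      rw [Nat.card_coe_set_eq, Set.ncard_diff_singleton_of_mem (show t ∈ S G e (t • e) from ⟨ht.1, rfl⟩)]
      have := h.ncard_S hne
      omega
    refine (Finset.sum_le_sum (fun e _ => this e)).trans ?_
    rw [Finset.sum_const, Finset.card_univ, smul_eq_mul, Nat.card_eq_fintype_card]
  have hA : 0 < Nat.card A := by
    haveI : Nonempty A := ⟨⟨b, fun h1 => hab h1.symm⟩⟩
    exact Nat.card_pos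
  have hp1 := h.c.hp.one_lt
  rw [hX] at hle
  have h3 := hle.trans hY
  have h4 := Nat.le_of_mul_le_mul_left h3 hA
  omega

end H55.SN
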