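import Cfsg.Agent.Lib.H55.SN8
import Cfsg.Agent.Lib.H55.SN6b

set_option autoImplicit false
set_option linter.unusedSimpArgs false
set_option linter.unusedSectionVars false

/-! No minimal counterexample; the theorem. -/

namespace H55.SN

open Subgroup H55.ZN H55.ZC H57.Bd

universe u v

variable {p : ℕ} {G : Type u} [Group G] [Finite G] {Ω : Type v} [MulAction G Ω]

theorem MC.c2 (c : MC p G) (B : Bd G Ω) {a : Ω} (h2 : Cfsg.pCore 2 (MulAction.stabilizer G a) ≠ ⊥) : C2 p G Ω := by
  haveI : Fact (Nat.Prime 2) := ⟨Nat.prime_two⟩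
  refine ⟨c, B, ?_⟩
  obtain ⟨b, hab⟩ : ∃ b : Ω, a ≠ b := by
    obtain ⟨x, y, hxy⟩ := B.two
    by_cases h : a = x
    · exact ⟨y, h ▸ hxy⟩
    · exact ⟨x, h⟩
  set K := MulAction.stabilizer G a with hK
  set Q := Cfsg.pCore 2 K with hQ
  have hQn : Q.Normal := inferInstance
  set L := Q ⊓ centralizer (Q : Set K) with hL
  have hCn : (centralizer (Q : Set K)).Normal := Subgroup.normal_centralizer
  have hLn : L.Normal := by rw [hL]; infer_instance
  obtain ⟨z, hz, hz1⟩ := exists_central_inv (H1.Cores.isPGroup_pCore (G := K) 2) h2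
  have hzL : z ∈ L := ⟨hz.1, mem_centralizer_iff.2 fun s hs => hz.2.2 s hs⟩
  have hd : 2 ∣ Nat.card L := by
    have := Subgroup.orderOf_dvd_natCard L hzL
    rwa [orderOf_two hz1 hz.2.1] at this
  have key : ∀ x ∈ S G a a, ∀ y ∈ S G a a, x * y = y * x := by
    intro x hx y hy
    have h3 := inv_mem_normal B hab hLn hd hx
    have h4 := inv_mem_normal B hab hLn hd hy
    exact (congrArg Subtype.val (mem_centralizer_iff.1 h3.2 _ h4.1)).symm
  intro e x hx y hy
  obtain ⟨g, hg⟩ := B.trans e a
  have h3 := S_conj hx g
  have h4 := S_conj hy g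
  rw [hg] at h3 h4
  have h5 := key _ h3 _ h4
  have h6 : x * y = g⁻¹ * ((g * x * g⁻¹) * (g * y * g⁻¹)) * g := by group
  rw [h6, h5]; group

theorem MC.false (c : MC p G) : False := by
  obtain ⟨S', hS, -⟩ := Syl.exists (K := (⊤ : Subgroup G)) (R := ⊥) (IsPGroup.of_bot) bot_le
  obtain ⟨M, hM⟩ := c.exists_se hS
  have B := of_se hM
  obtain ⟨a, -, -⟩ := B.two
  by_cases h2 : Cfsg.pCore 2 (MulAction.stabilizer G a) = ⊥
  · exact c.case1 B h2
  · exact (c.c2 B h2).false

theorem psolv_of_coprime {G : Type u} [Group G] {p : ℕ} (h : (Nat.card G).Coprime p) :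
    Cfsg.IsPSolvable p G := by
  refine ⟨1, ![⊥, ⊤], rfl, rfl, ?_, ?_, ?_⟩
  · intro i j hij
    fin_cases i <;> fin_cases j <;> simp at hij ⊢
  · intro i
    fin_cases i
    · exact (inferInstance : (⊥ : Subgroup G).Normal)
    · exact (inferInstance : (⊤ : Subgroup G).Normal)
  · intro i
    right
    fin_cases i
    show ((⊥ : Subgroup G).relIndex ⊤).Coprime p
    rw [Subgroup.relIndex_bot_left, Subgroup.card_top]
    exact h

theorem sect' (hp : p.Prime) (nil : ∀ H : Subgroup G, (Nat.card H).Coprime p → Group.IsNilpotent H) {K : Subgroup G}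
    (hK : Cfsg.IsPSolvable p K) {Q : Type*} [Group Q] [Finite Q]
    (hQ : (Nat.card Q).Coprime p) {f : K →* Q} (hf : Function.Surjective f) : Group.IsNilpotent Q := by
  haveI : Fact p.Prime := ⟨hp⟩
  obtain ⟨U, ⟨hU1, n, hU2⟩, -⟩ := (H65.PSolHall.main hK).1 ⊥ (by
    rw [Subgroup.card_bot]; exact Nat.coprime_one_left p)
  have h1 : (U.map f).index ∣ U.index := Subgroup.index_map_dvd U hf
  have h2 : (U.map f).index ∣ Nat.card Q := Subgroup.index_dvd_card _
  have h3 : (U.map f).index = 1 := by
    rw [hU2] at h1
    exact Nat.Coprime.eq_one_of_dvd (Nat.Coprime.coprime_dvd_left h2 (hQ.pow_right n)) h1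
  have h4 : U.map f = ⊤ := Subgroup.index_eq_one.1 h3
  haveI h5 : Group.IsNilpotent (U.map K.subtype) := by
    apply nil
    rw [card_map_of_injective K.subtype_injective]; exact hU1
  let e : U ≃* U.map K.subtype := U.equivMapOfInjective K.subtype K.subtype_injective
  haveI h6 : Group.IsNilpotent U := Group.nilpotent_of_surjective e.symm.toMonoidHom e.symm.surjective
  have h7 : Function.Surjective (f.comp U.subtype) := by
    intro q
    have : q ∈ U.map f := by rw [h4]; trivial
    obtain ⟨x, hx, rfl⟩ := this
    exact ⟨⟨x, hx⟩, rfl⟩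
  exact Group.nilpotent_of_surjective _ h7

theorem main (n : ℕ) : ∀ (G : Type u) [Group G] [Finite G], Nat.card G = n → ∀ p : ℕ, p.Prime → 3 < p →
    (∀ H : Subgroup G, (Nat.card H).Coprime p → Group.IsNilpotent H) → Group.IsSolvable G := by
  induction n using Nat.strong_induction_on with
  | _ n ih =>
  intro G _ _ hn p hp hp3 h
  haveI : Fact p.Prime := ⟨hp⟩
  by_contra hns
  -- proper subgroups are solvable
  have hsub : ∀ H : Subgroup G, H ≠ ⊤ → Group.IsSolvable H := by
    intro H hH
    have hlt : Nat.card H < n := by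
      rw [← hn]
      rcases Nat.lt_or_ge (Nat.card H) (Nat.card G) with h1 | h1
      · exact h1
      · exact absurd (Subgroup.eq_top_of_card_eq H (le_antisymm (Nat.le_of_dvd Nat.card_pos (card_subgroup_dvd_card H)) h1)) hH
    apply ih _ hlt H rfl p hp hp3
    intro X hX
    haveI := h (X.map H.subtype) (by rw [card_map_of_injective H.subtype_injective]; exact hX)
    let e : X ≃* X.map H.subtype := X.equivMapOfInjective H.subtype H.subtype_injective
    exact Group.nilpotent_of_surjective e.symm.toMonoidHom e.symm.surjective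
  have hsimple : IsSimpleGroup G := by
    haveI : Nontrivial G := by
      by_contra hnt
      rw [not_nontrivial_iff_subsingleton] at hnt
      apply hns
      exact isSolvable_of_comm (fun a b => Subsingleton.elim _ _)
    refine ⟨fun N hN => ?_⟩
    by_contra hcon
    push Not at hcon
    haveI hNs := hsub N hcon.2
    haveI : Nontrivial N := (nontrivial_iff_ne_bot N).2 hcon.1
    obtain ⟨r, hr, hrN⟩ := H37.QuadCore.exists_pCore_ne_bot (G := N) hNs
    haveI : Fact r.Prime := ⟨hr⟩
    set N0 := (Cfsg.pCore r N).map N.subtype with hN0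
    haveI hN0n : N0.Normal := by
      rw [← normalizer_eq_top_iff, eq_top_iff]
      refine le_trans ?_ (H13.Cores.normalizer_le_normalizer_map N (Cfsg.pCore r N))
      rw [normalizer_eq_top]
    have hN0p : IsPGroup r N0 := (H1.Cores.isPGroup_pCore r).map _
    have hN0b : N0 ≠ ⊥ := by
      intro e
      rw [hN0, map_eq_bot_iff_of_injective _ N.subtype_injective] at e
      exact hrN e
    have hN0c : IsPGroup p N0 ∨ (Nat.card N0).Coprime p := by
      by_cases hrp : r = p
      · left; rw [← hrp]; exact hN0p
      · right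
        obtain ⟨k, hk⟩ := IsPGroup.iff_card.1 hN0p
        rw [hk]
        exact Nat.Coprime.pow_left k ((Nat.coprime_primes hr hp).2 hrp)
    set π := QuotientGroup.mk' N0 with hπ
    have hq : Group.IsSolvable (G ⧸ N0) := by
      have hlt : Nat.card (G ⧸ N0) < n := by
        have h1 := Subgroup.card_eq_card_quotient_mul_card_subgroup N0
        have h2 : 1 < Nat.card N0 := by
          rw [Subgroup.one_lt_card_iff_ne_bot]; exact hN0b
        have h3 : 0 < Nat.card (G ⧸ N0) := Nat.card_pos
        rw [← hn, h1]
        nlinarith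
      apply ih _ hlt (G ⧸ N0) rfl p hp hp3
      intro H hH
      let K := H.comap π
      let f : K →* H := π.subgroupComap H
      have hf : Function.Surjective f := π.subgroupComap_surjective_of_surjective H (QuotientGroup.mk'_surjective N0)
      have hker : f.ker.map K.subtype = N0 := by
        ext x
        constructor
        · rintro ⟨y, hy, rfl⟩
          have h1 : π y = 1 := congrArg Subtype.val hy
          exact (QuotientGroup.eq_one_iff _).1 h1
        · intro hx
          have h1 : π x = 1 := (QuotientGroup.eq_one_iff x).2 hx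
          have hxK : x ∈ K := by
            show π x ∈ H
            rw [h1]; exact one_mem _
          exact ⟨⟨x, hxK⟩, Subtype.ext h1, rfl⟩
      have hps : Cfsg.IsPSolvable p K := by
        apply H37.QuadCore.isPSolvable_of_ker f hf ?_ (psolv_of_coprime hH)
        rcases hN0c with h1 | h1
        · left
          rw [← hker] at h1
          exact h1.of_equiv (f.ker.equivMapOfInjective K.subtype K.subtype_injective).symm
        · right
          rw [← hker, card_map_of_injective K.subtype_injective] at h1
          exact h1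
      exact sect' hp h hps hH hf
    apply hns
    haveI := hN0p.isNilpotent
    haveI : Group.IsSolvable N0 := inferInstance
    exact solvable_of_ker_le_range N0.subtype π (by rw [QuotientGroup.ker_mk', Subgroup.range_subtype])
  exact MC.false (p := p) ⟨hp, hp3, h, hns, hsub, hsimple⟩

end H55.SN
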