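import Cfsg.Agent.Lib.H55.ZC4
import Cfsg.Agent.S0205

set_option autoImplicit false
set_option linter.unusedSimpArgs false
set_option linter.unusedSectionVars false

/-! Simple groups in which the involution centralizers have normal 2-complements:
basics and the core functor. -/

namespace H55.TN

open Subgroup H55.ZN H55.ZC H27 H27.EquivSig

universe u

/-- the centralizers of involutions have normal 2-complements -/
def N2 (G : Type*) [Group G] : Prop :=
  ∀ t : G, orderOf t = 2 → Cfsg.HasNormalPComplement 2 ↥(centralizer ({t} : Set G))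

variable {G : Type u} [Group G] [Finite G]

omit [Finite G] in
theorem mem_sup_norm' {H N : Subgroup G} (h : H ≤ normalizer (N : Set G)) {x : G} (hx : x ∈ H ⊔ N) :
    ∃ a ∈ H, ∃ b ∈ N, x = a * b := by
  have h1 : x ∈ ((H ⊔ N : Subgroup G) : Set G) := hx
  rw [coe_mul_of_left_le_normalizer_right H N h] at h1
  obtain ⟨a, ha, b, hb, hab⟩ := h1
  exact ⟨a, ha, b, hb, hab.symm⟩

theorem odd_mem {X : Type*} [Group X] [Finite X] {N : Subgroup X} (hN : N.Normal) {k : ℕ}
    (hi : N.index = 2 ^ k) {x : X} (hx : Odd (orderOf x)) : x ∈ N := by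
  haveI := hN
  have h1 : x ^ N.index ∈ N := N.pow_index_mem x
  rw [hi] at h1
  obtain ⟨m, hm⟩ := exists_pow_eq_self_of_coprime
    (show (2 ^ k).Coprime (orderOf x) from Nat.Coprime.pow_left k (Nat.coprime_two_left.2 hx))
  rw [← hm]
  exact pow_mem h1 m

/-- the normal 2-complement of a centralizer -/
theorem comp (hC : N2 G) {t : G} (ht : orderOf t = 2) :
    ∃ (N : Subgroup (centralizer ({t} : Set G))) (k : ℕ), N.Normal ∧ (Nat.card N).Coprime 2 ∧ N.index = 2 ^ k := by
  haveI : Fact (Nat.Prime 2) := ⟨Nat.prime_two⟩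
  obtain ⟨P, N, hN, hc⟩ := hC t ht
  obtain ⟨k, hk⟩ := IsPGroup.iff_card.1 P.2
  refine ⟨N, k, hN, ?_, ?_⟩
  · have h1 := hc.index_eq_card
    have h2 := P.not_dvd_index
    rw [h1] at h2
    exact ((Nat.Prime.coprime_iff_not_dvd Nat.prime_two).2 h2).symm
  · have h1 := hc.symm.index_eq_card
    rw [h1]; exact hk

theorem mem_th (hC : N2 G) {t x : G} (ht : orderOf t = 2) (hx : x * t = t * x) (ho : Odd (orderOf x)) :
    x ∈ th t := by
  obtain ⟨N, k, hN, hc, hi⟩ := comp hC ht
  have hxC : x ∈ centralizer ({t} : Set G) := mem_centralizer_singleton_iff.2 hx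
  have h1 : (⟨x, hxC⟩ : centralizer ({t} : Set G)) ∈ N := odd_mem hN hi (by rw [Subgroup.orderOf_mk]; exact ho)
  exact ⟨⟨x, hxC⟩, H1.Cores.le_pPrimeCore hN hc h1, rfl⟩

theorem odd_of_th {t x : G} (hx : x ∈ th t) : Odd (orderOf x) := by
  have h1 : orderOf x ∣ Nat.card (th t) := by
    have := orderOf_dvd_natCard (⟨x, hx⟩ : th t)
    rwa [Subgroup.orderOf_mk] at this
  exact Nat.coprime_two_right.1 (Nat.Coprime.coprime_dvd_left h1 (th_coprime t))

/-- `C(t) = O(C(t)) P` -/
theorem dec (hC : N2 G) {t : G} (ht : orderOf t = 2) {P : Subgroup G} (hP : Syl (centralizer ({t} : Set G)) P)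
    {c : G} (hc : c * t = t * c) : ∃ k ∈ th t, ∃ s ∈ P, c = k * s := by
  haveI : Fact (Nat.Prime 2) := ⟨Nat.prime_two⟩
  obtain ⟨N, k, hN, hcN, hi⟩ := comp hC ht
  have hcC : c ∈ centralizer ({t} : Set G) := mem_centralizer_singleton_iff.2 hc
  set P' := (hP.sylow : Subgroup (centralizer ({t} : Set G))) with hP'
  have h1 : (N ⊔ P').index = 1 := by
    have h2 : (N ⊔ P').index ∣ 2 ^ k := by rw [← hi]; exact index_dvd_of_le le_sup_left
    have h3 : (N ⊔ P').index ∣ P'.index := index_dvd_of_le le_sup_right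
    have h4 : ¬ 2 ∣ P'.index := hP.sylow.not_dvd_index
    obtain ⟨j, -, hj⟩ := (Nat.dvd_prime_pow Nat.prime_two).1 h2
    rw [hj] at h3 ⊢
    rcases Nat.eq_zero_or_pos j with h5 | h5
    · rw [h5, pow_zero]
    · exact absurd ((dvd_pow_self 2 h5.ne').trans h3) h4
  have h2 : (⟨c, hcC⟩ : centralizer ({t} : Set G)) ∈ N ⊔ P' := by
    rw [index_eq_one.1 h1]; trivial
  have h3 : (⟨c, hcC⟩ : centralizer ({t} : Set G)) ∈ P' ⊔ N := by rwa [sup_comm]
  obtain ⟨a, ha, b, hb, hab⟩ := mem_sup_norm' (H := P') (N := N) (by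
    rw [normalizer_eq_top_iff.2 hN]; exact le_top) h3
  have hb' : a * b * a⁻¹ ∈ N := hN.conj_mem b hb a
  refine ⟨((a * b * a⁻¹ : centralizer ({t} : Set G)) : G), ⟨_, H1.Cores.le_pPrimeCore hN hcN hb', rfl⟩, (a : G),
    mem_subgroupOf.1 ha, ?_⟩
  have h4 : c = a * b := congrArg Subtype.val hab
  rw [h4]
  show (a : G) * b = a * b * (a : G)⁻¹ * a
  group

/-- fusion in `C(t)` is controlled by a Sylow 2-subgroup -/
theorem fus (hC : N2 G) {t : G} (ht : orderOf t = 2) {P : Subgroup G} (hP : Syl (centralizer ({t} : Set G)) P)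
    {h x : G} (hh : h * t = t * h) (hx : x ∈ P) (hhx : h * x * h⁻¹ ∈ P) : ∃ s ∈ P, h * x * h⁻¹ = s * x * s⁻¹ := by
  haveI : Fact (Nat.Prime 2) := ⟨Nat.prime_two⟩
  obtain ⟨k, hk, s, hs, rfl⟩ := dec hC ht hP hh
  refine ⟨s, hs, ?_⟩
  set y := s * x * s⁻¹ with hy
  have hyP : y ∈ P := P.mul_mem (P.mul_mem hs hx) (P.inv_mem hs)
  have h1 : k * s * x * (k * s)⁻¹ = k * y * k⁻¹ := by rw [hy]; group
  rw [h1] at hhx ⊢
  have h2 : k * y * k⁻¹ * y⁻¹ ∈ P := P.mul_mem hhx (P.inv_mem hyP)
  have h3 : k * y * k⁻¹ * y⁻¹ ∈ th t := by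
    have h4 : y * k⁻¹ * y⁻¹ ∈ th t := (mem_normalizer_iff.1 (th_norm t (hP.1 hyP)) _).1 ((th t).inv_mem hk)
    have h5 : k * y * k⁻¹ * y⁻¹ = k * (y * k⁻¹ * y⁻¹) := by group
    rw [h5]; exact (th t).mul_mem hk h4
  have h4 : k * y * k⁻¹ * y⁻¹ = 1 := by
    have h5 : Disjoint P (th t) := by
      obtain ⟨j, hj⟩ := IsPGroup.iff_card.1 hP.2.1
      apply Subgroup.disjoint_of_coprime_natCard
      rw [hj]
      exact Nat.Coprime.pow_left j (th_coprime t).symm
    exact Subgroup.disjoint_def.1 h5 h2 h3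
  exact mul_inv_eq_one.1 h4

/-- the functor -/
theorem sig (hC : N2 G) : H27.EquivSig.Hyp 2 (fun a : G => th a) := by
  haveI : Fact (Nat.Prime 2) := ⟨Nat.prime_two⟩
  refine ⟨?_, fun a _ => th_le a, fun a _ h => ?_, fun a ha => ?_, fun a g _ => th_conj a g, ?_⟩
  · intro A h1 h2 h3 θ h4 h5 h6 h7 h8
    exact Cfsg.Agent.S0217.result A h1 h2 h3 θ h4 h5 h6 h7 h8
  · exact (Nat.Prime.coprime_iff_not_dvd Nat.prime_two).mp (th_coprime a).symm h
  · exact Cfsg.Agent.S0205.result (Nat.coprime_two_right.1 (th_coprime a))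
  · intro a b ha hb hab x hx
    exact mem_th hC hb.1 (mem_centralizer_singleton_iff.1 hx.2) (odd_of_th hx.1)

/-- index of a centralizer -/
theorem relIndex_le {N : Subgroup G} {z : G} (E : Set G) (h : ∀ n ∈ N, n * z * n⁻¹ ∈ E) :
    (N ⊓ centralizer ({z} : Set G)).relIndex N ≤ E.ncard := by
  let C := (N ⊓ centralizer ({z} : Set G)).subgroupOf N
  have hrel : ∀ a b : N, a⁻¹ * b ∈ C ↔ (a : G) * z * (a : G)⁻¹ = b * z * (b : G)⁻¹ := by
    intro a b
    rw [mem_subgroupOf, mem_inf, mem_centralizer_singleton_iff]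
    constructor
    · rintro ⟨-, h1⟩
      have h2 : ((a : G)⁻¹ * b) * z = z * ((a : G)⁻¹ * b) := h1
      calc (a : G) * z * (a : G)⁻¹ = a * (z * ((a : G)⁻¹ * b)) * (b : G)⁻¹ := by group
        _ = b * z * (b : G)⁻¹ := by rw [← h2]; group
    · intro h1
      refine ⟨(a⁻¹ * b).2, ?_⟩
      show ((a : G)⁻¹ * b) * z = z * ((a : G)⁻¹ * b)
      calc ((a : G)⁻¹ * b) * z = (a : G)⁻¹ * (b * z * (b : G)⁻¹) * b := by group
        _ = z * ((a : G)⁻¹ * b) := by rw [← h1]; group
  let f : N ⧸ C → E := Quotient.lift (fun n : N => (⟨n * z * (n : G)⁻¹, h n n.2⟩ : E)) (by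
    intro a b hab
    have h1 : a⁻¹ * b ∈ C := QuotientGroup.leftRel_apply.1 hab
    exact Subtype.ext ((hrel a b).1 h1))
  have hf : Function.Injective f := by
    intro x y
    induction x using QuotientGroup.induction_on with
    | H a =>
    induction y using QuotientGroup.induction_on with
    | H b =>
    intro hxy
    rw [QuotientGroup.eq]
    exact (hrel a b).2 (congrArg Subtype.val hxy)
  have := Nat.card_le_card_of_injective f hf
  rw [Nat.card_coe_set_eq] at this
  exact this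

/-- a four-group normalized by `S` containing a central involution -/
structure UV (S : Subgroup G) (z v : G) : Prop where
  z1 : z ≠ 1
  zS : z ∈ om S
  vS : v ∈ S
  vv : v * v = 1
  v1 : v ≠ 1
  vz : v ≠ z
  act : ∀ s ∈ S, s * v * s⁻¹ = v ∨ s * v * s⁻¹ = v * z

theorem exists_UV {S A : Subgroup G} (hS : IsPGroup 2 S) (hA : Ex2 A) (hAS : A ≤ S) (hA8 : 8 ≤ Nat.card A) :
    ∃ z v : G, UV S z v := by
  classical
  haveI : Fact (Nat.Prime 2) := ⟨Nat.prime_two⟩
  have hS0 : S ≠ ⊥ := by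
    rintro rfl
    have := (le_bot_iff.1 hAS)
    rw [this, Subgroup.card_bot] at hA8
    omega
  obtain ⟨z, hz, hz1⟩ := exists_central_inv hS hS0
  by_cases hw : ∃ w ∈ om S, w ≠ 1 ∧ w ≠ z
  · obtain ⟨w, hw, hw1, hwz⟩ := hw
    refine ⟨z, w, hz1, hz, hw.1, hw.2.1, hw1, hwz, fun s hs => Or.inl ?_⟩
    rw [hw.2.2 s hs]; group
  · push Not at hw
    have huz : UZ S (⟨z, hz.1⟩ : S) := by
      refine ⟨hS, fun h => hz1 (congrArg Subtype.val h), Subtype.ext hz.2.1, fun x => Subtype.ext (hz.2.2 x x.2), ?_⟩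
      intro w hw2 hwc
      by_cases h1 : w = 1
      · exact Or.inl h1
      · right
        apply Subtype.ext
        exact hw w ⟨w.2, congrArg Subtype.val hw2, fun s hs => congrArg Subtype.val (hwc ⟨s, hs⟩)⟩
          (fun h => h1 (Subtype.ext h))
    obtain ⟨a, haA, ha⟩ : ∃ a ∈ A, a ≠ 1 ∧ a ≠ z := by
      by_contra hcon
      push Not at hcon
      have h1 : (A : Set G) ⊆ {1, z} := by
        intro x hx
        by_cases h : x = 1
        · left; exact h
        · right; exact hcon x hx h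
      have h2 := Set.ncard_le_ncard h1 (Set.toFinite _)
      have h3 : ({1, z} : Set G).ncard ≤ 2 := Set.ncard_insert_le _ _ |>.trans (by rw [Set.ncard_singleton])
      rw [← Nat.card_coe_set_eq] at h2
      have h4 : Nat.card (A : Set G) = Nat.card A := rfl
      omega
    rcases huz.fm (a := ⟨a, hAS haA⟩) (fun h => ha.1 (congrArg Subtype.val h)) (Subtype.ext (hA a haA))
      (fun h => ha.2 (congrArg Subtype.val h)) with h | ⟨v, hv2, hv1, hvz, hact⟩
    · exfalso
      have h1 : (A : Set G) ⊆ {1, a, z, a * z} := by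
        intro x hx
        have h2 := h ⟨a, hAS haA⟩ (Subtype.ext (hA a haA)) (fun h => ha.1 (congrArg Subtype.val h))
          (fun h => ha.2 (congrArg Subtype.val h)) ⟨x, hAS hx⟩ (Subtype.ext (hA.comm hx haA))
        rcases h2 with h2 | h2 | h2 | h2
        · left; exact congrArg Subtype.val h2
        · right; left; exact congrArg Subtype.val h2
        · right; right; left; exact congrArg Subtype.val h2
        · right; right; right; exact congrArg Subtype.val h2
      have h2 := Set.ncard_le_ncard h1 (Set.toFinite _)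
      have h3 : ({1, a, z, a * z} : Set G).ncard ≤ 4 := by
        refine (Set.ncard_insert_le _ _).trans ?_
        have := (Set.ncard_insert_le a {z, a * z})
        have := (Set.ncard_insert_le z {a * z})
        rw [Set.ncard_singleton] at this
        omega
      rw [← Nat.card_coe_set_eq] at h2
      have h4 : Nat.card (A : Set G) = Nat.card A := rfl
      omega
    · refine ⟨z, v, hz1, hz, v.2, congrArg Subtype.val hv2, fun h => hv1 (Subtype.ext h),
        fun h => hvz (Subtype.ext h), fun s hs => ?_⟩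
      rcases hact ⟨s, hs⟩ with h | h
      · left; exact congrArg Subtype.val h
      · right; exact congrArg Subtype.val h

end H55.TN
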