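import Cfsg.Agent.Lib.H55.TN1

set_option autoImplicit false
set_option linter.unusedSimpArgs false
set_option linter.unusedSectionVars false

/-! Rank at least 3: every involution lies in an elementary abelian group of order 8, and the functor is constant. -/

namespace H55.TN

open Subgroup H55.ZN H55.ZC H27 H27.EquivSig

universe u

variable {G : Type u} [Group G] [Finite G]

theorem UV.zz {S : Subgroup G} {z v : G} (h : UV S z v) : z * z = 1 := h.zS.2.1

theorem UV.vz' {S : Subgroup G} {z v : G} (h : UV S z v) : v * z = z * v := h.zS.2.2 v h.vS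

/-- the four-group -/
abbrev UU (z v : G) : Subgroup G := zpowers v ⊔ zpowers z

theorem UV.ex2 {S : Subgroup G} {z v : G} (h : UV S z v) : Ex2 (UU z v) :=
  (card_four h.vv h.zz h.vz' h.v1 h.z1 h.vz).1

theorem UV.four {S : Subgroup G} {z v : G} (h : UV S z v) : 4 ≤ Nat.card (UU z v) :=
  (card_four h.vv h.zz h.vz' h.v1 h.z1 h.vz).2

theorem mem_UU {z v x : G} (hx : x ∈ UU z v) (hv : v * v = 1) (hz : z * z = 1) (hc : v * z = z * v) :
    ∃ i j : ℕ, x = v ^ i * z ^ j := by
  obtain ⟨a, ha, b, hb, rfl⟩ := mem_sup_norm' (H := zpowers v) (N := zpowers z) (by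
    intro y hy
    apply mem_normalizer_of_le
    intro w hw
    obtain ⟨i, rfl⟩ := mem_zpowers_iff.1 hy
    obtain ⟨j, rfl⟩ := mem_zpowers_iff.1 hw
    have : v ^ i * z ^ j * (v ^ i)⁻¹ = z ^ j := by
      rw [((show Commute v z from hc).zpow_zpow i j).eq]; group
    rw [this]; exact zpow_mem (mem_zpowers z) j) hx
  have ha' := mem_powers_iff_mem_zpowers.2 ha
  have hb' := mem_powers_iff_mem_zpowers.2 hb
  obtain ⟨i, rfl⟩ := (Submonoid.mem_powers_iff _ _).1 ha'
  obtain ⟨j, rfl⟩ := (Submonoid.mem_powers_iff _ _).1 hb'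
  exact ⟨i, j, rfl⟩

theorem v_mem (z v : G) : v ∈ UU z v := (le_sup_left : zpowers v ≤ _) (mem_zpowers v)
theorem z_mem (z v : G) : z ∈ UU z v := (le_sup_right : zpowers z ≤ _) (mem_zpowers z)

theorem UV.le {S : Subgroup G} {z v : G} (h : UV S z v) : UU z v ≤ S :=
  sup_le (zpowers_le.2 h.vS) (zpowers_le.2 h.zS.1)

/-- commuting with `v` and `z` -/
theorem comm_UU {z v x u : G} (h1 : x * v = v * x) (h2 : x * z = z * x) (hu : u ∈ UU z v) : x * u = u * x := by
  have : UU z v ≤ centralizer ({x} : Set G) := by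
    apply sup_le
    · rw [zpowers_le, mem_centralizer_singleton_iff]; exact h1.symm
    · rw [zpowers_le, mem_centralizer_singleton_iff]; exact h2.symm
  exact (mem_centralizer_singleton_iff.1 (this hu)).symm

theorem pair_ncard (a b : G) : ({a, b} : Set G).ncard ≤ 2 :=
  (Set.ncard_insert_le _ _).trans (by rw [Set.ncard_singleton])

/-- `|A ∩ C(v)| ≥ |A| / 2` -/
theorem UV.half {S : Subgroup G} {z v : G} (h : UV S z v) {A : Subgroup G} (hAS : A ≤ S) :
    Nat.card A ≤ 2 * Nat.card (A ⊓ centralizer ({v} : Set G) : Subgroup G) := by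
  have h1 := relIndex_le (N := A) (z := v) {v, v * z} (fun n hn => by
    rcases h.act n (hAS hn) with h' | h'
    · left; exact h'
    · right; exact h')
  have h2 : Nat.card (A ⊓ centralizer ({v} : Set G) : Subgroup G) * (A ⊓ centralizer ({v} : Set G)).relIndex A =
      Nat.card A := by
    have h3 := Subgroup.card_mul_index ((A ⊓ centralizer ({v} : Set G)).subgroupOf A)
    rw [H1.SZ.card_subgroupOf_of_le inf_le_left] at h3
    exact h3
  have h3 := pair_ncard v (v * z)
  calc Nat.card A = Nat.card (A ⊓ centralizer ({v} : Set G) : Subgroup G) * (A ⊓ centralizer ({v} : Set G)).relIndex A := h2.symm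
    _ ≤ Nat.card (A ⊓ centralizer ({v} : Set G) : Subgroup G) * 2 := Nat.mul_le_mul_left _ (h1.trans h3)
    _ = _ := Nat.mul_comm _ _

/-- the basic elementary abelian group -/
theorem UV.sup {S : Subgroup G} {z v : G} (h : UV S z v) {A : Subgroup G} (hA : Ex2 A) (hAS : A ≤ S) :
    Ex2 ((A ⊓ centralizer ({v} : Set G)) ⊔ UU z v) := by
  apply ex2_sup (hA.mono inf_le_left) h.ex2
  intro a ha b hb
  exact comm_UU (mem_centralizer_singleton_iff.1 ha.2) (h.zS.2.2 a (hAS ha.1)) hb

theorem big {A : Subgroup G} (hA : Ex2 A) (h : ¬ Nat.card A ≤ 4) : 8 ≤ Nat.card A := by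
  haveI : Fact (Nat.Prime 2) := ⟨Nat.prime_two⟩
  exact H27.EquivSig.pow_le_card (p := 2) (k := 2) (ex2_iff.1 hA) h

/-- the functor is constant -/
theorem UV.W_eq (hC : N2 G) {S : Subgroup G} {z v : G} (h : UV S z v) {A : Subgroup G} (hA : Ex2 A) (hAS : A ≤ S)
    (hA8 : 8 ≤ Nat.card A) : W (fun a : G => th a) A = W (fun a : G => th a) (UU z v) := by
  haveI : Fact (Nat.Prime 2) := ⟨Nat.prime_two⟩
  have hh := h.half hAS
  have h4 : 4 ≤ Nat.card (A ⊓ centralizer ({v} : Set G) : Subgroup G) := by omega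
  have h1 := (sig hC).W_eq (ex2_iff.1 hA) hA8 inf_le_left h4
  have h2 := h.sup hA hAS
  by_cases hc : Nat.card ((A ⊓ centralizer ({v} : Set G)) ⊔ UU z v : Subgroup G) ≤ 4
  · have h5 : (A ⊓ centralizer ({v} : Set G) : Subgroup G) = (A ⊓ centralizer ({v} : Set G)) ⊔ UU z v :=
      Subgroup.eq_of_le_of_card_ge le_sup_left (hc.trans h4)
    have h6 : UU z v = (A ⊓ centralizer ({v} : Set G)) ⊔ UU z v :=
      Subgroup.eq_of_le_of_card_ge le_sup_right (hc.trans h.four)
    rw [← h1, h5, ← h6]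
  · have h8 := big h2 hc
    have h5 := (sig hC).W_eq (ex2_iff.1 h2) h8 le_sup_left h4
    have h6 := (sig hC).W_eq (ex2_iff.1 h2) h8 le_sup_right h.four
    rw [← h1, h5, h6]

theorem residual_top [IsSimpleGroup G] (hna : ∃ a b : G, a * b ≠ b * a) : Cfsg.pResidual 2 G = ⊤ := by
  haveI : Fact (Nat.Prime 2) := ⟨Nat.prime_two⟩
  rcases (inferInstance : (Cfsg.pResidual 2 G).Normal).eq_bot_or_eq_top with h | h
  · exfalso
    have h1 : ∀ q : ℕ, q.Prime → q ∣ Nat.card G → q = 2 := by
      intro q hq hd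
      by_contra hq2
      haveI : Fact q.Prime := ⟨hq⟩
      obtain ⟨x, hx⟩ := exists_prime_orderOf_dvd_card' (G := G) q hd
      have h1 : x ∈ Cfsg.pResidual 2 G := by
        apply Subgroup.subset_closure
        show Nat.Coprime (orderOf x) 2
        rw [hx]
        exact (Nat.coprime_primes hq Nat.prime_two).2 hq2
      rw [h, Subgroup.mem_bot] at h1
      rw [h1, orderOf_one] at hx
      exact hq.ne_one hx.symm
    have h2 : IsPGroup 2 G := by
      rw [IsPGroup.iff_card]
      exact ⟨_, Nat.eq_prime_pow_of_unique_prime_dvd Nat.card_pos.ne' (fun {q} hq hd => h1 q hq hd)⟩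
    obtain ⟨a, b, hab⟩ := hna
    haveI : Group.IsNilpotent G := h2.isNilpotent
    haveI : Group.IsSolvable G := inferInstance
    exact hab (IsSimpleGroup.comm_iff_isSolvable.2 inferInstance a b)
  · exact h

/-- every involution lies in an elementary abelian group of order at least 8 -/
theorem UV.exists_big (hres : Cfsg.pResidual 2 G = ⊤) {S : Subgroup G} (hS : Syl ⊤ S) {z v : G}
    (h : UV S z v) {A₀ : Subgroup G} (hA : Ex2 A₀) (hAS : A₀ ≤ S) (hA8 : 8 ≤ Nat.card A₀) {a : G} (ha : orderOf a = 2) :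
    ∃ (g : G) (A : Subgroup G), Ex2 A ∧ A ≤ S ∧ 8 ≤ Nat.card A ∧ g * a * g⁻¹ ∈ A := by
  haveI : Fact (Nat.Prime 2) := ⟨Nat.prime_two⟩
  set S₀ := S ⊓ centralizer ({v} : Set G) with hS₀
  -- a conjugate in `S₀` is enough
  have key : ∀ c ∈ S₀, c * c = 1 → ∃ A : Subgroup G, Ex2 A ∧ A ≤ S ∧ 8 ≤ Nat.card A ∧ c ∈ A := by
    intro c hc hcc
    have hcv : c * v = v * c := mem_centralizer_singleton_iff.1 hc.2
    have hcz : c * z = z * c := h.zS.2.2 c hc.1
    by_cases hcU : c ∈ UU z v
    · have h2 := h.sup hA hAS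
      have hh := h.half hAS
      have h4 : 4 ≤ Nat.card (A₀ ⊓ centralizer ({v} : Set G) : Subgroup G) := by omega
      by_cases hc4 : Nat.card ((A₀ ⊓ centralizer ({v} : Set G)) ⊔ UU z v : Subgroup G) ≤ 4
      · have h5 : (A₀ ⊓ centralizer ({v} : Set G) : Subgroup G) = (A₀ ⊓ centralizer ({v} : Set G)) ⊔ UU z v :=
          Subgroup.eq_of_le_of_card_ge le_sup_left (hc4.trans h4)
        refine ⟨A₀, hA, hAS, hA8, ?_⟩
        have h6 : c ∈ (A₀ ⊓ centralizer ({v} : Set G) : Subgroup G) := by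
          rw [h5]; exact (le_sup_right : UU z v ≤ _) hcU
        exact h6.1
      · exact ⟨_, h2, sup_le (inf_le_left.trans hAS) h.le, big h2 hc4, (le_sup_right : UU z v ≤ _) hcU⟩
    · have h2 : Ex2 (UU z v ⊔ zpowers c) := by
        apply ex2_sup h.ex2 (ex2_zpowers hcc)
        intro u hu y hy
        obtain ⟨j, rfl⟩ := mem_zpowers_iff.1 hy
        exact ((show Commute u c from (comm_UU hcv hcz hu).symm).zpow_right j).eq
      refine ⟨_, h2, sup_le h.le (zpowers_le.2 hc.1), big h2 ?_, (le_sup_right : zpowers c ≤ _) (mem_zpowers c)⟩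
      intro hle
      apply hcU
      have h5 : UU z v = UU z v ⊔ zpowers c := Subgroup.eq_of_le_of_card_ge le_sup_left (hle.trans h.four)
      rw [h5]; exact (le_sup_right : zpowers c ≤ _) (mem_zpowers c)
  have hrel : S₀.relIndex S ≤ 2 :=
    (relIndex_le (N := S) (z := v) {v, v * z} (fun n hn => by
      rcases h.act n hn with h' | h'
      · left; exact h'
      · right; exact h')).trans (pair_ncard _ _)
  obtain ⟨g, hg⟩ := conj_into hS ha
  have hg' : orderOf (g⁻¹ * a * g) = 2 := by rw [orderOf_cj']; exact ha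
  by_cases hb : g⁻¹ * a * g ∈ S₀
  · obtain ⟨A, h1, h2, h3, h4⟩ := key _ hb (sq_of_order hg').1
    exact ⟨g⁻¹, A, h1, h2, h3, by rw [inv_inv]; exact h4⟩
  · have hrel2 : S₀.relIndex S = 2 := by
      have h0 : S₀.relIndex S ≠ 0 := Subgroup.index_ne_zero_of_finite
      have h1 : S₀.relIndex S ≠ 1 := by
        rw [Ne, Subgroup.relIndex_eq_one]
        intro hle
        exact hb (hle hg)
      omega
    obtain ⟨x, hx⟩ := ZC.transfer hS inf_le_left hrel2 hg (by rw [hres]; trivial) hg'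
    obtain ⟨A, h1, h2, h3, h4⟩ := key _ hx (by
      have h5 : orderOf (x * (g⁻¹ * a * g) * x⁻¹) = 2 := by rw [orderOf_cj]; exact hg'
      exact (sq_of_order h5).1)
    refine ⟨x * g⁻¹, A, h1, h2, h3, ?_⟩
    have h5 : x * g⁻¹ * a * (x * g⁻¹)⁻¹ = x * (g⁻¹ * a * g) * x⁻¹ := by group
    rw [h5]; exact h4

end H55.TN
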