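import Cfsg.Agent.Lib.H55.TN2
import Cfsg.Agent.S0112
import Cfsg.Agent.S0113

set_option autoImplicit false
set_option linter.unusedSimpArgs false
set_option linter.unusedSectionVars false

/-! Rank at least 3: the normalizer of the functor is strongly embedded. -/

namespace H55.TN

open Subgroup H55.ZN H55.ZC H27 H27.EquivSig

universe u

variable {G : Type u} [Group G] [Finite G]

theorem W_cj_le (g : G) (F : Subgroup G) : W (fun a : G => th a) (cj g F) ≤ cj g (W (fun a : G => th a) F) := by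
  apply W_le
  intro a ha ha1
  have h1 : g⁻¹ * a * g ∈ F := mem_cj.1 ha
  have h2 : a = g * (g⁻¹ * a * g) * g⁻¹ := by group
  show th a ≤ _
  rw [h2, th_conj]
  apply cj_mono
  apply le_W (θ := fun a : G => th a) h1
  intro h
  apply ha1
  rw [h2, h]; group

/-- the data -/
structure K3 (S A₀ M : Subgroup G) (z v : G) : Prop where
  hC : N2 G
  res : Cfsg.pResidual 2 G = ⊤
  hS : Syl ⊤ S
  uv : UV S z v
  hA : Ex2 A₀
  hAS : A₀ ≤ S
  hA8 : 8 ≤ Nat.card A₀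
  hM : M = normalizer (W (fun a : G => th a) (UU z v) : Set G)

variable {S A₀ M : Subgroup G} {z v : G}

theorem K3.four (k : K3 S A₀ M z v) {A : Subgroup G} (hA : Ex2 A) (hAS : A ≤ S) (hA8 : 8 ≤ Nat.card A)
    {g : G} (hg : cj g A ≤ S) : g ∈ M := by
  have h1 := k.uv.W_eq k.hC hA hAS hA8
  have h2 := k.uv.W_eq k.hC (hA.cj g) hg (by rw [card_cj]; exact hA8)
  have h3 := W_cj_le g A
  rw [h2, h1] at h3
  rw [k.hM, ← cj_eq_iff]
  exact (Subgroup.eq_of_le_of_card_ge h3 (card_cj _ _).le).symm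

theorem K3.SM (k : K3 S A₀ M z v) : S ≤ M := fun s hs =>
  k.four k.hA k.hAS k.hA8 ((cj_mono k.hAS).trans (cj_eq_iff.2 (le_normalizer hs)).le)

theorem K3.norm_S (k : K3 S A₀ M z v) {Q : Subgroup G} (hQ : Q ≤ S) {A : Subgroup G} (hA : Ex2 A) (hAQ : A ≤ Q)
    (hA8 : 8 ≤ Nat.card A) : normalizer (Q : Set G) ≤ M := fun g hg =>
  k.four hA (hAQ.trans hQ) hA8 (((cj_mono hAQ).trans (cj_eq_iff.2 hg).le).trans hQ)

theorem K3.th_le (k : K3 S A₀ M z v) {A : Subgroup G} (hA : Ex2 A) (hAS : A ≤ S) (hA8 : 8 ≤ Nat.card A) {a : G}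
    (ha : a ∈ A) (ha1 : a ≠ 1) : th a ≤ W (fun a : G => th a) (UU z v) := by
  rw [← k.uv.W_eq k.hC hA hAS hA8]
  exact le_W (θ := fun a : G => th a) ha ha1

theorem K3.WM (k : K3 S A₀ M z v) : W (fun a : G => th a) (UU z v) ≤ M := by
  rw [k.hM]; exact le_normalizer

theorem K3.sylM (k : K3 S A₀ M z v) : Syl M S :=
  ⟨k.SM, k.hS.2.1, fun R hR hle _ => k.hS.2.2 R hR hle le_top⟩

theorem K3.th_le' (k : K3 S A₀ M z v) {A : Subgroup G} (hA : Ex2 A) (hAM : A ≤ M) (hA8 : 8 ≤ Nat.card A) {a : G}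
    (ha : a ∈ A) (ha1 : a ≠ 1) : th a ≤ M := by
  obtain ⟨m, hm, hm'⟩ := k.sylM.conj hA.isPGroup hAM
  have h1 : cj m⁻¹ A ≤ S := by rw [← cj_inv_cj m S]; exact cj_mono hm'
  have h2 : m⁻¹ * a * m⁻¹⁻¹ ∈ cj m⁻¹ A := conj_mem_cj ha
  have h3 := k.th_le (hA.cj m⁻¹) h1 (by rw [card_cj]; exact hA8) h2 (by
    intro e
    apply ha1
    have : a = m * (m⁻¹ * a * m⁻¹⁻¹) * m⁻¹ := by group
    rw [this, e]; group)
  rw [th_conj] at h3
  have h4 := cj_mono (g := m) (h3.trans k.WM)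
  rw [cj_cj_inv] at h4
  exact h4.trans (cj_eq_iff.2 (le_normalizer hm)).le

theorem K3.exists_z (k : K3 S A₀ M z v) : ∃ A : Subgroup G, Ex2 A ∧ A ≤ S ∧ 8 ≤ Nat.card A ∧ z ∈ A := by
  refine ⟨A₀ ⊔ zpowers z, ?_, sup_le k.hAS (zpowers_le.2 k.uv.zS.1), ?_, (le_sup_right : zpowers z ≤ _) (mem_zpowers z)⟩
  · apply ex2_sup k.hA (ex2_zpowers k.uv.zz)
    intro a ha y hy
    obtain ⟨j, rfl⟩ := mem_zpowers_iff.1 hy
    exact ((show Commute a z from k.uv.zS.2.2 a (k.hAS ha)).zpow_right j).eq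
  · exact k.hA8.trans (Nat.le_of_dvd Nat.card_pos (card_dvd_of_le le_sup_left))

/-- centralizers inside `M` -/
theorem K3.cent_le (k : K3 S A₀ M z v) {d : G} (hd : orderOf d = 2) {R : Subgroup G}
    (hR : Syl (centralizer ({d} : Set G)) R) (hRM : R ≤ M) {A : Subgroup G} (hA : Ex2 A) (hAM : A ≤ M)
    (hA8 : 8 ≤ Nat.card A) (ha : d ∈ A) : centralizer ({d} : Set G) ≤ M := by
  intro c hc
  obtain ⟨x, hx, s, hs, rfl⟩ := dec k.hC hd hR (mem_centralizer_singleton_iff.1 hc)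
  exact M.mul_mem (k.th_le' hA hAM hA8 ha (sq_of_order hd).2 hx) (hRM hs)

theorem K3.cent_z (k : K3 S A₀ M z v) : centralizer ({z} : Set G) ≤ M := by
  obtain ⟨A, h1, h2, h3, h4⟩ := k.exists_z
  apply k.cent_le (orderOf_two k.uv.z1 k.uv.zz) (R := S) ⟨?_, k.hS.2.1, fun R hR hle _ => k.hS.2.2 R hR hle le_top⟩
    k.SM h1 (h2.trans k.SM) h3 h4
  intro s hs
  exact mem_centralizer_singleton_iff.2 (k.uv.zS.2.2 s hs)

/-- Frattini argument -/
theorem frat {L T D : Subgroup G} (hT : Syl L T) (hLM : L ≤ M) (hTM : normalizer (T : Set G) ≤ M)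
    (hn : ∀ n ∈ normalizer (D : Set G), n ∈ normalizer (L : Set G)) : normalizer (D : Set G) ≤ M := by
  intro n hn'
  have h1 := cj_eq_iff.2 (hn n hn')
  obtain ⟨l, hl, hl'⟩ := hT.conj (R := cj n T) (cj_isPGroup hT.2.1) (by rw [← h1]; exact cj_mono hT.1)
  have h2 : cj n T = cj l T := Subgroup.eq_of_le_of_card_ge hl' (by rw [card_cj, card_cj])
  have h3 : l⁻¹ * n ∈ normalizer (T : Set G) := by
    rw [← cj_eq_iff, cj_mul, h2, cj_inv_cj]
  have h4 : n = l * (l⁻¹ * n) := by group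
  rw [h4]
  exact M.mul_mem (hLM hl) (hTM h3)

/-- a Sylow 2-subgroup of `M ∩ H` whose normalizer is in `M` is Sylow in `H` -/
theorem syl_up {H R : Subgroup G} (hR : Syl (M ⊓ H) R) (hN : normalizer (R : Set G) ≤ M) : Syl H R := by
  refine ⟨hR.1.trans inf_le_right, hR.2.1, fun R' hR' hle hH => ?_⟩
  by_contra hcon
  obtain ⟨x, hx, hxR, hxn⟩ := exists_normalizing hR' hle hcon
  apply hxR
  have h1 : R ⊔ zpowers x ≤ R := hR.2.2 _ (hR'.to_le (sup_le hle (zpowers_le.2 hx))) le_sup_left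
    (sup_le hR.1 (zpowers_le.2 ⟨hN hxn, hH hx⟩))
  exact h1 ((le_sup_right : zpowers x ≤ _) (mem_zpowers x))

theorem exists_inv_pow {x : G} (hx : IsPGroup 2 (zpowers x)) (hx1 : x ≠ 1) : ∃ y ∈ zpowers x, y ≠ 1 ∧ y * y = 1 := by
  have h1 : zpowers x ≠ ⊥ := by rw [Ne, zpowers_eq_bot]; exact hx1
  obtain ⟨y, hy, hy1⟩ := exists_central_inv hx h1
  exact ⟨y, hy.1, hy1, hy.2.1⟩

theorem cyc_inv {x y y' : G} (hy : y ∈ zpowers x) (hy' : y' ∈ zpowers x) (h1 : y ≠ 1) (h1' : y' ≠ 1)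
    (h2 : y * y = 1) (h2' : y' * y' = 1) : y = y' := by
  haveI : Fact (Nat.Prime 2) := ⟨Nat.prime_two⟩
  by_contra hne
  exact H11.NormalRankOne.not_isCyclic_of_two hy hy' hne h1 h1' (by rw [pow_two]; exact h2)
    (by rw [pow_two]; exact h2') inferInstance

/-- the squares lemma -/
theorem sq_lemma {D : Subgroup G} {x z₀ : G} (hx : x ∈ normalizer (D : Set G)) (hz1 : z₀ ≠ 1) (hzz : z₀ * z₀ = 1)
    (hxz : x * z₀ * x⁻¹ ≠ z₀) (h : ∀ d ∈ D, d * d ≠ 1 → z₀ ∈ zpowers (d * d)) : Ex2 D := by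
  intro d hd
  by_contra hd1
  have h1 := h d hd hd1
  have hd' : x⁻¹ * d * x⁻¹⁻¹ ∈ D := (mem_normalizer_iff.1 (inv_mem hx) _).1 hd
  have h2 := h _ hd' (by
    intro e
    apply hd1
    calc d * d = x * ((x⁻¹ * d * x⁻¹⁻¹) * (x⁻¹ * d * x⁻¹⁻¹)) * x⁻¹ := by group
      _ = 1 := by rw [e]; group)
  obtain ⟨j, hj⟩ := mem_zpowers_iff.1 h2
  have h3 : x * z₀ * x⁻¹ ∈ zpowers (d * d) := by
    rw [mem_zpowers_iff]
    refine ⟨j, ?_⟩
    have h4 : (x⁻¹ * d * x⁻¹⁻¹) * (x⁻¹ * d * x⁻¹⁻¹) = x⁻¹ * (d * d) * x⁻¹⁻¹ := by group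
    rw [h4, conj_zpow] at hj
    rw [← hj]; group
  apply hxz
  apply cyc_inv h3 h1 _ hz1 _ hzz
  · intro e
    apply hz1
    have : z₀ = x⁻¹ * (x * z₀ * x⁻¹) * x := by group
    rw [this, e]; group
  · calc x * z₀ * x⁻¹ * (x * z₀ * x⁻¹) = x * (z₀ * z₀) * x⁻¹ := by group
      _ = 1 := by rw [hzz]; group

/-- a self-centralizing four-group forces rank 2 -/
theorem no_self {Y : Subgroup G} (hS : IsPGroup 2 S) (hYS : Y ≤ S) (hY4 : Nat.card Y = 4)
    (hc : ∀ s ∈ S, (∀ y ∈ Y, s * y = y * s) → s ∈ Y) {A : Subgroup G} (hA : Ex2 A) (hAS : A ≤ S)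
    (hYab : ∀ a ∈ Y, ∀ b ∈ Y, a * b = b * a) (hA8 : 8 ≤ Nat.card A) : False := by
  haveI : Fact (Nat.Prime 2) := ⟨Nat.prime_two⟩
  obtain ⟨n, hn⟩ := IsPGroup.iff_card.1 hS
  have h1 := Cfsg.Agent.S0112.result (X := S) (p := 2) n hn (Y.subgroupOf S)
    (by rw [H1.SZ.card_subgroupOf_of_le hYS, hY4]; norm_num) (by
      ext x
      rw [mem_centralizer_iff, mem_subgroupOf]
      constructor
      · intro h
        exact hc x x.2 (fun y hy => (congrArg Subtype.val (h ⟨y, hYS hy⟩ (mem_subgroupOf.2 hy))).symm)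
      · intro hx y hy
        exact Subtype.ext (hYab _ (mem_subgroupOf.1 hy) _ hx))
  have hAc : Nat.card A ≤ Nat.card S := Nat.le_of_dvd Nat.card_pos (card_dvd_of_le hAS)
  have hn3 : 3 ≤ n := by
    by_contra hlt
    have : 2 ^ n ≤ 2 ^ 2 := Nat.pow_le_pow_right (by norm_num) (by omega)
    omega
  obtain ⟨C, hCc, hCi⟩ := Cfsg.Agent.S0113.result (X := S) n hn3 hn h1
  set A' := A.subgroupOf S with hA'
  have hcA : Nat.card A' = Nat.card A := H1.SZ.card_subgroupOf_of_le hAS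
  have h2 : (A' ⊓ C).relIndex A' ≤ 2 := by
    have h3 : C.relIndex A' ∣ C.index := by
      haveI : C.Normal := Subgroup.normal_of_index_eq_two hCi
      exact Subgroup.relIndex_dvd_index_of_normal C A'
    rw [inf_comm, Subgroup.inf_relIndex_right]
    exact Nat.le_of_dvd (by omega) (hCi ▸ h3)
  have h4 := Subgroup.card_mul_index ((A' ⊓ C).subgroupOf A')
  rw [H1.SZ.card_subgroupOf_of_le inf_le_left] at h4
  have h5 : Nat.card (A' ⊓ C : Subgroup S) ≤ 2 := by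
    by_contra hcon
    have h6 : ∃ a ∈ (A' ⊓ C : Subgroup S), ∃ b ∈ (A' ⊓ C : Subgroup S), a ≠ 1 ∧ b ≠ 1 ∧ a ≠ b := by
      by_contra hcon'
      push Not at hcon'
      apply hcon
      by_cases h7 : ∃ a ∈ (A' ⊓ C : Subgroup S), a ≠ 1
      · obtain ⟨a, ha, ha1⟩ := h7
        have h8 : ((A' ⊓ C : Subgroup S) : Set S) ⊆ {1, a} := by
          intro x hx
          by_cases hx1 : x = 1
          · left; exact hx1
          · right; exact (hcon' a ha x hx ha1 hx1).symm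
        have h9 := Set.ncard_le_ncard h8 (Set.toFinite _)
        have h10 : ({1, a} : Set S).ncard ≤ 2 := (Set.ncard_insert_le _ _).trans (by rw [Set.ncard_singleton])
        rw [← Nat.card_coe_set_eq] at h9
        exact h9.trans h10
      · push Not at h7
        have : (A' ⊓ C : Subgroup S) = ⊥ := by rw [eq_bot_iff_forall]; exact h7
        rw [this, Subgroup.card_bot]; omega
    obtain ⟨a, ha, b, hb, ha1, hb1, hab⟩ := h6
    have hsq : ∀ x ∈ (A' ⊓ C : Subgroup S), x ^ 2 = 1 := by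
      intro x hx
      rw [pow_two]
      exact Subtype.ext (hA _ (mem_subgroupOf.1 hx.1))
    exact H11.NormalRankOne.not_isCyclic_of_two ha.2 hb.2 hab ha1 hb1 (hsq a ha) (hsq b hb) hCc
  have h6 : (A' ⊓ C).relIndex A' = ((A' ⊓ C).subgroupOf A').index := rfl
  rw [← h6, hcA] at h4
  have : Nat.card (A' ⊓ C : Subgroup S) * (A' ⊓ C).relIndex A' ≤ 2 * 2 := Nat.mul_le_mul h5 h2
  omega

end H55.TN
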