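import Cfsg.Agent.Lib.H55.TN3

set_option autoImplicit false
set_option linter.unusedSimpArgs false
set_option linter.unusedSectionVars false

/-! Rank at least 3: the main local argument. -/

namespace H55.TN

open Subgroup H55.ZN H55.ZC H27 H27.EquivSig

universe u

variable {G : Type u} [Group G] [Finite G]
variable {S A₀ M : Subgroup G} {z v : G}

/-- bad subgroups -/
def Bad (M D : Subgroup G) : Prop := D ≤ M ∧ IsPGroup 2 D ∧ D ≠ ⊥ ∧ ¬ normalizer (D : Set G) ≤ M

/-- a maximal bad subgroup in good position -/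
structure MB (S M D R : Subgroup G) : Prop where
  bad : Bad M D
  max : ∀ D' : Subgroup G, Bad M D' → Nat.card D' ≤ Nat.card D
  hR : Syl (M ⊓ normalizer (D : Set G)) R
  hDR : D ≤ R
  hRS : R ≤ S

variable {D R : Subgroup G}

theorem MB.bigN (m : MB S M D R) {Q : Subgroup G} (hQM : Q ≤ M) (hQ : IsPGroup 2 Q) (hc : Nat.card D < Nat.card Q) :
    normalizer (Q : Set G) ≤ M := by
  by_contra hcon
  have := m.max Q ⟨hQM, hQ, fun e => by rw [e, Subgroup.card_bot] at hc; have := Nat.card_pos (α := D); omega, hcon⟩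
  omega

theorem lt_of_mem {A B : Subgroup G} (h : A ≤ B) {x : G} (hx : x ∈ B) (hxA : x ∉ A) : Nat.card A < Nat.card B := by
  by_contra hcon
  have := Subgroup.eq_of_le_of_card_ge h (not_lt.1 hcon)
  exact hxA (this ▸ hx)

theorem MB.ne (k : K3 S A₀ M z v) (m : MB S M D R) : ∃ r ∈ R, r ∉ D := by
  by_contra hcon
  push Not at hcon
  have hDS : D ≤ S := m.hDR.trans m.hRS
  have hSD : ¬ S ≤ D := by
    intro h
    have h1 : D = S := le_antisymm hDS h
    apply m.bad.2.2.2
    rw [h1]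
    exact k.norm_S le_rfl k.hA k.hAS k.hA8
  obtain ⟨x, hx, hxD, hxn⟩ := exists_normalizing k.hS.2.1 hDS hSD
  apply hxD
  have h1 : R ⊔ zpowers x ≤ R := m.hR.2.2 _ (k.hS.2.1.to_le (sup_le m.hRS (zpowers_le.2 hx))) le_sup_left
    (sup_le m.hR.1 (zpowers_le.2 ⟨k.SM hx, hxn⟩))
  exact hcon x (h1 ((le_sup_right : zpowers x ≤ _) (mem_zpowers x)))

theorem MB.lt (k : K3 S A₀ M z v) (m : MB S M D R) : Nat.card D < Nat.card R := by
  obtain ⟨r, hr, hrD⟩ := m.ne k
  exact lt_of_mem m.hDR hr hrD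

theorem MB.sylN (k : K3 S A₀ M z v) (m : MB S M D R) : Syl (normalizer (D : Set G)) R :=
  syl_up m.hR (m.bigN (m.hR.1.trans inf_le_left) m.hR.2.1 (m.lt k))

theorem MB.rank (k : K3 S A₀ M z v) (m : MB S M D R) {A : Subgroup G} (hA : Ex2 A) (hAD : A ≤ D) : Nat.card A ≤ 4 := by
  by_contra hcon
  exact m.bad.2.2.2 (k.norm_S (m.hDR.trans m.hRS) hA hAD (big hA hcon))

/-- `z ∈ D` -/
theorem MB.zD (k : K3 S A₀ M z v) (m : MB S M D R) : z ∈ D := by
  by_contra hzD
  obtain ⟨d, hd, hd1⟩ := exists_central_inv m.bad.2.1 m.bad.2.2.1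
  have hdo : orderOf d = 2 := orderOf_two hd1 hd.2.1
  have hDS : D ≤ S := m.hDR.trans m.hRS
  have hDz : D ⊔ zpowers z ≤ S := sup_le hDS (zpowers_le.2 k.uv.zS.1)
  have hzz : z ∈ D ⊔ zpowers z := (le_sup_right : zpowers z ≤ _) (mem_zpowers z)
  have hDzC : D ⊔ zpowers z ≤ M ⊓ centralizer ({d} : Set G) := by
    apply le_inf (hDz.trans k.SM)
    apply sup_le
    · intro x hx
      exact mem_centralizer_singleton_iff.2 (hd.2.2 x hx)
    · rw [zpowers_le, mem_centralizer_singleton_iff]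
      exact (k.uv.zS.2.2 d (hDS hd.1)).symm
  have hlt : Nat.card D < Nat.card (D ⊔ zpowers z : Subgroup G) := lt_of_mem le_sup_left hzz hzD
  obtain ⟨Rd, hRd, hle⟩ := Syl.exists (k.hS.2.1.to_le hDz) hDzC
  have hRdM : Rd ≤ M := hRd.1.trans inf_le_left
  have hcR : Nat.card D < Nat.card Rd := hlt.trans_le (Nat.le_of_dvd Nat.card_pos (card_dvd_of_le hle))
  have hRd' : Syl (centralizer ({d} : Set G)) Rd := syl_up hRd (m.bigN hRdM hRd.2.1 hcR)
  -- an elementary abelian group of order 8 through `d` inside `M`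
  have hcd : centralizer ({d} : Set G) ≤ M := by
    obtain ⟨g, A, hA, hAS, hA8, hgA⟩ := k.uv.exists_big k.res k.hS k.hA k.hAS k.hA8 hdo
    have hA' : Ex2 (cj g⁻¹ A) := hA.cj g⁻¹
    have hdA : d ∈ cj g⁻¹ A := by
      rw [mem_cj, inv_inv]; exact hgA
    have hAC : cj g⁻¹ A ≤ centralizer ({d} : Set G) := fun x hx =>
      mem_centralizer_singleton_iff.2 (hA'.comm hx hdA)
    obtain ⟨c, hc, hc'⟩ := hRd'.conj hA'.isPGroup hAC
    have h1 : cj c⁻¹ (cj g⁻¹ A) ≤ Rd := by rw [← cj_inv_cj c Rd]; exact cj_mono hc'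
    have hdc : c * d = d * c := mem_centralizer_singleton_iff.1 hc
    apply k.cent_le hdo hRd' hRdM (hA'.cj c⁻¹) (h1.trans hRdM) (by rw [card_cj, card_cj]; exact hA8)
    rw [mem_cj, inv_inv, hdc, mul_inv_cancel_right]
    exact hdA
  apply m.bad.2.2.2
  -- Frattini for `D C(D)`
  set L := D ⊔ centralizer (D : Set G) with hL
  have hLM : L ≤ M := by
    apply sup_le m.bad.1
    refine le_trans ?_ hcd
    exact centralizer_le (Set.singleton_subset_iff.2 hd.1)
  have hDzL : D ⊔ zpowers z ≤ L := by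
    apply sup_le le_sup_left
    rw [zpowers_le]
    apply mem_sup_right
    rw [mem_centralizer_iff]
    intro x hx
    exact k.uv.zS.2.2 x (hDS hx)
  obtain ⟨T, hT, hTle⟩ := Syl.exists (k.hS.2.1.to_le hDz) hDzL
  apply frat hT hLM
  · apply m.bigN (hT.1.trans hLM) hT.2.1
    exact hlt.trans_le (Nat.le_of_dvd Nat.card_pos (card_dvd_of_le hTle))
  · intro n hn
    rw [← cj_eq_iff] at hn ⊢
    rw [hL, cj_sup, cj_centralizer, hn]

theorem mem_om_norm {D : Subgroup G} {g y : G} (hg : g ∈ normalizer (D : Set G)) (hy : y ∈ om D) :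
    g * y * g⁻¹ ∈ om D := by
  have h1 := cj_eq_iff.2 hg
  have h2 := om_cj g D
  rw [h1] at h2
  rw [h2]; exact conj_mem_cj hy

theorem MB.false (k : K3 S A₀ M z v) (m : MB S M D R) : False := by
  haveI : Fact (Nat.Prime 2) := ⟨Nat.prime_two⟩
  have hDS : D ≤ S := m.hDR.trans m.hRS
  have hzD := m.zD k
  have hzo : z ∈ om D := ⟨hzD, k.uv.zz, fun s hs => k.uv.zS.2.2 s (hDS hs)⟩
  -- an element moving `z`
  obtain ⟨g, hg, hgM⟩ : ∃ g ∈ normalizer (D : Set G), g ∉ M := by
    by_contra hcon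
    push Not at hcon
    exact m.bad.2.2.2 hcon
  have hgz : g * z * g⁻¹ ≠ z := by
    intro e
    apply hgM
    apply k.cent_z
    rw [mem_centralizer_singleton_iff]
    exact mul_inv_eq_iff_eq_mul.1 e
  set Y := om D with hY
  have hY2 : Ex2 Y := om_ex2 D
  have hYD : Y ≤ D := fun y hy => hy.1
  set w := g * z * g⁻¹ with hw
  have hwY : w ∈ Y := mem_om_norm hg hzo
  have hw1 : w ≠ 1 := by
    intro e
    apply k.uv.z1
    have : z = g⁻¹ * w * g := by rw [hw]; group
    rw [this, e]; group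
  have hww : w * w = 1 := hY2 w hwY
  obtain ⟨hV2, hV4⟩ := card_four hww k.uv.zz (hY2.comm hwY hzo) hw1 k.uv.z1 hgz
  have hVY : zpowers w ⊔ zpowers z ≤ Y := sup_le (zpowers_le.2 hwY) (zpowers_le.2 hzo)
  have hYV : Y = zpowers w ⊔ zpowers z :=
    (Subgroup.eq_of_le_of_card_ge hVY ((m.rank k hY2 hYD).trans hV4)).symm
  have hY4 : Nat.card Y = 4 := le_antisymm (m.rank k hY2 hYD) (by rw [hYV]; exact hV4)
  -- involutions of `D`
  have hinv : ∀ d ∈ D, d * d = 1 → d ∈ Y := by
    intro d hd hdd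
    have h1 : Ex2 (Y ⊔ zpowers d) := by
      apply ex2_sup hY2 (ex2_zpowers hdd)
      intro y hy x hx
      obtain ⟨j, rfl⟩ := mem_zpowers_iff.1 hx
      exact ((show Commute y d from (hy.2.2 d hd).symm).zpow_right j).eq
    have h2 := m.rank k h1 (sup_le hYD (zpowers_le.2 hd))
    have h3 : Y = Y ⊔ zpowers d := Subgroup.eq_of_le_of_card_ge le_sup_left (by rw [hY4]; exact h2)
    rw [h3]; exact (le_sup_right : zpowers d ≤ _) (mem_zpowers d)
  have hcommY : ∀ x : G, x * z = z * x → x * w = w * x → ∀ y ∈ Y, x * y = y * x := by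
    intro x h1 h2 y hy
    rw [hYV] at hy
    exact comm_UU h2 h1 hy
  -- `D` is Sylow in `C(Y)`
  have hCY : centralizer (Y : Set G) ≤ M := (centralizer_le (Set.singleton_subset_iff.2 hzo)).trans k.cent_z
  have hDC : D ≤ centralizer (Y : Set G) := by
    intro d hd
    rw [mem_centralizer_iff]
    intro y hy
    exact (hy.2.2 d hd).symm
  have hDsyl : Syl (centralizer (Y : Set G)) D := by
    obtain ⟨T, hT, hTle⟩ := Syl.exists m.bad.2.1 hDC
    by_cases hc : Nat.card D < Nat.card T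
    · exfalso
      apply m.bad.2.2.2
      apply frat hT hCY (m.bigN (hT.1.trans hCY) hT.2.1 hc)
      intro n hn
      rw [← cj_eq_iff] at hn ⊢
      rw [cj_centralizer, hY, ← om_cj, hn]
    · have : D = T := Subgroup.eq_of_le_of_card_ge hTle (not_lt.1 hc)
      rw [this]; rw [← this] at hT ⊢; exact hT
  have hSC : ∀ s ∈ S, s * w = w * s → s ∈ D := by
    intro s hs hsw
    have hsz := k.uv.zS.2.2 s hs
    have h1 : s ∈ centralizer (Y : Set G) := by
      rw [mem_centralizer_iff]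
      intro y hy
      exact (hcommY s hsz hsw y hy).symm
    have h2 : D ⊔ zpowers s ≤ D := hDsyl.2.2 _ (k.hS.2.1.to_le (sup_le hDS (zpowers_le.2 hs))) le_sup_left
      (sup_le hDC (zpowers_le.2 h1))
    exact h2 ((le_sup_right : zpowers s ≤ _) (mem_zpowers s))
  -- elements of `Y`
  have hYel : ∀ y ∈ Y, y = 1 ∨ y = w ∨ y = z ∨ y = w * z := by
    intro y hy
    have h1 : ({1, w, z, w * z} : Set G) ⊆ (Y : Set G) := by
      rintro x (rfl | rfl | rfl | rfl)
      · exact Y.one_mem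
      · exact hwY
      · exact hzo
      · exact Y.mul_mem hwY hzo
    have h2 : ({1, w, z, w * z} : Set G).ncard = 4 := by
      have hwz1 : w * z ≠ 1 := by
        intro e
        apply hgz
        calc w = w * (z * z) := by rw [k.uv.zz, mul_one]
          _ = (w * z) * z := by group
          _ = z := by rw [e, one_mul]
      have hwzw : w ≠ w * z := by
        intro e
        apply k.uv.z1
        have : w * 1 = w * z := by rw [mul_one]; exact e
        exact (mul_left_cancel this).symm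
      have hwzz : z ≠ w * z := by
        intro e
        apply hw1
        have : 1 * z = w * z := by rw [one_mul]; exact e
        exact (mul_right_cancel this).symm
      rw [Set.ncard_insert_of_notMem, Set.ncard_insert_of_notMem, Set.ncard_pair hwzz]
      · simp only [Set.mem_insert_iff, Set.mem_singleton_iff, not_or]
        exact ⟨hgz, hwzw⟩
      · simp only [Set.mem_insert_iff, Set.mem_singleton_iff, not_or]
        exact ⟨hw1.symm, k.uv.z1.symm, hwz1.symm⟩
    have h3 : ({1, w, z, w * z} : Set G) = (Y : Set G) := by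
      apply Set.eq_of_subset_of_ncard_le h1 _ (Set.toFinite _)
      rw [h2, ← Nat.card_coe_set_eq]
      exact (show Nat.card Y = 4 from hY4).le
    have h4 : y ∈ ({1, w, z, w * z} : Set G) := by rw [h3]; exact hy
    simpa using h4
  have hRN : R ≤ normalizer (D : Set G) := m.hR.1.trans inf_le_right
  -- action of `S ∩ N(D)` on `w`
  have hact : ∀ s ∈ S, s ∈ normalizer (D : Set G) → s * w * s⁻¹ = w ∨ s * w * s⁻¹ = w * z := by
    intro s hs hsn
    have hsz := k.uv.zS.2.2 s hs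
    rcases hYel _ (mem_om_norm hsn hwY) with e | e | e | e
    · exfalso; apply hw1
      have : w = s⁻¹ * (s * w * s⁻¹) * s := by group
      rw [this, e]; group
    · exact Or.inl e
    · exfalso; apply hgz
      have h1 : w = s⁻¹ * (s * w * s⁻¹) * s := by group
      rw [h1, e, mul_assoc, ← hsz]; group
    · exact Or.inr e
  -- `S` does not normalize `D`
  have hSD : ¬ S ≤ normalizer (D : Set G) := by
    intro hle
    have h1 := relIndex_le (N := A₀) (z := w) {w, w * z} (fun n hn => by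
      rcases hact n (k.hAS hn) (hle (k.hAS hn)) with h' | h'
      · left; exact h'
      · right; exact h')
    have h2 := Subgroup.card_mul_index ((A₀ ⊓ centralizer ({w} : Set G)).subgroupOf A₀)
    rw [H1.SZ.card_subgroupOf_of_le inf_le_left] at h2
    have h3 := h1.trans (pair_ncard w (w * z))
    have h4 : ((A₀ ⊓ centralizer ({w} : Set G)).subgroupOf A₀).index ≤ 2 := h3
    have h5 : A₀ ⊓ centralizer ({w} : Set G) ≤ D := fun x hx =>
      hSC x (k.hAS hx.1) (mem_centralizer_singleton_iff.1 hx.2)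
    have h6 : A₀ ⊓ centralizer ({w} : Set G) ≤ Y := fun x hx => hinv x (h5 hx) (k.hA x hx.1)
    have h7 := k.hA8
    have h8 : Nat.card (A₀ ⊓ centralizer ({w} : Set G) : Subgroup G) *
        ((A₀ ⊓ centralizer ({w} : Set G)).subgroupOf A₀).index ≤
        Nat.card (A₀ ⊓ centralizer ({w} : Set G) : Subgroup G) * 2 := Nat.mul_le_mul_left _ h4
    have h9 : A₀ ⊓ centralizer ({w} : Set G) = Y := Subgroup.eq_of_le_of_card_ge h6 (by omega)
    have h10 : w ∈ A₀ := by
      have : w ∈ A₀ ⊓ centralizer ({w} : Set G) := by rw [h9]; exact hwY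
      exact this.1
    have h11 : A₀ ≤ D := fun x hx => hSC x (k.hAS hx) (k.hA.comm hx h10)
    have := m.rank k k.hA h11
    omega
  have hSR : ¬ S ≤ R := fun h => hSD (h.trans hRN)
  obtain ⟨s, hs, hsR, hsn⟩ := exists_normalizing k.hS.2.1 m.hRS hSR
  have hsz := k.uv.zS.2.2 s hs
  have hsD : s ∉ normalizer (D : Set G) := by
    intro h
    apply hsR
    have h1 : R ⊔ zpowers s ≤ R := m.hR.2.2 _ (k.hS.2.1.to_le (sup_le m.hRS (zpowers_le.2 hs))) le_sup_left
      (sup_le m.hR.1 (zpowers_le.2 ⟨k.SM hs, h⟩))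
    exact h1 ((le_sup_right : zpowers s ≤ _) (mem_zpowers s))
  have hzw : w * z = z * w := hY2.comm hwY hzo
  have hsq : ∀ r ∈ R, r * r ∈ D := by
    intro r hr
    apply hSC _ (S.mul_mem (m.hRS hr) (m.hRS hr))
    have hrz := k.uv.zS.2.2 r (m.hRS hr)
    have h1 : r * r * w * (r * r)⁻¹ = w := by
      rcases hact r (m.hRS hr) (hRN hr) with e | e
      · calc r * r * w * (r * r)⁻¹ = r * (r * w * r⁻¹) * r⁻¹ := by group
          _ = w := by rw [e, e]
      · calc r * r * w * (r * r)⁻¹ = r * (r * w * r⁻¹) * r⁻¹ := by group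
          _ = r * (w * z) * r⁻¹ := by rw [e]
          _ = (r * w * r⁻¹) * (r * z * r⁻¹) := by group
          _ = w * z * (z * r * r⁻¹) := by rw [e, hrz]
          _ = w * (z * z) := by group
          _ = w := by rw [k.uv.zz, mul_one]
    exact mul_inv_eq_iff_eq_mul.1 h1
  have hDs : ∀ d ∈ D, d * d ∈ cj s D := by
    intro d hd
    rw [mem_cj]
    have h1 : s⁻¹ * d * s⁻¹⁻¹ ∈ R := (mem_normalizer_iff.1 (inv_mem hsn) _).1 (m.hDR hd)
    rw [inv_inv] at h1
    have h2 := hsq _ h1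
    have h3 : s⁻¹ * (d * d) * s = s⁻¹ * d * s * (s⁻¹ * d * s) := by group
    rw [h3]; exact h2
  have hE : ∀ y ∈ Y, y ∈ cj s D → y = 1 ∨ y = z := by
    intro y hy hys
    by_contra hcon
    push Not at hcon
    have hyy := hY2 y hy
    rw [mem_cj] at hys
    have h1 : s⁻¹ * y * s ∈ Y := by
      apply hinv _ hys
      calc s⁻¹ * y * s * (s⁻¹ * y * s) = s⁻¹ * (y * y) * s := by group
        _ = 1 := by rw [hyy]; group
    have h2 : y ∈ cj s Y := mem_cj.2 h1
    have h3 : z ∈ cj s Y := by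
      rw [mem_cj]
      have : s⁻¹ * z * s = z := by rw [mul_assoc, ← hsz]; group
      rw [this]; exact hzo
    obtain ⟨-, h4⟩ := card_four hyy k.uv.zz (hY2.comm hy hzo) hcon.1 k.uv.z1 hcon.2
    have h5 : zpowers y ⊔ zpowers z = Y := Subgroup.eq_of_le_of_card_ge
      (sup_le (zpowers_le.2 hy) (zpowers_le.2 hzo)) (by rw [hY4]; exact h4)
    have h6 : Y ≤ cj s Y := by
      rw [← h5]
      rw [h5]
      rw [← h5] 
      exact sup_le (zpowers_le.2 (by rw [h5]; exact h2)) (zpowers_le.2 (by rw [h5]; exact h3))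
    have h7 : Y = cj s Y := Subgroup.eq_of_le_of_card_ge h6 (by rw [card_cj])
    apply hsD
    apply mem_normalizer_of_le
    intro d hd
    apply hSC _ (S.mul_mem (S.mul_mem hs (hDS hd)) (S.inv_mem hs))
    have h8 : s⁻¹ * w * s ∈ Y := by rw [← mem_cj, ← h7]; exact hwY
    have h9 : d * (s⁻¹ * w * s) = s⁻¹ * w * s * d := h8.2.2 d hd
    calc s * d * s⁻¹ * w = s * (d * (s⁻¹ * w * s)) * s⁻¹ := by group
      _ = s * (s⁻¹ * w * s * d) * s⁻¹ := by rw [h9]
      _ = w * (s * d * s⁻¹) := by group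
  have hfin : ∀ d ∈ D, d * d ≠ 1 → z ∈ zpowers (d * d) := by
    intro d hd hdd
    have h1 : zpowers (d * d) ≤ D := zpowers_le.2 (D.mul_mem hd hd)
    obtain ⟨y, hy, hy1, hyy⟩ := exists_inv_pow (m.bad.2.1.to_le h1) hdd
    have h2 : y ∈ cj s D := (zpowers_le.2 (hDs d hd)) hy
    rcases hE y (hinv y (h1 hy) hyy) h2 with e | e
    · exact absurd e hy1
    · rw [← e]; exact hy
  have hD2 : Ex2 D := sq_lemma hg k.uv.z1 k.uv.zz hgz hfin
  have hDY : D ≤ Y := fun d hd => hinv d hd (hD2 d hd)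
  apply no_self k.hS.2.1 (hYD.trans hDS) hY4 _ k.hA k.hAS (fun a ha b hb => hY2.comm ha hb) k.hA8
  intro x hx hxY
  exact hDY (hSC x hx (hxY w hwY))

theorem K3.no_bad (k : K3 S A₀ M z v) {X : Subgroup G} (hX : Bad M X) : False := by
  classical
  obtain ⟨D, hD, hmax⟩ := Set.exists_max_image {D : Subgroup G | Bad M D} (fun D => Nat.card D) (Set.toFinite _) ⟨X, hX⟩
  have hDD : D ≤ M ⊓ normalizer (D : Set G) := le_inf hD.1 le_normalizer
  obtain ⟨R, hR, hDR⟩ := Syl.exists hD.2.1 hDD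
  obtain ⟨m, hm, hm'⟩ := k.sylM.conj hR.2.1 (hR.1.trans inf_le_left)
  have hMm : cj m⁻¹ M = M := cj_eq_iff.2 (le_normalizer (inv_mem hm))
  have hR' : cj m⁻¹ R ≤ S := by rw [← cj_inv_cj m S]; exact cj_mono hm'
  apply MB.false k (D := cj m⁻¹ D) (R := cj m⁻¹ R)
  refine ⟨⟨?_, cj_isPGroup hD.2.1, ?_, ?_⟩, ?_, ?_, cj_mono hDR, hR'⟩
  · rw [← hMm]; exact cj_mono hD.1
  · intro e
    apply hD.2.2.1
    rw [← cj_cj_inv m D, e]
    exact (cj m).map_bot
  · intro hle
    apply hD.2.2.2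
    rw [← cj_normalizer] at hle
    have h1 := cj_mono (g := m) hle
    rw [cj_cj_inv] at h1
    rw [cj_eq_iff.2 (le_normalizer hm)] at h1
    exact h1
  · intro D' hD'
    rw [card_cj]
    exact hmax D' hD'
  · have h1 := hR.cj m⁻¹
    rw [cj_inf, hMm, cj_normalizer] at h1
    exact h1

end H55.TN
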