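import Cfsg.Agent.Lib.H55.TN4
import Cfsg.Agent.Lib.H83.BdC1
import Cfsg.Agent.Lib.H36.CITfin
import Cfsg.Agent.S0214

set_option autoImplicit false
set_option linter.unusedSimpArgs false
set_option linter.unusedSectionVars false

/-! Rank at least 3: the end. -/

namespace H55.TN

open Subgroup H55.ZN H55.ZC H27 H27.EquivSig

universe u

variable {G : Type u} [Group G] [Finite G]
variable {S A₀ M : Subgroup G} {z v : G}

theorem K3.se (k : K3 S A₀ M z v) (hMt : M ≠ ⊤) : Cfsg.IsStronglyEmbedded M := by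
  haveI : Fact (Nat.Prime 2) := ⟨Nat.prime_two⟩
  have hP0 : (k.sylM.sylow : Subgroup ↥M) ≠ ⊥ := by
    intro e
    apply k.uv.z1
    have h1 : (⟨z, k.SM k.uv.zS.1⟩ : M) ∈ (k.sylM.sylow : Subgroup ↥M) := mem_subgroupOf.2 k.uv.zS.1
    rw [e, mem_bot] at h1
    exact congrArg (fun y : M => (y : G)) h1
  refine (Cfsg.Agent.S0214.result M hMt k.sylM.sylow hP0).2 ?_
  intro X hX hX0
  by_contra hcon
  apply k.no_bad (X := X.map M.subtype)
  refine ⟨map_subtype_le X, ?_, ?_, hcon⟩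
  · apply k.hS.2.1.to_le
    rintro _ ⟨y, hy, rfl⟩
    exact mem_subgroupOf.1 (hX hy)
  · intro e
    apply hX0
    rw [map_eq_bot_iff_of_injective _ M.subtype_injective] at e
    exact e

/-- the functor is trivial -/
theorem K3.th_bot (main : H16.BD.BenderThm.{u, u}) [IsSimpleGroup G] (k : K3 S A₀ M z v) (h2 : 2 ∣ Nat.card G) :
    W (fun a : G => th a) (UU z v) = ⊥ := by
  haveI : Fact (Nat.Prime 2) := ⟨Nat.prime_two⟩
  by_contra hb
  set Θ := W (fun a : G => th a) (UU z v) with hΘ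
  have hodd : ¬ 2 ∣ Nat.card Θ := by
    rw [hΘ, ← k.uv.W_eq k.hC k.hA k.hAS k.hA8]
    exact ((sig k.hC).main (ex2_iff.1 k.hA) k.hA8).1
  have hΘt : Θ ≠ ⊤ := by
    intro h
    apply hodd
    rw [h, card_top]; exact h2
  have hMt : M ≠ ⊤ := by
    intro h
    rw [k.hM, ← hΘ, normalizer_eq_top_iff] at h
    rcases h.eq_bot_or_eq_top with h | h
    · exact hb h
    · exact hΘt h
  have hse := k.se hMt
  have h3 := H83.BdC.s1221 main M hse
  have h4 : Cfsg.oddCore G = ⊥ := by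
    haveI : (Cfsg.oddCore G).Normal := by
      haveI := H1.Cores.pPrimeCore_characteristic (G := G) 2
      infer_instance
    rcases (inferInstance : (Cfsg.oddCore G).Normal).eq_bot_or_eq_top with h | h
    · exact h
    · exfalso
      have h5 : (Nat.card (Cfsg.oddCore G)).Coprime 2 := H1.Cores.coprime_card_pPrimeCore 2
      rw [h, card_top] at h5
      have := Nat.dvd_gcd h2 (dvd_refl 2)
      rw [h5] at this
      omega
  rw [h4, le_bot_iff] at h3
  have hΘM : Θ ≤ M := k.WM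
  have h5 : Θ.subgroupOf M ≤ Cfsg.oddCore ↥M := by
    apply H1.Cores.le_pPrimeCore
    · rw [k.hM]
      exact normal_in_normalizer
    · rw [H1.SZ.card_subgroupOf_of_le hΘM]
      exact ((Nat.Prime.coprime_iff_not_dvd Nat.prime_two).2 hodd).symm
  apply hb
  rw [eq_bot_iff]
  intro x hx
  rw [← h3]
  exact ⟨⟨x, hΘM hx⟩, h5 (mem_subgroupOf.2 hx), rfl⟩

theorem K3.th_all (main : H16.BD.BenderThm.{u, u}) [IsSimpleGroup G] (k : K3 S A₀ M z v) (h2 : 2 ∣ Nat.card G) {t : G} (ht : orderOf t = 2) :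
    th t = ⊥ := by
  obtain ⟨g, A, hA, hAS, hA8, hg⟩ := k.uv.exists_big k.res k.hS k.hA k.hAS k.hA8 ht
  have h1 : th (g * t * g⁻¹) = ⊥ := by
    rw [eq_bot_iff, ← k.th_bot main h2]
    apply k.th_le hA hAS hA8 hg
    intro e
    have h3 : t = 1 := by
      have : t = g⁻¹ * (g * t * g⁻¹) * g := by group
      rw [this, e]; group
    rw [h3, orderOf_one] at ht
    omega
  apply th_bot_of (g := g⁻¹)
  rw [inv_inv]; exact h1

/-- the centralizers of the involutions are 2-groups -/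
theorem K3.cit (main : H16.BD.BenderThm.{u, u}) [IsSimpleGroup G] (k : K3 S A₀ M z v) (h2 : 2 ∣ Nat.card G) (t : G) (ht : orderOf t = 2) :
    IsPGroup 2 (centralizer ({t} : Set G)) := by
  haveI : Fact (Nat.Prime 2) := ⟨Nat.prime_two⟩
  obtain ⟨P, hP, -⟩ := Syl.exists (IsPGroup.of_bot (G := G) (p := 2)) (bot_le : ⊥ ≤ centralizer ({t} : Set G))
  have h1 : centralizer ({t} : Set G) ≤ P := by
    intro c hc
    obtain ⟨x, hx, s, hs, rfl⟩ := dec k.hC ht hP (mem_centralizer_singleton_iff.1 hc)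
    rw [k.th_all main h2 ht, mem_bot] at hx
    rw [hx, one_mul]; exact hs
  exact hP.2.1.to_le h1

/-- **Part I of S3214**: rank at least 3 -/
theorem part_one (main : H16.BD.BenderThm.{u, u}) {G : Type u} [Group G] [Finite G] [IsSimpleGroup G] (hna : ∃ a b : G, a * b ≠ b * a)
    (hC : ∀ t : G, orderOf t = 2 → Cfsg.HasNormalPComplement 2 ↥(centralizer ({t} : Set G)))
    {A : Subgroup G} (hA : ∀ a ∈ A, a * a = 1) (hA8 : 8 ≤ Nat.card A) :
    ∀ t : G, orderOf t = 2 → IsPGroup 2 (centralizer ({t} : Set G)) := by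
  haveI : Fact (Nat.Prime 2) := ⟨Nat.prime_two⟩
  have h2 := H36.CITfin.even_card hna
  have hA' : Ex2 A := hA
  obtain ⟨S, hS, hAS⟩ := Syl.exists hA'.isPGroup (le_top : A ≤ ⊤)
  obtain ⟨z, v, huv⟩ := exists_UV hS.2.1 hA' hAS hA8
  have k : K3 S A (normalizer (W (fun a : G => th a) (UU z v) : Set G)) z v :=
    ⟨hC, residual_top hna, hS, huv, hA', hAS, hA8, rfl⟩
  exact k.cit main h2

end H55.TN
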