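import Cfsg.Agent.Lib.H55.ZN0

set_option autoImplicit false
set_option linter.unusedSimpArgs false

/-! The elementary Thompson subgroup `JJ T`, `ZJ T = Ω₁ Z (JJ T)`, `BB T = C_T(ZJ T)`. -/

namespace H55.ZN

open Subgroup
open scoped Pointwise

variable {G : Type*} [Group G]

/-- exponent two -/
def Ex2 (A : Subgroup G) : Prop := ∀ a ∈ A, a * a = 1

theorem Ex2.comm {A : Subgroup G} (h : Ex2 A) {x y : G} (hx : x ∈ A) (hy : y ∈ A) : x * y = y * x :=
  FF.comm' h hx hy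

theorem Ex2.inv {A : Subgroup G} (h : Ex2 A) {x : G} (hx : x ∈ A) : x⁻¹ = x :=
  inv_eq_of_mul_eq_one_left (h x hx)

theorem Ex2.isPGroup {A : Subgroup G} (h : Ex2 A) : IsPGroup 2 A := FF.isPGroup_of_sq h

theorem Ex2.mono {A B : Subgroup G} (h : Ex2 B) (hAB : A ≤ B) : Ex2 A := fun a ha => h a (hAB ha)

theorem ex2_closure {S : Set G} (h1 : ∀ x ∈ S, x * x = 1) (h2 : ∀ x ∈ S, ∀ y ∈ S, x * y = y * x) :
    Ex2 (closure S) := by
  have hc1 : ∀ x ∈ S, ∀ y ∈ closure S, x * y = y * x := by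
    intro x hx y hy
    induction hy using closure_induction with
    | mem y hy => exact h2 x hx y hy
    | one => simp
    | mul y z _ _ h3 h4 => rw [← mul_assoc, h3, mul_assoc, h4, mul_assoc]
    | inv y _ h3 =>
      have : Commute x y := h3
      exact this.inv_right
  have hc2 : ∀ x ∈ closure S, ∀ y ∈ closure S, x * y = y * x := by
    intro x hx y hy
    induction hx using closure_induction with
    | mem x hx => exact hc1 x hx y hy
    | one => simp
    | mul x z _ _ h3 h4 => rw [mul_assoc, h4, ← mul_assoc, h3, mul_assoc]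
    | inv x _ h3 =>
      have : Commute x y := h3
      exact this.inv_left
  intro x hx
  induction hx using closure_induction with
  | mem x hx => exact h1 x hx
  | one => simp
  | mul x y hx hy h3 h4 =>
    calc x * y * (x * y) = x * (y * x) * y := by group
      _ = x * (x * y) * y := by rw [hc2 y hy x hx]
      _ = (x * x) * (y * y) := by group
      _ = 1 := by rw [h3, h4, one_mul]
  | inv x _ h3 =>
    rw [← mul_inv_rev, h3, inv_one]

theorem ex2_sup {A B : Subgroup G} (hA : Ex2 A) (hB : Ex2 B) (h : ∀ a ∈ A, ∀ b ∈ B, a * b = b * a) :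
    Ex2 (A ⊔ B) := by
  rw [sup_eq_closure]
  apply ex2_closure
  · rintro x (hx | hx)
    · exact hA x hx
    · exact hB x hx
  · rintro x (hx | hx) y (hy | hy)
    · exact hA.comm hx hy
    · exact h x hx y hy
    · exact (h y hy x hx).symm
    · exact hB.comm hx hy

theorem ex2_zpowers {x : G} (h : x * x = 1) : Ex2 (zpowers x) := by
  rw [zpowers_eq_closure]
  apply ex2_closure
  · rintro y rfl; exact h
  · rintro y rfl z rfl; rfl

theorem Ex2.cj {A : Subgroup G} (h : Ex2 A) (g : G) : Ex2 (cj g A) := by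
  intro x hx
  have := h _ (mem_cj.1 hx)
  calc x * x = g * ((g⁻¹ * x * g) * (g⁻¹ * x * g)) * g⁻¹ := by group
    _ = 1 := by rw [this]; group

theorem ex2_cj_iff {A : Subgroup G} {g : G} : Ex2 (ZN.cj g A) ↔ Ex2 A := by
  constructor
  · intro h
    have := h.cj g⁻¹
    rwa [cj_inv_cj] at this
  · intro h; exact h.cj g

/-- elementary abelian subgroups of largest order -/
def IsA (T A : Subgroup G) : Prop := A ≤ T ∧ Ex2 A ∧ ∀ B : Subgroup G, B ≤ T → Ex2 B → Nat.card B ≤ Nat.card A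

theorem exists_isA [Finite G] (T : Subgroup G) : ∃ A, IsA T A := by
  obtain ⟨A, hA, hmax⟩ := Set.Finite.exists_maximalFor (fun A : Subgroup G => Nat.card A)
    {A : Subgroup G | A ≤ T ∧ Ex2 A} (Set.toFinite _)
    ⟨⊥, bot_le, by intro a ha; rw [mem_bot] at ha; rw [ha]; simp⟩
  refine ⟨A, hA.1, hA.2, fun B hB hB2 => ?_⟩
  by_contra hcon
  exact hcon (hmax ⟨hB, hB2⟩ (by simp only [not_le] at hcon; exact hcon.le))

theorem IsA.mem_of_comm [Finite G] {T A : Subgroup G} (h : IsA T A) {x : G} (hx : x ∈ T) (hx2 : x * x = 1)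
    (hc : ∀ a ∈ A, x * a = a * x) : x ∈ A := by
  have h1 : Ex2 (A ⊔ zpowers x) := by
    apply ex2_sup h.2.1 (ex2_zpowers hx2)
    intro a ha b hb
    obtain ⟨k, rfl⟩ := mem_zpowers_iff.1 hb
    have : Commute x a := hc a ha
    exact (this.zpow_left k).symm
  have h2 := h.2.2 _ (sup_le h.1 ((zpowers_le).2 hx)) h1
  have h3 := Subgroup.eq_of_le_of_card_ge (le_sup_left : A ≤ A ⊔ zpowers x) h2
  rw [h3]
  exact (le_sup_right : zpowers x ≤ _) (mem_zpowers x)

def JJ (T : Subgroup G) : Subgroup G := sSup {A | IsA T A}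
def ZJ (T : Subgroup G) : Subgroup G := sInf {A | IsA T A}

theorem IsA.le_JJ {T A : Subgroup G} (h : IsA T A) : A ≤ JJ T := le_sSup h
theorem IsA.ZJ_le {T A : Subgroup G} (h : IsA T A) : ZJ T ≤ A := sInf_le h
theorem JJ_le (T : Subgroup G) : JJ T ≤ T := sSup_le fun _ h => h.1

theorem JJ_eq_closure (T : Subgroup G) : JJ T = closure {a | ∃ A, IsA T A ∧ a ∈ A} := by
  apply le_antisymm
  · apply sSup_le
    intro A hA a ha
    exact subset_closure ⟨A, hA, ha⟩
  · rw [closure_le]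
    rintro a ⟨A, hA, ha⟩
    exact hA.le_JJ ha

theorem comm_JJ {T : Subgroup G} {x : G} (h : ∀ A, IsA T A → ∀ a ∈ A, x * a = a * x) {j : G} (hj : j ∈ JJ T) :
    x * j = j * x := by
  rw [JJ_eq_closure] at hj
  induction hj using closure_induction with
  | mem y hy => obtain ⟨A, hA, ha⟩ := hy; exact h A hA y ha
  | one => simp
  | mul y z _ _ h3 h4 => rw [← mul_assoc, h3, mul_assoc, h4, mul_assoc]
  | inv y _ h3 =>
    have : Commute x y := h3
    exact this.inv_right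

theorem ZJ_ex2 [Finite G] (T : Subgroup G) : Ex2 (ZJ T) := by
  obtain ⟨A, hA⟩ := exists_isA T
  exact hA.2.1.mono hA.ZJ_le

theorem ZJ_le_JJ [Finite G] (T : Subgroup G) : ZJ T ≤ JJ T := by
  obtain ⟨A, hA⟩ := exists_isA T
  exact hA.ZJ_le.trans hA.le_JJ

theorem ZJ_comm {T : Subgroup G} {x j : G} (hx : x ∈ ZJ T) (hj : j ∈ JJ T) : x * j = j * x :=
  comm_JJ (fun _ hA _ ha => hA.2.1.comm (hA.ZJ_le hx) ha) hj

theorem mem_ZJ [Finite G] {T : Subgroup G} {x : G} (hx : x ∈ T) (hx2 : x * x = 1) (hc : ∀ j ∈ JJ T, x * j = j * x) :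
    x ∈ ZJ T := by
  rw [ZJ, mem_sInf]
  intro A hA
  exact hA.mem_of_comm hx hx2 (fun a ha => hc a (hA.le_JJ ha))

theorem isA_cj {T A : Subgroup G} {g : G} : IsA (cj g T) (cj g A) ↔ IsA T A := by
  constructor
  · rintro ⟨h1, h2, h3⟩
    refine ⟨(cj g).le_iff_le.1 h1, ex2_cj_iff.1 h2, fun B hB hB2 => ?_⟩
    have := h3 (cj g B) (cj_mono hB) (hB2.cj g)
    rwa [card_cj, card_cj] at this
  · rintro ⟨h1, h2, h3⟩
    refine ⟨cj_mono h1, h2.cj g, fun B hB hB2 => ?_⟩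
    have := h3 (cj g⁻¹ B) (by rw [← cj_inv_cj g T]; exact cj_mono hB) (hB2.cj g⁻¹)
    rwa [card_cj, ← card_cj g A] at this

theorem isA_image (T : Subgroup G) (g : G) : {A | IsA (cj g T) A} = cj g '' {A | IsA T A} := by
  ext A
  constructor
  · intro h
    refine ⟨cj g⁻¹ A, ?_, cj_cj_inv g A⟩
    have h1 : IsA (cj g T) (cj g (cj g⁻¹ A)) := by rw [cj_cj_inv]; exact h
    exact isA_cj.1 h1
  · rintro ⟨B, hB, rfl⟩
    exact isA_cj.2 hB

theorem JJ_cj (g : G) (T : Subgroup G) : JJ (cj g T) = cj g (JJ T) := by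
  rw [JJ, JJ, isA_image, OrderIso.map_sSup, sSup_image]

theorem ZJ_cj (g : G) (T : Subgroup G) : ZJ (cj g T) = cj g (ZJ T) := by
  rw [ZJ, ZJ, isA_image, OrderIso.map_sInf, sInf_image]

theorem ZJ_congr [Finite G] {T R : Subgroup G} (h : JJ T = JJ R) : ZJ T = ZJ R := by
  have key : ∀ T R : Subgroup G, JJ T = JJ R → ZJ T ≤ ZJ R := by
    intro T R h x hx
    refine mem_ZJ ?_ (ZJ_ex2 T x hx) (fun j hj => ?_)
    · exact JJ_le R (h ▸ ZJ_le_JJ T hx)
    · rw [← h] at hj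
      exact ZJ_comm hx hj
  exact le_antisymm (key T R h) (key R T h.symm)

theorem IsA.of_le {T R A : Subgroup G} (h : IsA T A) (hAR : A ≤ R) (hRT : R ≤ T) : IsA R A :=
  ⟨hAR, h.2.1, fun B hB hB2 => h.2.2 B (hB.trans hRT) hB2⟩

theorem IsA.of_card {T A B : Subgroup G} (h : IsA T A) (hB : B ≤ T) (hB2 : Ex2 B) (hc : Nat.card A ≤ Nat.card B) :
    IsA T B := ⟨hB, hB2, fun C hC hC2 => (h.2.2 C hC hC2).trans hc⟩

theorem isA_card_eq {T A B : Subgroup G} (hA : IsA T A) (hB : IsA T B) : Nat.card A = Nat.card B :=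
  le_antisymm (hB.2.2 A hA.1 hA.2.1) (hA.2.2 B hB.1 hB.2.1)

/-- `JJ T ≤ R ≤ T` -/
theorem JJ_eq_of_le [Finite G] {T R : Subgroup G} (h1 : JJ T ≤ R) (h2 : R ≤ T) : JJ R = JJ T := by
  obtain ⟨A, hA⟩ := exists_isA T
  have hAR : IsA R A := hA.of_le (hA.le_JJ.trans h1) h2
  apply le_antisymm
  · apply sSup_le
    intro B hB
    exact (hA.of_card (hB.1.trans h2) hB.2.1 (isA_card_eq hAR hB).le).le_JJ
  · apply sSup_le
    intro B hB
    exact (hB.of_le (hB.le_JJ.trans h1) h2).le_JJ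

theorem JJ_mono [Finite G] {T R A : Subgroup G} (hTR : T ≤ R) (h1 : IsA T A) (h2 : IsA R A) : JJ T ≤ JJ R := by
  apply sSup_le
  intro B hB
  exact (h2.of_card (hB.1.trans hTR) hB.2.1 (isA_card_eq h1 hB).le).le_JJ

theorem JJ_JJ [Finite G] (T : Subgroup G) : JJ (JJ T) = JJ T := JJ_eq_of_le le_rfl (JJ_le T)

/-- central involutions -/
def om (T : Subgroup G) : Subgroup G where
  carrier := {z | z ∈ T ∧ z * z = 1 ∧ ∀ s ∈ T, s * z = z * s}
  one_mem' := ⟨one_mem _, by simp, by simp⟩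
  mul_mem' := by
    rintro x y ⟨hx, hx2, hxc⟩ ⟨hy, hy2, hyc⟩
    refine ⟨mul_mem hx hy, ?_, fun s hs => ?_⟩
    · calc x * y * (x * y) = x * (y * x) * y := by group
        _ = x * (x * y) * y := by rw [hyc x hx]
        _ = (x * x) * (y * y) := by group
        _ = 1 := by rw [hx2, hy2, one_mul]
    · rw [← mul_assoc, hxc s hs, mul_assoc, hyc s hs, mul_assoc]
  inv_mem' := by
    rintro x ⟨hx, hx2, hxc⟩
    have : x⁻¹ = x := inv_eq_of_mul_eq_one_left hx2
    rw [this]; exact ⟨hx, hx2, hxc⟩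

theorem mem_om {T : Subgroup G} {z : G} : z ∈ om T ↔ z ∈ T ∧ z * z = 1 ∧ ∀ s ∈ T, s * z = z * s := Iff.rfl

theorem om_le_ZJ [Finite G] (T : Subgroup G) : om T ≤ ZJ T := by
  intro z hz
  exact mem_ZJ hz.1 hz.2.1 (fun j hj => (hz.2.2 j (JJ_le T hj)).symm)

def BB (T : Subgroup G) : Subgroup G := T ⊓ centralizer (ZJ T : Set G)

theorem mem_BB {T : Subgroup G} {x : G} : x ∈ BB T ↔ x ∈ T ∧ ∀ z ∈ ZJ T, z * x = x * z := by
  rw [BB, mem_inf, mem_centralizer_iff]; rfl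

theorem BB_le (T : Subgroup G) : BB T ≤ T := inf_le_left

theorem JJ_le_BB (T : Subgroup G) : JJ T ≤ BB T := fun _ hj =>
  mem_BB.2 ⟨JJ_le T hj, fun _ hz => ZJ_comm hz hj⟩

theorem JJ_BB [Finite G] (T : Subgroup G) : JJ (BB T) = JJ T := JJ_eq_of_le (JJ_le_BB T) (BB_le T)

theorem ZJ_BB [Finite G] (T : Subgroup G) : ZJ (BB T) = ZJ T := ZJ_congr (JJ_BB T)

theorem BB_cj (g : G) (T : Subgroup G) : BB (cj g T) = cj g (BB T) := by
  rw [BB, BB, ZJ_cj, cj_inf, cj_centralizer]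

theorem norm_JJ {T : Subgroup G} {g : G} (h : g ∈ normalizer (T : Set G)) : g ∈ normalizer (JJ T : Set G) := by
  rw [← cj_eq_iff] at *
  rw [← JJ_cj, h]

theorem norm_ZJ {T : Subgroup G} {g : G} (h : g ∈ normalizer (T : Set G)) : g ∈ normalizer (ZJ T : Set G) := by
  rw [← cj_eq_iff] at *
  rw [← ZJ_cj, h]

theorem norm_ZJ_of_JJ [Finite G] {T : Subgroup G} {g : G} (h : g ∈ normalizer (JJ T : Set G)) :
    g ∈ normalizer (ZJ T : Set G) := by
  rw [← ZJ_congr (JJ_JJ T)]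
  exact norm_ZJ h

theorem norm_BB {T : Subgroup G} {g : G} (h : g ∈ normalizer (T : Set G)) : g ∈ normalizer (BB T : Set G) := by
  rw [← cj_eq_iff] at *
  rw [← BB_cj, h]

end H55.ZN
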