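import Cfsg.Agent.Lib.H55.CoreGen
import Cfsg.Agent.Lib.H55.ZN1
import Cfsg.Agent.S0217
import Cfsg.Agent.S0214
import Cfsg.Prelude.Def_CaseTheorems
import Cfsg.Prelude.Def_Involutions
import Cfsg.Agent.Lib.H1.Solv

set_option autoImplicit false
set_option linter.unusedSimpArgs false
set_option linter.unusedSectionVars false

/-! ZC-groups: the core functor, criteria for strong embedding and characteristic 2 type. -/

namespace H55.ZC

open Subgroup H55.ZN

variable {G : Type*} [Group G] [Finite G]

/-- the core of the centralizer -/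
abbrev th (t : G) : Subgroup G := Cfsg.centralizerPPrimeCore 2 t

/-- condition (C) -/
def HC (G : Type*) [Group G] : Prop := ∀ t : G, orderOf t = 2 → Group.IsSolvable ↥(centralizer ({t} : Set G))

theorem orderOf_two {a : G} (h1 : a ≠ 1) (h2 : a * a = 1) : orderOf a = 2 :=
  orderOf_eq_prime (by rw [pow_two]; exact h2) h1

theorem sq_of_order {a : G} (h : orderOf a = 2) : a * a = 1 ∧ a ≠ 1 := by
  constructor
  · rw [← pow_two, ← h, pow_orderOf_eq_one]
  · rintro rfl
    rw [orderOf_one] at h; omega

theorem th_le (a : G) : th a ≤ centralizer ({a} : Set G) := H27.SigBasic.centralizerPPrimeCore_le 2 a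

theorem th_comm {a x : G} (hx : x ∈ th a) : x * a = a * x := mem_centralizer_singleton_iff.1 (th_le a hx)

theorem th_coprime (a : G) : (Nat.card (th a)).Coprime 2 := by
  haveI : Fact (Nat.Prime 2) := ⟨Nat.prime_two⟩
  exact H55.CoreGen.coprime_core a

theorem th_norm (a : G) : centralizer ({a} : Set G) ≤ normalizer (th a : Set G) := by
  haveI : Fact (Nat.Prime 2) := ⟨Nat.prime_two⟩
  exact H55.CoreGen.le_normalizer_core a

theorem th_conj (a g : G) : th (g * a * g⁻¹) = cj g (th a) := by
  haveI : Fact (Nat.Prime 2) := ⟨Nat.prime_two⟩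
  exact H55.CoreGen.core_conj a g

theorem le_th {a : G} {X : Subgroup G} (h1 : X ≤ centralizer ({a} : Set G))
    (h2 : centralizer ({a} : Set G) ≤ normalizer (X : Set G)) (h3 : (Nat.card X).Coprime 2) : X ≤ th a :=
  H13.Cores.le_map_pPrimeCore h1 h2 h3

theorem isPGroup_inv {a : G} (h2 : a * a = 1) : IsPGroup 2 (zpowers a) := (ex2_zpowers h2).isPGroup

/-- solvable centralizers: normal odd-order subgroups of the centralizer of a 2-subgroup -/
theorem le_th_of_cent (hC : HC G) {b : G} (hb : b * b = 1) (hb1 : b ≠ 1) {P X : Subgroup G} (hP : IsPGroup 2 P)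
    (hPb : P ≤ centralizer ({b} : Set G)) (hX : (Nat.card X).Coprime 2) (hXb : X ≤ centralizer ({b} : Set G))
    (hXP : X ≤ centralizer (P : Set G))
    (hn : ∀ c ∈ centralizer ({b} : Set G), c ∈ centralizer (P : Set G) → c ∈ normalizer (X : Set G)) : X ≤ th b := by
  haveI : Fact (Nat.Prime 2) := ⟨Nat.prime_two⟩
  set H := centralizer ({b} : Set G) with hH
  have h1 : (X.subgroupOf H) ≤ Cfsg.pPrimeCore 2 H := by
    apply H26.SolvBal.le_pPrimeCore_of_isSolvable (hC b (orderOf_two hb1 hb)) (P := P.subgroupOf H)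
    · exact hP.comap_subtype
    · rw [H1.SZ.card_subgroupOf_of_le hXb]; exact hX
    · intro x hx
      rw [mem_centralizer_iff]
      intro y hy
      exact Subtype.ext ((mem_centralizer_iff.1 (hXP (mem_subgroupOf.1 hx))) _ (mem_subgroupOf.1 hy))
    · apply H1.Coprime.le_normalizer_of_conj_mem
      intro c hc x hx
      rw [mem_subgroupOf] at hx ⊢
      have hcP : (c : G) ∈ centralizer (P : Set G) := by
        rw [mem_centralizer_iff]
        intro y hy
        exact congrArg Subtype.val (mem_centralizer_iff.1 hc ⟨y, hPb hy⟩ (mem_subgroupOf.2 hy))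
      exact (mem_normalizer_iff.1 (hn c c.2 hcP) _).1 hx
  intro x hx
  exact ⟨⟨x, hXb hx⟩, h1 (mem_subgroupOf.2 hx), rfl⟩

/-- balance -/
theorem balance (hC : HC G) {a b : G} (ha : a * a = 1) (hb : b * b = 1) (hb1 : b ≠ 1) (hab : a * b = b * a) :
    th a ⊓ centralizer ({b} : Set G) ≤ th b := by
  have haC : zpowers a ≤ centralizer ({b} : Set G) := by
    rw [zpowers_le, mem_centralizer_singleton_iff]; exact hab
  apply le_th_of_cent hC hb hb1 (isPGroup_inv ha) haC
  · exact Nat.Coprime.coprime_dvd_left (card_dvd_of_le inf_le_left) (th_coprime a)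
  · exact inf_le_right
  · rw [H55.CoreGen.centralizer_zpowers]
    exact inf_le_left.trans (th_le a)
  · intro c hcb hca
    rw [H55.CoreGen.centralizer_zpowers] at hca
    apply mem_normalizer_of_le
    rintro x ⟨hx1, hx2⟩
    exact ⟨(mem_normalizer_iff.1 (th_norm a hca) _).1 hx1,
      Subgroup.mul_mem _ (Subgroup.mul_mem _ hcb hx2) (Subgroup.inv_mem _ hcb)⟩

/-- the functor -/
theorem sig (hC : HC G) : H27.EquivSig.Hyp 2 (fun a : G => th a) := by
  haveI : Fact (Nat.Prime 2) := ⟨Nat.prime_two⟩
  refine ⟨?_, fun a _ => th_le a, fun a _ h => ?_, fun a ha => ?_, fun a g _ => th_conj a g, ?_⟩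
  · intro A h1 h2 h3 θ h4 h5 h6 h7 h8
    exact Cfsg.Agent.S0217.result A h1 h2 h3 θ h4 h5 h6 h7 h8
  · exact (Nat.Prime.coprime_iff_not_dvd Nat.prime_two).mp (th_coprime a).symm h
  · haveI := hC a ha.1
    exact solvable_of_solvable_injective (Subgroup.inclusion_injective (th_le a))
  · intro a b ha hb hab
    exact balance hC (sq_of_order ha.1).1 (sq_of_order hb.1).1 (sq_of_order hb.1).2 hab

/-! ### strongly embedded subgroups -/

theorem exists_se {H M R : Subgroup G} (hR : Syl H R) (hRM : R ≤ M) (hR0 : R ≠ ⊥) (hne : ¬ H ≤ M)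
    (h : ∀ X : Subgroup G, X ≤ R → X ≠ ⊥ → ∀ g ∈ H, g ∈ normalizer (X : Set G) → g ∈ M) :
    ∃ K : Subgroup H, Cfsg.IsStronglyEmbedded K := by
  haveI : Fact (Nat.Prime 2) := ⟨Nat.prime_two⟩
  set K := M.subgroupOf H with hK
  have hK1 : K ≠ ⊤ := fun e => hne (subgroupOf_eq_top.1 e)
  have hsyl : Syl K (R.subgroupOf H) := by
    refine ⟨fun x hx => hRM (mem_subgroupOf.1 hx), hR.2.1.comap_subtype, fun R' hR' hle _ x hx => ?_⟩
    have h1 : R'.map H.subtype ≤ R := by
      apply hR.2.2 _ (hR'.map _)
      · intro y hy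
        exact ⟨⟨y, hR.1 hy⟩, hle (mem_subgroupOf.2 hy), rfl⟩
      · rintro _ ⟨y, -, rfl⟩; exact y.2
    exact mem_subgroupOf.2 (h1 ⟨x, hx, rfl⟩)
  have hP0 : (hsyl.sylow : Subgroup ↥K) ≠ ⊥ := by
    intro e
    apply hR0
    rw [eq_bot_iff_forall]
    intro x hx
    have h1 : (⟨⟨x, hR.1 hx⟩, hRM hx⟩ : K) ∈ (hsyl.sylow : Subgroup ↥K) := mem_subgroupOf.2 (mem_subgroupOf.2 hx)
    rw [e, mem_bot] at h1
    exact congrArg (fun y : K => ((y : H) : G)) h1
  refine ⟨K, (Cfsg.Agent.S0214.result K hK1 hsyl.sylow hP0).2 ?_⟩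
  intro X hX hX0 g hg
  apply h ((X.map K.subtype).map H.subtype) ?_ ?_ g g.2
  · apply mem_normalizer_of_le
    rintro _ ⟨y, hy, rfl⟩
    exact ⟨g * y * g⁻¹, (mem_normalizer_iff.1 hg _).1 hy, rfl⟩
  · rintro _ ⟨_, ⟨y, hy, rfl⟩, rfl⟩
    exact mem_subgroupOf.1 (mem_subgroupOf.1 (hX hy))
  · intro e
    apply hX0
    rw [map_eq_bot_iff_of_injective _ H.subtype_injective, map_eq_bot_iff_of_injective _ K.subtype_injective] at e
    exact e

/-! ### characteristic 2 type -/

theorem exists_central_inv {T : Subgroup G} (h2 : IsPGroup 2 T) (hne : T ≠ ⊥) : ∃ z ∈ om T, z ≠ 1 := by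
  haveI : Fact (Nat.Prime 2) := ⟨Nat.prime_two⟩
  haveI : Nontrivial T := (nontrivial_iff_ne_bot T).2 hne
  haveI := h2.center_nontrivial
  have h3 : IsPGroup 2 (center T) := h2.to_subgroup _
  obtain ⟨k, hk⟩ := IsPGroup.iff_card.1 h3
  have h4 : 2 ∣ Nat.card (center T) := by
    rw [hk]
    apply dvd_pow_self
    rintro rfl
    rw [pow_zero] at hk
    exact absurd hk (Finite.one_lt_card).ne'
  obtain ⟨⟨⟨z, hz⟩, hzc⟩, hz2⟩ := exists_prime_orderOf_dvd_card' 2 h4
  rw [Subgroup.orderOf_mk, Subgroup.orderOf_mk] at hz2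
  refine ⟨z, ⟨hz, (sq_of_order hz2).1, fun s hs => ?_⟩, (sq_of_order hz2).2⟩
  exact congrArg Subtype.val (mem_center_iff.1 hzc ⟨s, hs⟩)

theorem char_two_type (hC : HC G) (hev : Even (Nat.card G)) (h : ∀ t : G, orderOf t = 2 → th t = ⊥) :
    Cfsg.IsCharacteristicTwoType G := by
  haveI : Fact (Nat.Prime 2) := ⟨Nat.prime_two⟩
  refine ⟨hev, fun T hT hT0 => ?_⟩
  obtain ⟨t, ht, ht1⟩ := exists_central_inv hT hT0
  set L := normalizer (T : Set G) with hL
  set Q := Cfsg.pCore 2 L with hQ
  set D := centralizer (Q : Set L) with hD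
  have hTL : T ≤ L := le_normalizer
  have hTQ : T.subgroupOf L ≤ Q := by
    apply H1.Cores.le_pCore ?_ hT.comap_subtype
    exact Subgroup.normal_subgroupOf_of_le_normalizer le_rfl
  haveI hDn : D.Normal := inferInstance
  -- D centralizes T
  have hDT : ∀ d ∈ D, ∀ u ∈ T, (d : G) * u = u * d := by
    intro d hd u hu
    have := mem_centralizer_iff.1 hd ⟨u, hTL hu⟩ (hTQ (mem_subgroupOf.2 hu))
    exact (congrArg Subtype.val this).symm
  have hDt : ∀ d ∈ D, (d : G) ∈ centralizer ({t} : Set G) := fun d hd =>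
    mem_centralizer_singleton_iff.2 (hDT d hd t ht.1)
  have hDs : Group.IsSolvable D := by
    haveI := hC t (orderOf_two ht1 ht.2.1)
    let f : D →* ↥(centralizer ({t} : Set G)) :=
      { toFun := fun d => ⟨(d : L), hDt d.1 d.2⟩
        map_one' := rfl
        map_mul' := fun _ _ => rfl }
    apply solvable_of_solvable_injective (f := f)
    intro x y hxy
    apply Subtype.ext; apply Subtype.ext
    exact congrArg (fun z : ↥(centralizer ({t} : Set G)) => (z : G)) hxy
  -- the 2'-core of D
  have hN : Cfsg.pPrimeCore 2 D = ⊥ := by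
    set N := (Cfsg.pPrimeCore 2 D).map D.subtype with hN
    haveI hNn : N.Normal := by
      constructor
      intro n hn g
      have h1 : (g : L) ∈ normalizer (D : Set L) := by
        rw [normalizer_eq_top]; exact mem_top g
      exact (mem_normalizer_iff.1 (H13.Cores.normalizer_le_normalizer_map_pPrimeCore D h1) _).1 hn
    have hND : N ≤ D := map_subtype_le _
    have hle : N.map L.subtype ≤ th t := by
      apply le_th_of_cent hC ht.2.1 ht1 hT
      · intro u hu
        exact mem_centralizer_singleton_iff.2 (ht.2.2 u hu)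
      · rw [card_map_of_injective L.subtype_injective, hN, card_map_of_injective D.subtype_injective]
        exact H1.Cores.coprime_card_pPrimeCore 2
      · rintro _ ⟨n, hn, rfl⟩
        exact hDt n (hND hn)
      · rintro _ ⟨n, hn, rfl⟩
        rw [mem_centralizer_iff]
        intro u hu
        exact (hDT n (hND hn) u hu).symm
      · intro c _ hc
        apply mem_normalizer_of_le
        rintro _ ⟨n, hn, rfl⟩
        have hcL : c ∈ L := centralizer_le_normalizer _ hc
        exact ⟨⟨c, hcL⟩ * n * ⟨c, hcL⟩⁻¹, hNn.conj_mem n hn _, rfl⟩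
    rw [h t (orderOf_two ht1 ht.2.1), le_bot_iff, map_eq_bot_iff_of_injective _ L.subtype_injective, hN,
      map_eq_bot_iff_of_injective _ D.subtype_injective] at hle
    exact hle
  have hcc := H1.Solv.centralizer_pCore_le hDs 2 hN
  have hDQ : (Cfsg.pCore 2 D).map D.subtype ≤ Q := by
    apply H1.Cores.le_pCore ?_ ((H1.Cores.isPGroup_pCore 2).map _)
    constructor
    intro n hn g
    have h1 : (g : L) ∈ normalizer (D : Set L) := by
      rw [normalizer_eq_top]; exact mem_top g
    exact (mem_normalizer_iff.1 (H13.Cores.normalizer_le_normalizer_map D (Cfsg.pCore 2 D) h1) _).1 hn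
  intro d hd
  have h1 : (⟨d, hd⟩ : D) ∈ centralizer (Cfsg.pCore 2 D : Set D) := by
    rw [mem_centralizer_iff]
    intro q hq
    apply Subtype.ext
    have hqQ : (q : L) ∈ Q := hDQ ⟨q, hq, rfl⟩
    exact mem_centralizer_iff.1 hd _ hqQ
  exact hDQ ⟨_, hcc h1, rfl⟩

/-- version for a normal subgroup -/
theorem char_two_type_normal (hC : HC G) {Y : Subgroup G} (hY : Y.Normal) (hev : Even (Nat.card Y))
    (h : ∀ t ∈ Y, orderOf t = 2 → th t = ⊥) : Cfsg.IsCharacteristicTwoType Y := by
  haveI : Fact (Nat.Prime 2) := ⟨Nat.prime_two⟩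
  apply char_two_type ?_ hev ?_
  · intro t ht
    have ht' : orderOf (t : G) = 2 := by rw [orderOf_coe]; exact ht
    haveI := hC t ht'
    let f : ↥(centralizer ({t} : Set Y)) →* ↥(centralizer ({(t : G)} : Set G)) :=
      { toFun := fun d => ⟨((d : Y) : G), by
          rw [mem_centralizer_singleton_iff]
          exact congrArg Subtype.val (mem_centralizer_singleton_iff.1 d.2)⟩
        map_one' := rfl
        map_mul' := fun _ _ => rfl }
    apply solvable_of_solvable_injective (f := f)
    intro x y hxy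
    apply Subtype.ext; apply Subtype.ext
    exact congrArg (fun z : ↥(centralizer ({(t : G)} : Set G)) => (z : G)) hxy
  · intro t ht
    have ht' : orderOf (t : G) = 2 := by rw [orderOf_coe]; exact ht
    have h1 : (th t).map Y.subtype ≤ th (t : G) := by
      apply le_th
      · rintro _ ⟨x, hx, rfl⟩
        rw [mem_centralizer_singleton_iff]
        exact congrArg Subtype.val (th_comm hx)
      · -- C_G(t) normalizes Y and t
        intro c hc
        rw [mem_centralizer_singleton_iff] at hc
        apply mem_normalizer_of_le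
        rintro _ ⟨x, hx, rfl⟩
        -- the automorphism of Y
        let φ : MulAut Y := MulAut.conjNormal c
        have hφ : ∀ y : Y, ((φ y : Y) : G) = c * y * c⁻¹ := fun y => MulAut.conjNormal_apply c y
        have hφt : φ t = t := Subtype.ext (by rw [hφ, hc, mul_inv_cancel_right])
        have hφt' : φ.symm t = t := by rw [MulEquiv.symm_apply_eq]; exact hφt.symm
        have h2 : (th t).map φ.toMonoidHom ≤ th t := by
          apply le_th
          · rintro _ ⟨y, hy, rfl⟩
            rw [mem_centralizer_singleton_iff]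
            have := congrArg φ (th_comm hy)
            rw [map_mul, map_mul, hφt] at this
            exact this
          · intro d hd
            rw [mem_centralizer_singleton_iff] at hd
            apply mem_normalizer_of_le
            rintro _ ⟨y, hy, rfl⟩
            have hd' : φ.symm d ∈ centralizer ({t} : Set Y) := by
              rw [mem_centralizer_singleton_iff]
              have := congrArg φ.symm hd
              rw [map_mul, map_mul, hφt'] at this
              exact this
            refine ⟨φ.symm d * y * (φ.symm d)⁻¹, (mem_normalizer_iff.1 (th_norm t hd') _).1 hy, ?_⟩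
            show φ (φ.symm d * y * (φ.symm d)⁻¹) = d * φ y * d⁻¹
            rw [map_mul, map_mul, map_inv, MulEquiv.apply_symm_apply]
          · rw [card_map_of_injective (f := φ.toMonoidHom) φ.injective]
            exact th_coprime t
        exact ⟨φ x, h2 ⟨x, hx, rfl⟩, hφ x⟩
      · rw [card_map_of_injective Y.subtype_injective]
        exact th_coprime t
    rw [h t t.2 ht', le_bot_iff, map_eq_bot_iff_of_injective _ Y.subtype_injective] at h1
    exact h1

end H55.ZC
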