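import Cfsg.Agent.Lib.H55.ZC1

set_option autoImplicit false
set_option linter.unusedSimpArgs false
set_option linter.unusedSectionVars false

/-! ZC-groups: the case of a noncyclic `Ω₁(Z(S))`. -/

namespace H55.ZC

open Subgroup H55.ZN H27 H27.EquivSig

theorem frattini_core {X : Type*} [Group X] [Finite X] (hs : Group.IsSolvable X) {P : Subgroup X} (hP : Syl ⊤ P) :
    ∃ Q : Subgroup X, Q ≤ P ∧ (∀ y ∈ P, (∀ q ∈ Q, y * q = q * y) → y ∈ Q) ∧
      ∀ x : X, ∃ k ∈ Cfsg.pPrimeCore 2 X, ∃ n ∈ normalizer (Q : Set X), x = k * n := by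
  haveI : Fact (Nat.Prime 2) := ⟨Nat.prime_two⟩
  set N := Cfsg.pPrimeCore 2 X with hN
  haveI : N.Normal := inferInstance
  set π := QuotientGroup.mk' N with hπ
  set K := (Cfsg.pCore 2 (X ⧸ N)).comap π with hK
  haveI hKn : K.Normal := Subgroup.Normal.comap inferInstance π
  have hNK : N ≤ K := by
    intro n hn
    rw [hK, mem_comap]
    have : π n = 1 := (QuotientGroup.eq_one_iff n).2 hn
    rw [this]; exact one_mem _
  -- the Sylow subgroup
  let S : Sylow 2 X := ⟨P, hP.2.1, fun {R} hR hle => le_antisymm (hP.2.2 R hR hle le_top) hle⟩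
  have hKP : ∀ k ∈ K, ∃ q ∈ P ⊓ K, ∃ n ∈ N, k = n * q := by
    intro k hk
    have h1 : Cfsg.pCore 2 (X ⧸ N) ≤ ((S.mapSurjective (QuotientGroup.mk'_surjective N) : Sylow 2 (X ⧸ N)) : Subgroup (X ⧸ N)) :=
      H1.Cores.pCore_le_sylow _
    have h2 := h1 hk
    rw [Sylow.coe_mapSurjective] at h2
    obtain ⟨q, hq, hqk⟩ := h2
    have h3 : k * q⁻¹ ∈ N := by
      rw [← QuotientGroup.eq_one_iff]
      have : π (k * q⁻¹) = 1 := by
        rw [map_mul, map_inv]
        have : π q = π k := hqk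
        rw [this, mul_inv_cancel]
      exact this
    have hqK : q ∈ K := by
      have : q = (k * q⁻¹)⁻¹ * k := by group
      rw [this]; exact K.mul_mem (K.inv_mem (hNK h3)) hk
    exact ⟨q, ⟨hq, hqK⟩, k * q⁻¹, h3, by group⟩
  refine ⟨P ⊓ K, inf_le_left, ?_, ?_⟩
  · intro y hy hc
    refine ⟨hy, ?_⟩
    show π y ∈ Cfsg.pCore 2 (X ⧸ N)
    apply H26.SolvBal.centralizer_pCore_quotient_le_of_isSolvable hs
    rw [mem_centralizer_iff]
    intro w hw
    obtain ⟨k, rfl⟩ := QuotientGroup.mk'_surjective N w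
    obtain ⟨q, hq, n, hn, rfl⟩ := hKP k hw
    have h1 : π (n * q) = π q := by
      rw [map_mul]
      have : π n = 1 := (QuotientGroup.eq_one_iff n).2 hn
      rw [this, one_mul]
    show π (n * q) * π y = π y * π (n * q)
    rw [h1, ← map_mul, ← map_mul, hc q hq]
  · intro x
    have hsyl : Syl K (P ⊓ K) := by
      refine ⟨inf_le_right, hP.2.1.to_le inf_le_left, fun R hR hle hRK => ?_⟩
      obtain ⟨k, -, hk⟩ := hP.conj hR le_top
      have h1 : R ≤ cj k (P ⊓ K) := by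
        rw [cj_inf]
        apply le_inf hk
        have : cj k K = K := cj_eq_iff.2 (by rw [normalizer_eq_top]; exact mem_top k)
        rw [this]; exact hRK
      have h2 : Nat.card R ≤ Nat.card (P ⊓ K : Subgroup X) := by
        rw [← card_cj k (P ⊓ K)]
        exact Nat.le_of_dvd Nat.card_pos (card_dvd_of_le h1)
      exact (Subgroup.eq_of_le_of_card_ge hle h2).ge
    have h1 : cj x (P ⊓ K) ≤ K := by
      have : cj x K = K := cj_eq_iff.2 (by rw [normalizer_eq_top]; exact mem_top x)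
      calc cj x (P ⊓ K) ≤ cj x K := cj_mono inf_le_right
        _ = K := this
    obtain ⟨k, hk, hle⟩ := hsyl.conj (cj_isPGroup hsyl.2.1) h1
    have h2 : cj x (P ⊓ K) = cj k (P ⊓ K) := by
      apply Subgroup.eq_of_le_of_card_ge hle
      rw [card_cj, card_cj]
    obtain ⟨q, hq, n, hn, rfl⟩ := hKP k hk
    refine ⟨n, hn, n⁻¹ * x, ?_, by group⟩
    rw [← cj_eq_iff, cj_mul, h2, ← cj_mul]
    have : n⁻¹ * (n * q) = q := by group
    rw [this, cj_eq_iff]
    exact le_normalizer hq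

variable {G : Type*} [Group G] [Finite G]

/-- Frattini argument in the centralizer of an involution -/
theorem frattini_cent (hC : HC G) {t : G} (ht : orderOf t = 2) {P : Subgroup G} (hP : Syl (centralizer ({t} : Set G)) P) :
    ∃ Q : Subgroup G, Q ≤ P ∧ (∀ y ∈ P, (∀ q ∈ Q, y * q = q * y) → y ∈ Q) ∧
      ∀ x ∈ centralizer ({t} : Set G), ∃ k ∈ th t, ∃ n ∈ normalizer (Q : Set G), x = k * n := by
  set X := centralizer ({t} : Set G) with hX
  have hsyl : Syl (⊤ : Subgroup X) (P.subgroupOf X) := by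
    refine ⟨le_top, hP.2.1.comap_subtype, fun R hR hle _ x hx => ?_⟩
    have h1 : R.map X.subtype ≤ P := by
      apply hP.2.2 _ (hR.map _)
      · intro y hy
        exact ⟨⟨y, hP.1 hy⟩, hle (mem_subgroupOf.2 hy), rfl⟩
      · rintro _ ⟨y, -, rfl⟩; exact y.2
    exact mem_subgroupOf.2 (h1 ⟨x, hx, rfl⟩)
  obtain ⟨Q, hQP, h1, h2⟩ := frattini_core (hC t ht) hsyl
  refine ⟨Q.map X.subtype, ?_, ?_, ?_⟩
  · rintro _ ⟨q, hq, rfl⟩
    exact mem_subgroupOf.1 (hQP hq)
  · intro y hy hc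
    refine ⟨⟨y, hP.1 hy⟩, h1 _ (mem_subgroupOf.2 hy) ?_, rfl⟩
    intro q hq
    exact Subtype.ext (hc q ⟨q, hq, rfl⟩)
  · intro x hx
    obtain ⟨k, hk, n, hn, hkn⟩ := h2 ⟨x, hx⟩
    refine ⟨k, ⟨k, hk, rfl⟩, n, ?_, congrArg Subtype.val hkn⟩
    apply mem_normalizer_of_le
    rintro _ ⟨q, hq, rfl⟩
    exact ⟨n * q * n⁻¹, (mem_normalizer_iff.1 hn _).1 hq, rfl⟩

theorem ex2_iff {A : Subgroup G} : Ex2 A ↔ Cfsg.IsElementaryAbelian 2 A := by
  constructor
  · intro h
    exact ElAb.of_comm (fun a ha b hb => h.comm ha hb) (fun a ha => by rw [pow_two]; exact h a ha)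
  · intro h a ha
    rw [← pow_two]; exact h.2 a ha

theorem le_cj_iff {g : G} {H K : Subgroup G} : H ≤ cj g K ↔ cj g⁻¹ H ≤ K := by
  constructor
  · intro h
    rw [← cj_inv_cj g K]; exact cj_mono h
  · intro h
    rw [← cj_cj_inv g H]; exact cj_mono h

theorem om_cj (g : G) (T : Subgroup G) : om (cj g T) = cj g (om T) := by
  have key : ∀ (g : G) (T : Subgroup G), cj g (om T) ≤ om (cj g T) := by
    intro g T z hz
    rw [mem_cj] at hz
    refine ⟨mem_cj.2 hz.1, ?_, fun s hs => ?_⟩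
    · have := hz.2.1
      calc z * z = g * ((g⁻¹ * z * g) * (g⁻¹ * z * g)) * g⁻¹ := by group
        _ = 1 := by rw [this]; group
    · have := hz.2.2 _ (mem_cj.1 hs)
      calc s * z = g * ((g⁻¹ * s * g) * (g⁻¹ * z * g)) * g⁻¹ := by group
        _ = g * ((g⁻¹ * z * g) * (g⁻¹ * s * g)) * g⁻¹ := by rw [this]
        _ = z * s := by group
  apply le_antisymm _ (key g T)
  rw [le_cj_iff]
  refine (key g⁻¹ (cj g T)).trans ?_
  rw [cj_inv_cj]

theorem om_ex2 (T : Subgroup G) : Ex2 (om T) := fun z hz => hz.2.1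

/-- 4-subgroup from two commuting involutions -/
theorem card_four {a b : G} (ha : a * a = 1) (hb : b * b = 1) (hab : a * b = b * a) (ha1 : a ≠ 1) (hb1 : b ≠ 1)
    (hne : a ≠ b) : Ex2 (zpowers a ⊔ zpowers b) ∧ 4 ≤ Nat.card (zpowers a ⊔ zpowers b : Subgroup G) := by
  have h2 : Ex2 (zpowers a ⊔ zpowers b) := by
    apply ex2_sup (ex2_zpowers ha) (ex2_zpowers hb)
    intro x hx y hy
    obtain ⟨i, rfl⟩ := mem_zpowers_iff.1 hx
    obtain ⟨j, rfl⟩ := mem_zpowers_iff.1 hy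
    exact ((show Commute a b from hab).zpow_zpow i j).eq
  refine ⟨h2, ?_⟩
  have hlt : zpowers a < zpowers a ⊔ zpowers b := by
    apply lt_of_le_of_ne le_sup_left
    intro e
    have h3 : b ∈ zpowers a := by rw [e]; exact (le_sup_right : zpowers b ≤ _) (mem_zpowers b)
    obtain ⟨i, hi⟩ := mem_zpowers_iff.1 h3
    rcases Int.even_or_odd' i with ⟨m, rfl | rfl⟩
    · rw [zpow_mul, zpow_two, ha, one_zpow] at hi
      exact hb1 hi.symm
    · rw [zpow_add, zpow_mul, zpow_two, ha, one_zpow, one_mul, zpow_one] at hi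
      exact hne hi
  have hc := Subgroup.card_mul_index ((zpowers a).subgroupOf (zpowers a ⊔ zpowers b))
  rw [H1.SZ.card_subgroupOf_of_le le_sup_left, Nat.card_zpowers, orderOf_two ha1 ha] at hc
  have hi : ((zpowers a).subgroupOf (zpowers a ⊔ zpowers b)).index ≠ 1 := by
    rw [Ne, Subgroup.index_eq_one, subgroupOf_eq_top]
    exact not_le_of_gt hlt
  have hi0 : ((zpowers a).subgroupOf (zpowers a ⊔ zpowers b)).index ≠ 0 := Subgroup.index_ne_zero_of_finite
  rw [← hc]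
  have : 2 ≤ ((zpowers a).subgroupOf (zpowers a ⊔ zpowers b)).index := by omega
  omega

/-- a subgroup with odd order core functor: 8-groups -/
structure Fun8 (T Θ : Subgroup G) : Prop where
  odd : ¬ 2 ∣ Nat.card Θ
  cen : ∀ t ∈ T, orderOf t = 2 → Θ ⊓ centralizer ({t} : Set G) = th t
  nor : T ≤ normalizer (Θ : Set G)

theorem Fun8.th_le {T Θ : Subgroup G} (h : Fun8 T Θ) {t : G} (ht : t ∈ T) (ht2 : orderOf t = 2) : th t ≤ Θ := by
  rw [← h.cen t ht ht2]; exact inf_le_left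

theorem Fun8.four {T Θ : Subgroup G} (h : Fun8 T Θ) {E : Subgroup G} (hE : Ex2 E) (hE4 : 4 ≤ Nat.card E) (hET : E ≤ T)
    {g : G} (hg : cj g E ≤ T) : g ∈ normalizer (Θ : Set G) := by
  haveI : Fact (Nat.Prime 2) := ⟨Nat.prime_two⟩
  have h1 : Θ ≤ cj g⁻¹ Θ := by
    apply H27.GenSub.le_of_centralizers 2 E Θ (cj g⁻¹ Θ) (ex2_iff.1 hE) hE4 (hET.trans h.nor) h.odd
    intro a ha ha1
    have ha2 := orderOf_two ha1 (hE a ha)
    rw [h.cen a (hET ha) ha2, le_cj_iff, inv_inv, ← th_conj]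
    have hga : g * a * g⁻¹ ∈ T := hg (conj_mem_cj ha)
    apply h.th_le hga
    rw [← ha2]
    exact orderOf_injective (MulAut.conj g).toMonoidHom (MulAut.conj g).injective a
  have h2 : cj g⁻¹ Θ = Θ := (Subgroup.eq_of_le_of_card_ge h1 (card_cj _ _).le).symm
  have h3 := cj_eq_iff.1 h2
  rw [← inv_inv g]
  exact inv_mem h3

theorem exists_eight {T : Subgroup G} {B A : Subgroup G} (hB : Ex2 B) (hB4 : 4 ≤ Nat.card B) (hBT : B ≤ T)
    {t : G} (ht : t ∈ T) (ht2 : t * t = 1) (hc : ∀ b ∈ B, b * t = t * b)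
    (hA : Ex2 A) (hBA : B ≤ A) (hAT : A ≤ T) (hA8 : 8 ≤ Nat.card A) :
    ∃ A' : Subgroup G, Ex2 A' ∧ B ≤ A' ∧ A' ≤ T ∧ 8 ≤ Nat.card A' ∧ t ∈ A' := by
  haveI : Fact (Nat.Prime 2) := ⟨Nat.prime_two⟩
  by_cases htB : t ∈ B
  · exact ⟨A, hA, hBA, hAT, hA8, hBA htB⟩
  · have h2 : Ex2 (B ⊔ zpowers t) := by
      apply ex2_sup hB (ex2_zpowers ht2)
      intro b hb y hy
      obtain ⟨j, rfl⟩ := mem_zpowers_iff.1 hy
      exact ((show Commute b t from hc b hb).zpow_right j).eq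
    refine ⟨B ⊔ zpowers t, h2, le_sup_left, sup_le hBT (by rw [zpowers_le]; exact ht), ?_,
      (le_sup_right : zpowers t ≤ _) (mem_zpowers t)⟩
    apply H27.EquivSig.pow_le_card (p := 2) (k := 2) (ex2_iff.1 h2)
    intro hle
    apply htB
    have h3 : B = B ⊔ zpowers t := Subgroup.eq_of_le_of_card_ge le_sup_left (hle.trans hB4)
    rw [h3]; exact (le_sup_right : zpowers t ≤ _) (mem_zpowers t)

theorem odd_normal_bot (hO' : Cfsg.pPrimeCore 2 G = ⊥) {Θ : Subgroup G} (ho : ¬ 2 ∣ Nat.card Θ) (hn : normalizer (Θ : Set G) = ⊤) :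
    Θ = ⊥ := by
  have h1 : Θ.Normal := normalizer_eq_top_iff.1 hn
  have h2 := H1.Cores.le_pPrimeCore h1 ((Nat.Prime.coprime_iff_not_dvd Nat.prime_two).2 ho).symm
  rw [hO'] at h2
  exact le_bot_iff.1 h2

/-- every involution is conjugate into `T` -/
theorem conj_into {T : Subgroup G} (hT : Syl ⊤ T) {t : G} (ht : orderOf t = 2) : ∃ g : G, g⁻¹ * t * g ∈ T := by
  obtain ⟨g, -, hg⟩ := hT.conj (isPGroup_inv (sq_of_order ht).1) le_top
  exact ⟨g, mem_cj.1 (hg (mem_zpowers t))⟩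

theorem orderOf_cj (g t : G) : orderOf (g * t * g⁻¹) = orderOf t :=
  orderOf_injective (MulAut.conj g).toMonoidHom (MulAut.conj g).injective t

theorem orderOf_cj' (g t : G) : orderOf (g⁻¹ * t * g) = orderOf t := by
  have := orderOf_cj g⁻¹ t
  rwa [inv_inv] at this

theorem th_bot_of {t g : G} (h : th (g⁻¹ * t * g) = ⊥) : th t = ⊥ := by
  have h1 := th_conj (g⁻¹ * t * g) g
  have h2 : g * (g⁻¹ * t * g) * g⁻¹ = t := by group
  rw [h2, h, OrderIso.map_bot] at h1
  exact h1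

/-- the case `|Ω₁(Z(S))| ≥ 4`, rank at least 3 -/
theorem caseBig (hC : HC G) (hO' : Cfsg.pPrimeCore 2 G = ⊥) {T : Subgroup G} (hT : Syl ⊤ T) (h4 : 4 ≤ Nat.card (om T))
    {A : Subgroup G} (hA : Ex2 A) (hoA : om T ≤ A) (hAT : A ≤ T) (hA8 : 8 ≤ Nat.card A) :
    (∀ t : G, orderOf t = 2 → th t = ⊥) ∨
      ∃ M : Subgroup G, M ≠ ⊤ ∧ T ≤ M ∧ ∀ X : Subgroup G, X ≤ T → X ≠ ⊥ → ∀ g ∈ normalizer (X : Set G), g ∈ M := by
  haveI : Fact (Nat.Prime 2) := ⟨Nat.prime_two⟩
  set Θ := W (fun a : G => th a) (om T) with hΘ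
  have hfun : Fun8 T Θ := by
    have key : ∀ A' : Subgroup G, Ex2 A' → om T ≤ A' → 8 ≤ Nat.card A' →
        ¬ 2 ∣ Nat.card Θ ∧ ∀ a ∈ A', a ≠ 1 → Θ ⊓ centralizer ({a} : Set G) = th a := by
      intro A' hA' ho hc
      have h1 := (sig hC).main (ex2_iff.1 hA') hc
      have h2 := (sig hC).W_eq (ex2_iff.1 hA') hc ho h4
      rw [← h2] at h1
      exact h1
    refine ⟨(key A hA hoA hA8).1, ?_, ?_⟩
    · intro t ht ht2
      obtain ⟨A', h1, h2, -, h3, h5⟩ := exists_eight (om_ex2 T) h4 (fun z hz => hz.1) ht (sq_of_order ht2).1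
        (fun b hb => (hb.2.2 t ht).symm) hA hoA hAT hA8
      exact (key A' h1 h2 h3).2 t h5 (sq_of_order ht2).2
    · refine le_trans ?_ (H55.CoreGen.normalizer_le_normalizer_W (p := 2) (om T))
      intro s hs
      apply mem_normalizer_of_le
      intro z hz
      rw [hz.2.2 s hs, mul_inv_cancel_right]; exact hz
  have hoT : om T ≤ T := fun z hz => hz.1
  have hcent : ∀ t ∈ T, orderOf t = 2 → centralizer ({t} : Set G) ≤ normalizer (Θ : Set G) := by
    intro t ht ht2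
    obtain ⟨P, hP, hTP⟩ := Syl.exists (K := centralizer ({t} : Set G)) (R := T ⊓ centralizer ({t} : Set G))
      (hT.2.1.to_le inf_le_left) inf_le_right
    obtain ⟨x, -, hx⟩ := hT.conj hP.2.1 le_top
    have hoP : om T ≤ P := by
      intro z hz
      apply hTP
      exact ⟨hz.1, mem_centralizer_singleton_iff.2 (hz.2.2 t ht).symm⟩
    have hxM : x ∈ normalizer (Θ : Set G) := by
      have h1 : x⁻¹ ∈ normalizer (Θ : Set G) := by
        apply hfun.four (om_ex2 T) h4 hoT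
        rw [← le_cj_iff]; exact hoP.trans hx
      rw [← inv_inv x]; exact inv_mem h1
    have htP : t ∈ P := hTP ⟨ht, mem_centralizer_singleton_iff.2 rfl⟩
    have hZP : cj x (om T) ≤ P := by
      have h1 : ∀ z ∈ cj x (om T), ∀ y ∈ P, y * z = z * y := by
        intro z hz y hy
        rw [← om_cj] at hz
        exact hz.2.2 y (hx hy)
      have h2 := hP.2.2 (P ⊔ cj x (om T)) (hT.2.1.map (MulAut.conj x).toMonoidHom |>.to_le (sup_le hx (cj_mono hoT)))
        le_sup_left (sup_le hP.1 (fun z hz => mem_centralizer_singleton_iff.2 (h1 z hz t htP).symm))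
      exact le_sup_right.trans h2
    obtain ⟨Q, hQP, h1, h2⟩ := frattini_cent hC ht2 hP
    have hZQ : cj x (om T) ≤ Q := by
      intro z hz
      apply h1 z (hZP hz)
      intro q hq
      rw [← om_cj] at hz
      exact (hz.2.2 q (hx (hQP hq))).symm
    intro c hc
    obtain ⟨k, hk, n, hn, rfl⟩ := h2 c hc
    apply mul_mem
    · exact le_normalizer (hfun.th_le ht ht2 hk)
    · have h3 : x⁻¹ * n * x ∈ normalizer (Θ : Set G) := by
        apply hfun.four (om_ex2 T) h4 hoT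
        rw [cj_mul, cj_mul, ← le_cj_iff]
        have h5 : cj n (cj x (om T)) ≤ cj n Q := cj_mono hZQ
        rw [cj_eq_iff.2 hn] at h5
        exact h5.trans (hQP.trans hx)
      have h4 : n = x * (x⁻¹ * n * x) * x⁻¹ := by group
      rw [h4]
      exact mul_mem (mul_mem hxM h3) (inv_mem hxM)
  by_cases hb : Θ = ⊥
  · left
    intro t ht
    obtain ⟨g, hg⟩ := conj_into hT ht
    apply th_bot_of (g := g)
    rw [eq_bot_iff, ← hb]
    exact hfun.th_le hg (by rw [orderOf_cj']; exact ht)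
  · right
    refine ⟨normalizer (Θ : Set G), fun e => hb (odd_normal_bot hO' hfun.odd e), hfun.nor, ?_⟩
    intro X hX hX0 g hg
    obtain ⟨t, ht, ht1⟩ := exists_central_inv (hT.2.1.to_le hX) hX0
    have hgt : g * t * g⁻¹ ∈ X := conj_mem_of_norm hg ht.1
    by_cases e : g * t * g⁻¹ = t
    · apply hcent t (hX ht.1) (orderOf_two ht1 ht.2.1)
      rw [mem_centralizer_singleton_iff]
      exact mul_inv_eq_iff_eq_mul.1 e
    · have hgt2 : (g * t * g⁻¹) * (g * t * g⁻¹) = 1 := by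
        calc (g * t * g⁻¹) * (g * t * g⁻¹) = g * (t * t) * g⁻¹ := by group
          _ = 1 := by rw [ht.2.1]; group
      have hgt1 : g * t * g⁻¹ ≠ 1 := by
        intro e1
        apply ht1
        have : t = g⁻¹ * (g * t * g⁻¹) * g := by group
        rw [this, e1]; group
      obtain ⟨h1, h2⟩ := card_four ht.2.1 hgt2 (ht.2.2 _ hgt).symm ht1 hgt1 (Ne.symm e)
      have h3 : zpowers t ⊔ zpowers (g * t * g⁻¹) ≤ X := sup_le (by rw [zpowers_le]; exact ht.1)
        (by rw [zpowers_le]; exact hgt)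
      apply hfun.four h1 h2 (h3.trans hX)
      have h4 : cj g (zpowers t ⊔ zpowers (g * t * g⁻¹)) ≤ cj g X := cj_mono h3
      rw [cj_eq_iff.2 hg] at h4
      exact h4.trans hX

end H55.ZC
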