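import Cfsg.Agent.Lib.H55.ZC2
import Cfsg.Agent.S0112
import Cfsg.Agent.S0113
import Cfsg.Agent.S0115
import Cfsg.Agent.Lib.H11.NormalRankOne
import Cfsg.Agent.Lib.H28.CycAb
import Cfsg.Agent.Lib.H65.PBasic

set_option autoImplicit false
set_option linter.unusedSimpArgs false
set_option linter.unusedSectionVars false

/-! Abstract lemmas on 2-groups with a unique central involution. -/

namespace H55.ZC

open Subgroup H55.ZN

variable {X : Type*} [Group X] [Finite X]

/-- unique central involution -/
structure UZ (X : Type*) [Group X] (z : X) : Prop where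
  two : IsPGroup 2 X
  z1 : z ≠ 1
  zz : z * z = 1
  zc : ∀ x : X, x * z = z * x
  un : ∀ w : X, w * w = 1 → (∀ x : X, x * w = w * x) → w = 1 ∨ w = z

/-- a cyclic subgroup of index 2 contains `z` and no other involution -/
theorem UZ.cyc {z : X} (h : UZ X z) {C : Subgroup X} (hC : IsCyclic C) (hi : C.index = 2) (hX : 2 < Nat.card X) :
    z ∈ C ∧ ∀ u ∈ C, u * u = 1 → u = 1 ∨ u = z := by
  haveI : Fact (Nat.Prime 2) := ⟨Nat.prime_two⟩
  have hu : ∀ u ∈ C, ∀ v ∈ C, u * u = 1 → v * v = 1 → u ≠ 1 → v ≠ 1 → u = v := by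
    intro u hu v hv hu2 hv2 hu1 hv1
    by_contra hne
    exact H11.NormalRankOne.not_isCyclic_of_two hu hv hne hu1 hv1 (by rw [pow_two]; exact hu2)
      (by rw [pow_two]; exact hv2) hC
  have hn : C.Normal := Subgroup.normal_of_index_eq_two hi
  have hc : Nat.card C * 2 = Nat.card X := by rw [← hi]; exact Subgroup.card_mul_index C
  have hCb : C ≠ ⊥ := by
    intro e
    rw [e, Subgroup.card_bot] at hc
    omega
  obtain ⟨c, hc', hc1⟩ := exists_central_inv (h.two.to_subgroup C) hCb
  have hcc : ∀ x : X, x * c = c * x := by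
    intro x
    have h1 : x * c * x⁻¹ = c := by
      apply hu _ (hn.conj_mem c hc'.1 x) c hc'.1 ?_ hc'.2.1 ?_ hc1
      · calc (x * c * x⁻¹) * (x * c * x⁻¹) = x * (c * c) * x⁻¹ := by group
          _ = 1 := by rw [hc'.2.1]; group
      · intro e
        apply hc1
        have : c = x⁻¹ * (x * c * x⁻¹) * x := by group
        rw [this, e]; group
    exact mul_inv_eq_iff_eq_mul.1 h1
  have hcz : c = z := by
    rcases h.un c hc'.2.1 hcc with e | e
    · exact absurd e hc1
    · exact e
  rw [hcz] at hc'
  refine ⟨hc'.1, fun u hu' hu2 => ?_⟩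
  by_cases hu1 : u = 1
  · exact Or.inl hu1
  · exact Or.inr (hu u hu' z hc'.1 hu2 h.zz hu1 h.z1)

theorem UZ.mc {z a : X} (h : UZ X z) (ha1 : a ≠ 1) (haa : a * a = 1) (haz : a ≠ z)
    (hcen : ∀ x : X, x * a = a * x → x = 1 ∨ x = a ∨ x = z ∨ x = a * z) :
    ∃ Y : Subgroup X, Y.index = 2 ∧ ∀ u ∈ Y, u * u = 1 → u ≠ 1 → u = z ∨ ∃ x : X, u = x * a * x⁻¹ := by
  classical
  haveI : Fact (Nat.Prime 2) := ⟨Nat.prime_two⟩
  obtain ⟨hV2, hV4⟩ := card_four haa h.zz (h.zc a) ha1 h.z1 haz
  set V := zpowers a ⊔ zpowers z with hV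
  have haV : a ∈ V := (le_sup_left : zpowers a ≤ _) (mem_zpowers a)
  have hzV : z ∈ V := (le_sup_right : zpowers z ≤ _) (mem_zpowers z)
  have hVle : ∀ x : X, x * a = a * x → x ∈ V := by
    intro x hx
    rcases hcen x hx with e | e | e | e
    · rw [e]; exact one_mem _
    · rw [e]; exact haV
    · rw [e]; exact hzV
    · rw [e]; exact mul_mem haV hzV
  have hVc : Nat.card V = 2 ^ 2 := by
    apply le_antisymm _ hV4
    have hsub : ((V : Subgroup X) : Set X) ⊆ (({1, a, z, a * z} : Finset X) : Set X) := by
      intro x hx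
      have := hcen x (hV2.comm hx haV)
      simpa using this
    have h1 := Set.ncard_le_ncard hsub (Finset.finite_toSet _)
    rw [Set.ncard_coe_finset] at h1
    have h2 : Nat.card V = (V : Set X).ncard := rfl
    rw [h2]
    exact h1.trans (Finset.card_le_four)
  have hVC : centralizer (V : Set X) = V := by
    apply le_antisymm
    · intro x hx
      exact hVle x (mem_centralizer_iff.1 hx a haV).symm
    · intro x hx
      rw [mem_centralizer_iff]
      intro y hy
      exact hV2.comm hy hx
  obtain ⟨n, hn⟩ := IsPGroup.iff_card.1 h.two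
  have hcl := Cfsg.Agent.S0112.result n hn V hVc hVC
  have hlt : Nat.card V < Nat.card X := by
    rw [← Subgroup.card_top (G := X)]
    apply lt_of_le_of_ne (Nat.le_of_dvd Nat.card_pos (card_dvd_of_le le_top))
    intro e
    have h1 : V = ⊤ := Subgroup.eq_top_of_card_eq V (by rw [e, Subgroup.card_top])
    rcases h.un a haa (fun x => hV2.comm (by rw [h1]; exact mem_top x) haV) with e | e
    · exact ha1 e
    · exact haz e
  have hn3 : 3 ≤ n := by
    rw [hVc, hn] at hlt
    exact (Nat.pow_lt_pow_iff_right (by norm_num)).1 hlt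
  obtain ⟨C, hC, hCi⟩ := Cfsg.Agent.S0113.result n hn3 hn hcl
  have hK := (Cfsg.Agent.S0115.result n hn3 hn).1 hcl
  obtain ⟨hzC, hCu⟩ := h.cyc hC hCi (by rw [hVc] at hlt; omega)
  have haC : a ∉ C := fun e => by
    rcases hCu a e haa with e | e
    · exact ha1 e
    · exact haz e
  have hXC : commutator X ≤ C := by
    rw [_root_.commutator_def, commutator_le]
    intro x _ y _
    rw [commutatorElement_def]
    rw [Subgroup.mul_mem_iff_of_index_two hCi, Subgroup.mul_mem_iff_of_index_two hCi,
      Subgroup.mul_mem_iff_of_index_two hCi, inv_mem_iff, inv_mem_iff]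
    tauto
  -- the quotient
  have hQ4 : Nat.card (X ⧸ commutator X) = 4 := hK.card_four
  set π := QuotientGroup.mk' (commutator X) with hπ
  have hπ1 : ∀ x : X, π x = 1 ↔ x ∈ commutator X := fun x => QuotientGroup.eq_one_iff x
  have hπa : π a ≠ 1 := fun e => haC (hXC ((hπ1 a).1 e))
  have hπaa : π a * π a = 1 := by rw [← map_mul, haa, map_one]
  have hoa : orderOf (π a) = 2 := orderOf_two hπa hπaa
  refine ⟨(zpowers (π a)).comap π, ?_, ?_⟩
  · rw [Subgroup.index_comap_of_surjective _ (QuotientGroup.mk'_surjective _)]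
    have := Subgroup.card_mul_index (zpowers (π a))
    rw [Nat.card_zpowers, hoa, hQ4] at this
    omega
  · intro u hu hu2 hu1
    have h1 : π u = 1 ∨ π u = π a := by
      obtain ⟨i, hi⟩ := mem_zpowers_iff.1 hu
      rcases Int.even_or_odd' i with ⟨m, rfl | rfl⟩
      · rw [zpow_mul, zpow_two, hπaa, one_zpow] at hi
        exact Or.inl hi.symm
      · rw [zpow_add, zpow_mul, zpow_two, hπaa, one_zpow, one_mul, zpow_one] at hi
        exact Or.inr hi.symm
    rcases h1 with h1 | h1
    · left
      rcases hCu u (hXC ((hπ1 u).1 h1)) hu2 with e | e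
      · exact absurd e hu1
      · exact e
    · right
      letI := Fintype.ofFinite X
      let F : Finset X := Finset.univ.filter (fun x => π x = π a)
      let O : Finset X := Finset.univ.image (fun x : X => x * a * x⁻¹)
      have hOF : O ⊆ F := by
        intro y hy
        obtain ⟨x, -, rfl⟩ := Finset.mem_image.1 hy
        refine Finset.mem_filter.2 ⟨Finset.mem_univ _, ?_⟩
        have hcomm : ∀ p q : X ⧸ commutator X, p * q = q * p := by
          intro p q
          obtain ⟨x, rfl⟩ := QuotientGroup.mk'_surjective _ p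
          obtain ⟨y, rfl⟩ := QuotientGroup.mk'_surjective _ q
          rw [← map_mul, ← map_mul, ← mul_inv_eq_one, ← map_inv, ← map_mul]
          rw [hπ1]
          have : x * y * (y * x)⁻¹ = x * y * x⁻¹ * y⁻¹ := by group
          rw [this, _root_.commutator_def]
          exact commutator_mem_commutator (mem_top x) (mem_top y)
        rw [map_mul, map_mul, map_inv, hcomm (π x), mul_inv_cancel_right]
      have hFc : F.card ≤ Nat.card (commutator X) := by
        have h2 : F.card ≤ (Finset.univ.filter (fun x : X => x ∈ commutator X)).card := by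
          apply Finset.card_le_card_of_injOn (fun x => a⁻¹ * x)
          · intro x hx
            have hx' := (Finset.mem_filter.1 hx).2
            refine Finset.mem_coe.2 (Finset.mem_filter.2 ⟨Finset.mem_univ _, ?_⟩)
            rw [← hπ1, map_mul, map_inv, hx', inv_mul_cancel]
          · intro x _ y _ hxy
            exact mul_left_cancel hxy
        refine h2.trans ?_
        rw [Nat.card_eq_fintype_card, Fintype.card_subtype]
      have hcc : Nat.card (commutator X) * 4 = Nat.card X := by
        rw [← hQ4]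
        exact (Subgroup.card_eq_card_quotient_mul_card_subgroup (commutator X)).symm ▸ mul_comm _ _
      have hOc : Nat.card X ≤ 4 * O.card := by
        rw [Nat.card_eq_fintype_card, ← Finset.card_univ]
        apply Finset.card_le_mul_card_image
        intro b hb
        obtain ⟨x₀, -, rfl⟩ := Finset.mem_image.1 hb
        have : (Finset.univ.filter (fun x => x * a * x⁻¹ = x₀ * a * x₀⁻¹)) ⊆
            ({x₀ * 1, x₀ * a, x₀ * z, x₀ * (a * z)} : Finset X) := by
          intro x hx
          have hx' := (Finset.mem_filter.1 hx).2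
          have h3 : (x₀⁻¹ * x) * a = a * (x₀⁻¹ * x) := by
            calc (x₀⁻¹ * x) * a = x₀⁻¹ * (x * a * x⁻¹) * x := by group
              _ = x₀⁻¹ * (x₀ * a * x₀⁻¹) * x := by rw [hx']
              _ = a * (x₀⁻¹ * x) := by group
          have h4 : x = x₀ * (x₀⁻¹ * x) := by group
          simp only [Finset.mem_insert, Finset.mem_singleton]
          rcases hcen _ h3 with e | e | e | e
          · left; rw [← e]; exact h4
          · right; left; rw [← e]; exact h4
          · right; right; left; rw [← e]; exact h4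
          · right; right; right; rw [← e]; exact h4
        exact (Finset.card_le_card this).trans Finset.card_le_four
      have hFO : F = O := by
        symm
        apply Finset.eq_of_subset_of_card_le hOF
        omega
      have huF : u ∈ F := Finset.mem_filter.2 ⟨Finset.mem_univ _, h1⟩
      rw [hFO] at huF
      obtain ⟨x, -, hx⟩ := Finset.mem_image.1 huF
      exact ⟨x, hx.symm⟩

/-- alternative: all noncentral involutions have small centralizer, or there is a normal four-group -/
theorem UZ.fm {z a : X} (h : UZ X z) (ha1 : a ≠ 1) (haa : a * a = 1) (haz : a ≠ z) :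
    (∀ b : X, b * b = 1 → b ≠ 1 → b ≠ z → ∀ x : X, x * b = b * x → x = 1 ∨ x = b ∨ x = z ∨ x = b * z) ∨
      ∃ v : X, v * v = 1 ∧ v ≠ 1 ∧ v ≠ z ∧ ∀ s : X, s * v * s⁻¹ = v ∨ s * v * s⁻¹ = v * z := by
  classical
  haveI : Fact (Nat.Prime 2) := ⟨Nat.prime_two⟩
  by_cases hn : ∀ A : Subgroup X, A.Normal → IsMulCommutative A → IsCyclic A
  · left
    have hnc : ¬ IsCyclic X := by
      intro hcy
      haveI := hcy
      have : IsCyclic (⊤ : Subgroup X) := inferInstance
      exact H11.NormalRankOne.not_isCyclic_of_two (mem_top z) (mem_top a) (Ne.symm haz) h.z1 ha1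
        (by rw [pow_two]; exact h.zz) (by rw [pow_two]; exact haa) this
    obtain ⟨a₀, t, k, ho, hi, ht, hC⟩ := H11.NormalRankOne.exists_data h.two hnc hn
    have hX : 2 < Nat.card X := by
      have h1 := Subgroup.card_mul_index (zpowers a₀)
      rw [Nat.card_zpowers, ho, hi] at h1
      rw [← h1]
      have : 2 ^ 2 ≤ 2 ^ (k + 2) := Nat.pow_le_pow_right (by norm_num) (by omega)
      omega
    obtain ⟨hzC, hCu⟩ := h.cyc (C := zpowers a₀) inferInstance hi hX
    intro b hb hb1 hbz x hx
    have hbC : b ∉ zpowers a₀ := fun e => by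
      rcases hCu b e hb with e | e
      · exact hb1 e
      · exact hbz e
    have key : ∀ y ∈ zpowers a₀, y * b = b * y → y = 1 ∨ y = z := by
      intro y hy hyb
      have h1 : b⁻¹ * t ∈ zpowers a₀ := by
        rw [Subgroup.mul_mem_iff_of_index_two hi, inv_mem_iff]
        exact ⟨fun e => absurd e hbC, fun e => absurd e ht⟩
      have h2 : y * (b⁻¹ * t) = (b⁻¹ * t) * y := by
        obtain ⟨i, rfl⟩ := mem_zpowers_iff.1 hy
        obtain ⟨j, hj⟩ := mem_zpowers_iff.1 h1
        rw [← hj, ← zpow_add, ← zpow_add, add_comm]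
      have h3 : t * y = y * t := by
        calc t * y = b * ((b⁻¹ * t) * y) := by group
          _ = b * (y * (b⁻¹ * t)) := by rw [h2]
          _ = (b * y) * (b⁻¹ * t) := by group
          _ = (y * b) * (b⁻¹ * t) := by rw [hyb]
          _ = y * t := by group
      exact hCu y hy (by rw [← pow_two]; exact hC y hy h3)
    by_cases hxC : x ∈ zpowers a₀
    · rcases key x hxC hx with e | e
      · exact Or.inl e
      · exact Or.inr (Or.inr (Or.inl e))
    · have h1 : x * b ∈ zpowers a₀ := by
        rw [Subgroup.mul_mem_iff_of_index_two hi]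
        exact ⟨fun e => absurd e hxC, fun e => absurd e hbC⟩
      have h2 : (x * b) * b = b * (x * b) := by rw [← mul_assoc, hx]
      have h3 : x = (x * b) * b := by rw [mul_assoc, hb, mul_one]
      rcases key (x * b) h1 h2 with e | e
      · right; left
        rw [e, one_mul] at h3
        exact h3
      · right; right; right
        rw [e] at h3
        rw [h3, h.zc b]
  · right
    push Not at hn
    obtain ⟨A, hAn, hAc, hAnc⟩ := hn
    -- an element of order 2 of A outside ⟨z⟩
    have hex : ∃ w ∈ A, w * w = 1 ∧ w ≠ 1 ∧ w ≠ z := by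
      by_contra hcon
      push Not at hcon
      apply hAnc
      letI : CommGroup A := { (inferInstance : Group A) with mul_comm := hAc.is_comm.comm }
      apply H28.CycAb.isCyclic_of_card_ker_le (p := 2) (h.two.to_subgroup A)
      have h1 : Nat.card (powMonoidHom 2 : A →* A).ker ≤ Nat.card (zpowers z) := by
        apply Nat.card_le_card_of_injective
          (fun y : (powMonoidHom 2 : A →* A).ker => (⟨((y : A) : X), ?_⟩ : zpowers z))
        · intro y y' hyy
          exact Subtype.ext (Subtype.ext (congrArg (fun w : zpowers z => (w : X)) hyy))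
        · have hy : ((y : A) : X) * ((y : A) : X) = 1 := by
            have h2 := y.2
            rw [MonoidHom.mem_ker, powMonoidHom_apply, pow_two] at h2
            exact congrArg Subtype.val h2
          by_cases h3 : ((y : A) : X) = 1
          · rw [h3]; exact one_mem _
          · rw [hcon _ (y : A).2 hy h3]; exact mem_zpowers z
      rw [Nat.card_zpowers, orderOf_two h.z1 h.zz] at h1
      exact h1
    obtain ⟨w, hwA, hww, hw1, hwz⟩ := hex
    -- z ∈ A
    have hzA : z ∈ A := by
      have hA0 : A ≠ ⊥ := fun e => hw1 (by rw [e, mem_bot] at hwA; exact hwA)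
      have h1 := H65.PBasic.inf_center_ne_bot h.two A hA0
      obtain ⟨c, hc, hc1⟩ := exists_central_inv (h.two.to_subgroup (A ⊓ center X)) h1
      rcases h.un c hc.2.1 (fun x => mem_center_iff.1 hc.1.2 x) with e | e
      · exact absurd e hc1
      · rw [← e]; exact hc.1.1
    -- the subgroup Ω
    have hAcomm : ∀ x ∈ A, ∀ y ∈ A, x * y = y * x := fun x hx y hy =>
      congrArg Subtype.val (hAc.is_comm.comm ⟨x, hx⟩ ⟨y, hy⟩)
    let Om : Subgroup X :=
      { carrier := {x | x ∈ A ∧ x * x = 1}
        one_mem' := ⟨one_mem _, by simp⟩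
        mul_mem' := by
          rintro x y ⟨hx, hx2⟩ ⟨hy, hy2⟩
          refine ⟨mul_mem hx hy, ?_⟩
          calc (x * y) * (x * y) = x * (y * x) * y := by group
            _ = x * (x * y) * y := by rw [hAcomm x hx y hy]
            _ = (x * x) * (y * y) := by group
            _ = 1 := by rw [hx2, hy2, mul_one]
        inv_mem' := by
          rintro x ⟨hx, hx2⟩
          have : x⁻¹ = x := inv_eq_of_mul_eq_one_left hx2
          rw [this]; exact ⟨hx, hx2⟩ }
    have hOm : ∀ x : X, x ∈ Om ↔ (x ∈ A ∧ x * x = 1) := fun x => Iff.rfl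
    haveI hOmn : Om.Normal := by
      constructor
      rintro x ⟨h1, h2⟩ g
      refine ⟨hAn.conj_mem x h1 g, ?_⟩
      calc (g * x * g⁻¹) * (g * x * g⁻¹) = g * (x * x) * g⁻¹ := by group
        _ = 1 := by rw [h2]; group
    have hwO : w ∈ Om := ⟨hwA, hww⟩
    -- quotient by z
    have hZn : (zpowers z).Normal := by
      constructor
      intro x hx g
      obtain ⟨i, rfl⟩ := mem_zpowers_iff.1 hx
      have : g * z ^ i * g⁻¹ = z ^ i := by
        rw [((show Commute g z from h.zc g).zpow_right i).eq, mul_inv_cancel_right]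
      rw [this]; exact hx
    set π := QuotientGroup.mk' (zpowers z) with hπ
    have hπ1 : ∀ x : X, π x = 1 ↔ x = 1 ∨ x = z := by
      intro x
      have h1 : π x = 1 ↔ x ∈ zpowers z := QuotientGroup.eq_one_iff x
      rw [h1]
      constructor
      · intro hx
        obtain ⟨i, rfl⟩ := mem_zpowers_iff.1 hx
        rcases Int.even_or_odd' i with ⟨m, rfl | rfl⟩
        · left; rw [zpow_mul, zpow_two, h.zz, one_zpow]
        · right; rw [zpow_add, zpow_mul, zpow_two, h.zz, one_zpow, one_mul, zpow_one]
      · rintro (rfl | rfl)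
        · exact one_mem _
        · exact mem_zpowers _
    haveI hMn : (Om.map π).Normal := Subgroup.Normal.map hOmn π (QuotientGroup.mk'_surjective _)
    have hM0 : Om.map π ≠ ⊥ := by
      intro e
      have h1 : π w ∈ Om.map π := ⟨w, hwO, rfl⟩
      rw [e, mem_bot, hπ1] at h1
      rcases h1 with h1 | h1
      · exact hw1 h1
      · exact hwz h1
    have h2 := H65.PBasic.inf_center_ne_bot (h.two.to_quotient (zpowers z)) (Om.map π) hM0
    obtain ⟨⟨y, hy⟩, hy1⟩ := Subgroup.ne_bot_iff_exists_ne_one.1 h2
    obtain ⟨⟨v, hvO, rfl⟩, hyc⟩ := hy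
    have hv1 : π v ≠ 1 := fun e => hy1 (Subtype.ext e)
    have hvv : v * v = 1 := ((hOm v).1 hvO).2
    refine ⟨v, hvv, fun e => hv1 ((hπ1 v).2 (Or.inl e)), fun e => hv1 ((hπ1 v).2 (Or.inr e)), fun s => ?_⟩
    have h3 := mem_center_iff.1 hyc (π s)
    have h4 : π (v⁻¹ * (s * v * s⁻¹)) = 1 := by
      rw [map_mul, map_mul, map_mul, map_inv, map_inv, h3]; group
    rw [hπ1] at h4
    rcases h4 with e | e
    · left
      have : s * v * s⁻¹ = v * (v⁻¹ * (s * v * s⁻¹)) := by group
      rw [this, e, mul_one]
    · right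
      have : s * v * s⁻¹ = v * (v⁻¹ * (s * v * s⁻¹)) := by group
      rw [this, e]

end H55.ZC
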