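import Cfsg.Agent.Lib.H55.ZC3
import Cfsg.Agent.S0111
import Cfsg.Agent.Lib.H3.Residual
import Cfsg.Agent.Lib.H39.SylowAux

set_option autoImplicit false
set_option linter.unusedSimpArgs false
set_option linter.unusedSectionVars false

/-! ZC-groups: the case `|Ω₁(Z(S))| = 2`. -/

namespace H55.ZC

open Subgroup H55.ZN H27 H27.EquivSig

variable {G : Type*} [Group G] [Finite G]

theorem transfer {T Y : Subgroup G} (hT : Syl ⊤ T) (hY : Y ≤ T) (hi : Y.relIndex T = 2) {u : G} (hu : u ∈ T)
    (huH : u ∈ Cfsg.pResidual 2 G) (hu2 : orderOf u = 2) : ∃ g : G, g * u * g⁻¹ ∈ Y := by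
  by_cases huY : u ∈ Y
  · exact ⟨1, by simpa using huY⟩
  · let P : Sylow 2 G := ⟨T, hT.2.1, fun {R} hR hle => le_antisymm (hT.2.2 R hR hle le_top) hle⟩
    rcases Cfsg.Agent.S0111.result P Y hY hi u hu2 hu huY with ⟨M, hM, hMi, huM⟩ | h
    · haveI := hM
      exact absurd (H3.Residual.pResidual_le_of_index M hMi huH) huM
    · exact h

structure Ctx2 (T : Subgroup G) (z : G) : Prop where
  hC : HC G
  hT : Syl ⊤ T
  hz : z ∈ om T
  z1 : z ≠ 1
  un : ∀ w ∈ om T, w = 1 ∨ w = z
  hZ : centralizer ({z} : Set G) ≤ normalizer (T : Set G)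

variable {T : Subgroup G} {z : G}

theorem Ctx2.zz (c : Ctx2 T z) : z * z = 1 := c.hz.2.1
theorem Ctx2.oz (c : Ctx2 T z) : orderOf z = 2 := orderOf_two c.z1 c.zz
theorem Ctx2.comm (c : Ctx2 T z) {s : G} (hs : s ∈ T) : s * z = z * s := c.hz.2.2 s hs

/-- (F1) -/
theorem Ctx2.F1 (c : Ctx2 T z) {d s : G} (hd : d ∈ th z) (hs : s ∈ T) : d * s = s * d := by
  have hsz : s ∈ centralizer ({z} : Set G) := mem_centralizer_singleton_iff.2 (c.comm hs)
  have h1 : d * s * d⁻¹ * s⁻¹ ∈ T :=
    mul_mem (conj_mem_of_norm (c.hZ (th_le z hd)) hs) (inv_mem hs)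
  have h2 : d * s * d⁻¹ * s⁻¹ ∈ th z := by
    have h3 := conj_mem_of_norm (th_norm z hsz) (inv_mem hd)
    have : d * s * d⁻¹ * s⁻¹ = d * (s * d⁻¹ * s⁻¹) := by group
    rw [this]; exact mul_mem hd h3
  have h3 : d * s * d⁻¹ * s⁻¹ = 1 := by
    have hcop : (Nat.card (th z)).Coprime (Nat.card T) := by
      haveI : Fact (Nat.Prime 2) := ⟨Nat.prime_two⟩
      obtain ⟨n, hn⟩ := IsPGroup.iff_card.1 c.hT.2.1
      rw [hn]
      exact (th_coprime z).pow_right n
    have h4 : (th z) ⊓ T = ⊥ := Subgroup.inf_eq_bot_of_coprime hcop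
    have h5 : d * s * d⁻¹ * s⁻¹ ∈ (th z) ⊓ T := ⟨h2, h1⟩
    rw [h4, mem_bot] at h5
    exact h5
  calc d * s = (d * s * d⁻¹ * s⁻¹) * (s * d) := by group
    _ = s * d := by rw [h3, one_mul]

theorem Ctx2.le_th (c : Ctx2 T z) {t : G} (ht : t ∈ T) (ht2 : orderOf t = 2) : th z ≤ th t := by
  have h1 := balance c.hC c.zz (sq_of_order ht2).1 (sq_of_order ht2).2 (c.comm ht).symm
  refine le_trans (le_inf le_rfl ?_) h1
  intro d hd
  rw [mem_centralizer_singleton_iff]
  exact c.F1 hd ht

/-- (F2) -/
theorem Ctx2.F2 (c : Ctx2 T z) {g : G} (hg : g * z * g⁻¹ ∈ T) : th (g * z * g⁻¹) = th z := by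
  have h1 := c.le_th hg (by rw [orderOf_cj]; exact c.oz)
  symm
  apply Subgroup.eq_of_le_of_card_ge h1
  rw [th_conj, card_cj]

theorem Ctx2.F2' (c : Ctx2 T z) {b : G} (hb : b ∈ T) (h : ∃ g : G, b = g * z * g⁻¹) : th b = th z := by
  obtain ⟨g, rfl⟩ := h
  exact c.F2 hb

/-- conclusion (★) from: all involutions are conjugate to `z` -/
theorem Ctx2.star_of_conj (c : Ctx2 T z) {Y : Subgroup G} (hY : Y ≤ T) (hi : Y.relIndex T = 2)
    (h : ∀ u ∈ Y, orderOf u = 2 → ∃ g : G, u = g * z * g⁻¹) :
    ∀ t ∈ T, t ∈ Cfsg.pResidual 2 G → orderOf t = 2 → th t = th z := by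
  intro t ht htH ht2
  obtain ⟨g, hg⟩ := transfer c.hT hY hi ht htH ht2
  obtain ⟨k, hk⟩ := h _ hg (by rw [orderOf_cj]; exact ht2)
  apply c.F2' ht
  refine ⟨g⁻¹ * k, ?_⟩
  calc t = g⁻¹ * (g * t * g⁻¹) * g := by group
    _ = g⁻¹ * (k * z * k⁻¹) * g := by rw [hk]
    _ = _ := by group

theorem Ctx2.uz (c : Ctx2 T z) : UZ T (⟨z, c.hz.1⟩ : T) := by
  refine ⟨c.hT.2.1, fun e => c.z1 (congrArg Subtype.val e), Subtype.ext c.zz, fun x => Subtype.ext (c.comm x.2), ?_⟩
  intro w hw hwc
  rcases c.un w ⟨w.2, congrArg Subtype.val hw, fun s hs => congrArg Subtype.val (hwc ⟨s, hs⟩)⟩ with e | e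
  · left; exact Subtype.ext e
  · right; exact Subtype.ext e

theorem Ctx2.star_of_mc (c : Ctx2 T z) {a : G} (haT : a ∈ T) (haz : a ≠ z) (ha : ∃ g : G, a = g * z * g⁻¹)
    (hcen : ∀ x ∈ T, x * a = a * x → x = 1 ∨ x = a ∨ x = z ∨ x = a * z) :
    ∀ t ∈ T, t ∈ Cfsg.pResidual 2 G → orderOf t = 2 → th t = th z := by
  have ho : orderOf a = 2 := by
    obtain ⟨g, rfl⟩ := ha; rw [orderOf_cj]; exact c.oz
  obtain ⟨Y, hYi, hY⟩ := c.uz.mc (a := ⟨a, haT⟩) (fun e => (sq_of_order ho).2 (congrArg Subtype.val e))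
    (Subtype.ext (sq_of_order ho).1) (fun e => haz (congrArg Subtype.val e)) (by
      intro x hx
      rcases hcen x x.2 (congrArg Subtype.val hx) with e | e | e | e
      · exact Or.inl (Subtype.ext e)
      · exact Or.inr (Or.inl (Subtype.ext e))
      · exact Or.inr (Or.inr (Or.inl (Subtype.ext e)))
      · exact Or.inr (Or.inr (Or.inr (Subtype.ext e))))
  apply c.star_of_conj (Y := Y.map T.subtype) (map_subtype_le Y)
  · rw [Subgroup.relIndex, Subgroup.subgroupOf, Subgroup.comap_map_eq_self_of_injective T.subtype_injective]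
    exact hYi
  · rintro _ ⟨u, hu, rfl⟩ hu2
    have hu2' : orderOf (u : G) = 2 := hu2
    rcases hY u hu (Subtype.ext (sq_of_order hu2').1) (fun e => (sq_of_order hu2').2 (congrArg Subtype.val e)) with e | ⟨x, e⟩
    · exact ⟨1, by rw [e]; simp⟩
    · obtain ⟨g, hg⟩ := ha
      refine ⟨x * g, ?_⟩
      have : (u : G) = x * a * (x : G)⁻¹ := congrArg Subtype.val e
      show (u : G) = _
      rw [this, hg]; group

/-- the Θ argument -/
theorem Ctx2.star_of_theta (c : Ctx2 T z) {Y Θ : Subgroup G} (hY : Y ≤ T) (hi : Y.relIndex T = 2) (hzY : z ∈ Y)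
    (hodd : ¬ 2 ∣ Nat.card Θ) (hnor : T ≤ normalizer (Θ : Set G))
    (hcen : ∀ t ∈ Y, orderOf t = 2 → Θ ⊓ centralizer ({t} : Set G) = th t)
    {a : G} (haT : a ∈ T) (haz : a ≠ z) (ho : orderOf a = 2) (hΘa : Θ ⊓ centralizer ({a} : Set G) ≤ th z) :
    ∀ t ∈ T, t ∈ Cfsg.pResidual 2 G → orderOf t = 2 → th t = th z := by
  haveI : Fact (Nat.Prime 2) := ⟨Nat.prime_two⟩
  obtain ⟨haa, ha1⟩ := sq_of_order ho
  have hza := c.comm haT
  have h1 : Θ ⊓ centralizer ({z} : Set G) = th z := hcen z hzY c.oz
  have hDC : ∀ s ∈ T, th z ≤ centralizer ({s} : Set G) := fun s hs d hd =>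
    mem_centralizer_singleton_iff.2 (c.F1 hd hs)
  have hazT : a * z ∈ T := mul_mem haT c.hz.1
  obtain ⟨hE, hE4⟩ := card_four haa c.zz hza ha1 c.z1 haz
  have hΘaz : Θ ≤ centralizer ({a * z} : Set G) := by
    apply H27.GenSub.le_of_centralizers 2 (zpowers a ⊔ zpowers z) Θ _ (ex2_iff.1 hE) hE4
      (le_trans (sup_le (by rw [zpowers_le]; exact haT) (by rw [zpowers_le]; exact c.hz.1)) hnor) hodd
    intro e he he1
    have h2 : e = a ∨ e = z ∨ e = a * z := by
      have hn : zpowers a ≤ normalizer ((zpowers z : Subgroup G) : Set G) := by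
        rw [zpowers_le]
        apply mem_normalizer_of_le
        intro w hw
        obtain ⟨i, rfl⟩ := mem_zpowers_iff.1 hw
        have : a * z ^ i * a⁻¹ = z ^ i := by
          rw [((show Commute a z from hza).zpow_right i).eq, mul_inv_cancel_right]
        rw [this]; exact hw
      have h3 : e ∈ ((zpowers a ⊔ zpowers z : Subgroup G) : Set G) := he
      rw [coe_mul_of_left_le_normalizer_right _ _ hn] at h3
      obtain ⟨p, hp, q, hq, rfl⟩ := h3
      obtain ⟨i, rfl⟩ := mem_zpowers_iff.1 hp
      obtain ⟨j, rfl⟩ := mem_zpowers_iff.1 hq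
      have key : ∀ (w : G), w * w = 1 → ∀ i : ℤ, w ^ i = 1 ∨ w ^ i = w := by
        intro w hw i
        rcases Int.even_or_odd' i with ⟨m, rfl | rfl⟩
        · left; rw [zpow_mul, zpow_two, hw, one_zpow]
        · right; rw [zpow_add, zpow_mul, zpow_two, hw, one_zpow, one_mul, zpow_one]
      simp only at he1 ⊢
      rcases key a haa i with e1 | e1 <;> rcases key z c.zz j with e2 | e2
      · exact absurd (by rw [e1, e2, one_mul]) he1
      · right; left; rw [e1, e2, one_mul]
      · left; rw [e1, e2, mul_one]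
      · right; right; rw [e1, e2]
    rcases h2 with rfl | rfl | rfl
    · exact hΘa.trans (hDC _ hazT)
    · rw [h1]; exact hDC _ hazT
    · exact inf_le_right
  -- z centralizes Θ
  have hΘz : Θ ≤ centralizer ({z} : Set G) := by
    set K := T ⊓ centralizer (Θ : Set G) with hK
    have hazK : a * z ∈ K := by
      refine ⟨hazT, mem_centralizer_iff.2 fun x hx => mem_centralizer_singleton_iff.1 (hΘaz hx)⟩
    have haz1 : a * z ≠ 1 := fun e => haz (by rw [← c.zz] at e; exact mul_right_cancel e)
    have hK0 : K ≠ ⊥ := fun e => haz1 (by rw [e, mem_bot] at hazK; exact hazK)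
    have hTK : T ≤ normalizer (K : Set G) := by
      intro s hs
      apply mem_normalizer_of_le
      intro x hx
      have hx1 : x ∈ T := hx.1
      have hx2 : x ∈ centralizer (Θ : Set G) := hx.2
      refine mem_inf.2 ⟨mul_mem (mul_mem hs hx1) (inv_mem hs), ?_⟩
      rw [mem_centralizer_iff] at hx2 ⊢
      intro y hy
      have h5 : s⁻¹ * y * s ∈ Θ := by
        have := conj_mem_of_norm (inv_mem (hnor hs)) hy
        rwa [inv_inv] at this
      have h6 := hx2 _ h5
      calc y * (s * x * s⁻¹) = s * ((s⁻¹ * y * s) * x) * s⁻¹ := by group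
        _ = s * (x * (s⁻¹ * y * s)) * s⁻¹ := by rw [h6]
        _ = s * x * s⁻¹ * y := by group
    have h5 := H65.PBasic.inf_centralizer_ne_bot T K c.hT.2.1 (c.hT.2.1.to_le inf_le_left) hTK hK0
    obtain ⟨w, hw, hw1⟩ := exists_central_inv (c.hT.2.1.to_le (inf_le_left.trans inf_le_left)) h5
    have hwT : w ∈ om T := by
      refine ⟨hw.1.1.1, hw.2.1, fun s hs => ?_⟩
      exact mem_centralizer_iff.1 hw.1.2 s hs
    have hwz : w = z := by
      rcases c.un w hwT with e | e
      · exact absurd e hw1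
      · exact e
    intro x hx
    rw [mem_centralizer_singleton_iff]
    have := mem_centralizer_iff.1 hw.1.1.2 x hx
    rwa [hwz] at this
  have hΘ : Θ = th z := by rw [← h1]; exact (inf_eq_left.2 hΘz).symm
  intro t ht htH ht2
  obtain ⟨g, hg⟩ := transfer c.hT hY hi ht htH ht2
  have h2 : th (g * t * g⁻¹) = th z := by
    rw [← hcen _ hg (by rw [orderOf_cj]; exact ht2), hΘ]
    exact inf_eq_left.2 (hDC _ (hY hg))
  symm
  apply Subgroup.eq_of_le_of_card_ge (c.le_th ht ht2)
  rw [← h2, th_conj, card_cj]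

theorem Ctx2.star (c : Ctx2 T z) {h a : G} (ha : a = h * z * h⁻¹) (haT : a ∈ T) (haz : a ≠ z) :
    ∀ t ∈ T, t ∈ Cfsg.pResidual 2 G → orderOf t = 2 → th t = th z := by
  haveI : Fact (Nat.Prime 2) := ⟨Nat.prime_two⟩
  have ho : orderOf a = 2 := by rw [ha, orderOf_cj]; exact c.oz
  obtain ⟨haa, ha1⟩ := sq_of_order ho
  rcases c.uz.fm (a := ⟨a, haT⟩) (fun e => ha1 (congrArg Subtype.val e)) (Subtype.ext haa)
    (fun e => haz (congrArg Subtype.val e)) with hfm | ⟨⟨v, hvT⟩, hvv, hv1, hvz, hvs⟩
  · apply c.star_of_mc haT haz ⟨h, ha⟩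
    intro x hx hxa
    rcases hfm ⟨a, haT⟩ (Subtype.ext haa) (fun e => ha1 (congrArg Subtype.val e))
      (fun e => haz (congrArg Subtype.val e)) ⟨x, hx⟩ (Subtype.ext hxa) with e | e | e | e
    · exact Or.inl (congrArg Subtype.val e)
    · exact Or.inr (Or.inl (congrArg Subtype.val e))
    · exact Or.inr (Or.inr (Or.inl (congrArg Subtype.val e)))
    · exact Or.inr (Or.inr (Or.inr (congrArg Subtype.val e)))
  · replace hvv : v * v = 1 := congrArg Subtype.val hvv
    replace hv1 : v ≠ 1 := fun e => hv1 (Subtype.ext e)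
    replace hvz : v ≠ z := fun e => hvz (Subtype.ext e)
    replace hvs : ∀ s ∈ T, s * v * s⁻¹ = v ∨ s * v * s⁻¹ = v * z := by
      intro s hs
      rcases hvs ⟨s, hs⟩ with e | e
      · exact Or.inl (congrArg Subtype.val e)
      · exact Or.inr (congrArg Subtype.val e)
    have hzT := c.hz.1
    have hvzc : v * z = z * v := c.comm hvT
    set Y := T ⊓ centralizer ({v} : Set G) with hY
    have hYT : Y ≤ T := inf_le_left
    have memY : ∀ s, s ∈ Y ↔ s ∈ T ∧ s * v = v * s := fun s => by
      rw [hY, mem_inf, mem_centralizer_singleton_iff]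
    -- an element outside
    obtain ⟨s₀, hs₀, hs₀v⟩ : ∃ s ∈ T, s ∉ Y := by
      by_contra hcon
      push Not at hcon
      rcases c.un v ⟨hvT, hvv, fun s hs => ((memY s).1 (hcon s hs)).2⟩ with e | e
      · exact hv1 e
      · exact hvz e
    have hout : ∀ s ∈ T, s ∉ Y → s * v * s⁻¹ = v * z := by
      intro s hs hsY
      rcases hvs s hs with e | e
      · exact absurd ((memY s).2 ⟨hs, mul_inv_eq_iff_eq_mul.1 e⟩) hsY
      · exact e
    have hprod : ∀ s ∈ T, ∀ s' ∈ T, s ∉ Y → s' ∉ Y → s * s' ∈ Y := by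
      intro s hs s' hs' h1 h2
      rw [memY]
      refine ⟨mul_mem hs hs', ?_⟩
      have e1 := hout s hs h1
      have e2 := hout s' hs' h2
      apply mul_inv_eq_iff_eq_mul.1
      calc (s * s') * v * (s * s')⁻¹ = s * (s' * v * s'⁻¹) * s⁻¹ := by group
        _ = (s * v * s⁻¹) * (s * z * s⁻¹) := by rw [e2]; group
        _ = v * z * z := by rw [e1, c.comm hs, mul_inv_cancel_right]
        _ = v := by rw [mul_assoc, c.zz, mul_one]
    have hi : Y.relIndex T = 2 := by
      rw [relIndex_eq_two_iff_exists_notMem_and]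
      refine ⟨s₀, hs₀, hs₀v, fun b hb => ?_⟩
      by_cases hbY : b ∈ Y
      · exact Or.inr hbY
      · exact Or.inl (hprod b hb s₀ hs₀ hbY hs₀v)
    have hzY : z ∈ Y := (memY z).2 ⟨hzT, hvzc.symm⟩
    have hvY : v ∈ Y := (memY v).2 ⟨hvT, rfl⟩
    -- the Θ argument, given an extra involution u
    obtain ⟨hB2, hB4⟩ := card_four hvv c.zz hvzc hv1 c.z1 hvz
    set B := zpowers v ⊔ zpowers z with hB
    have hvB : v ∈ B := (le_sup_left : zpowers v ≤ _) (mem_zpowers v)
    have hzB : z ∈ B := (le_sup_right : zpowers z ≤ _) (mem_zpowers z)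
    have hBT : B ≤ T := sup_le (by rw [zpowers_le]; exact hvT) (by rw [zpowers_le]; exact hzT)
    have hBY : B ≤ Y := sup_le (by rw [zpowers_le]; exact hvY) (by rw [zpowers_le]; exact hzY)
    have key : ∀ (w : G), w * w = 1 → ∀ i : ℤ, w ^ i = 1 ∨ w ^ i = w := by
      intro w hw i
      rcases Int.even_or_odd' i with ⟨m, rfl | rfl⟩
      · left; rw [zpow_mul, zpow_two, hw, one_zpow]
      · right; rw [zpow_add, zpow_mul, zpow_two, hw, one_zpow, one_mul, zpow_one]
    have memB : ∀ x, x ∈ B → x = 1 ∨ x = z ∨ x = v ∨ x = v * z := by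
      intro x hx
      have hn : zpowers v ≤ normalizer ((zpowers z : Subgroup G) : Set G) := by
        rw [zpowers_le]
        apply mem_normalizer_of_le
        intro w hw
        obtain ⟨i, rfl⟩ := mem_zpowers_iff.1 hw
        have : v * z ^ i * v⁻¹ = z ^ i := by
          rw [((show Commute v z from hvzc).zpow_right i).eq, mul_inv_cancel_right]
        rw [this]; exact hw
      have h3 : x ∈ ((zpowers v ⊔ zpowers z : Subgroup G) : Set G) := hx
      rw [coe_mul_of_left_le_normalizer_right _ _ hn] at h3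
      obtain ⟨p, hp, q, hq, rfl⟩ := h3
      obtain ⟨i, rfl⟩ := mem_zpowers_iff.1 hp
      obtain ⟨j, rfl⟩ := mem_zpowers_iff.1 hq
      simp only
      rcases key v hvv i with e1 | e1 <;> rcases key z c.zz j with e2 | e2
      · left; rw [e1, e2, one_mul]
      · right; left; rw [e1, e2, one_mul]
      · right; right; left; rw [e1, e2, mul_one]
      · right; right; right; rw [e1, e2]
    have hTB : T ≤ normalizer (B : Set G) := by
      intro s hs
      apply mem_normalizer_of_le
      intro x hx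
      have hsz : s * z * s⁻¹ = z := by rw [c.comm hs, mul_inv_cancel_right]
      have hsv : s * v * s⁻¹ ∈ B := by
        rcases hvs s hs with e | e
        · rw [e]; exact hvB
        · rw [e]; exact mul_mem hvB hzB
      rcases memB x hx with rfl | rfl | rfl | rfl
      · rw [mul_one, mul_inv_cancel]; exact one_mem _
      · rw [hsz]; exact hzB
      · exact hsv
      · have : s * (v * z) * s⁻¹ = (s * v * s⁻¹) * (s * z * s⁻¹) := by group
        rw [this, hsz]; exact mul_mem hsv hzB
    have hmain : ∀ u ∈ Y, u * u = 1 → u ∉ B →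
        ¬ 2 ∣ Nat.card (W (fun a : G => th a) B) ∧
        (∀ t ∈ Y, orderOf t = 2 → W (fun a : G => th a) B ⊓ centralizer ({t} : Set G) = th t) ∧
        (∀ a' ∈ T, orderOf a' = 2 → a' * u = u * a' → W (fun a : G => th a) B ⊓ centralizer ({a'} : Set G) = th a') := by
      intro u huY huu huB
      have huc : ∀ b ∈ B, b * u = u * b := by
        intro b hb
        rcases memB b hb with rfl | rfl | rfl | rfl
        · simp
        · exact (c.comm (hYT huY)).symm
        · exact ((memY u).1 huY).2.symm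
        · rw [mul_assoc, ← c.comm (hYT huY), ← mul_assoc, ← ((memY u).1 huY).2, mul_assoc]
      have hA₀2 : Ex2 (B ⊔ zpowers u) := by
        apply ex2_sup hB2 (ex2_zpowers huu)
        intro b hb y hy
        obtain ⟨j, rfl⟩ := mem_zpowers_iff.1 hy
        exact ((show Commute b u from huc b hb).zpow_right j).eq
      have hA₀8 : 8 ≤ Nat.card (B ⊔ zpowers u : Subgroup G) := by
        apply H27.EquivSig.pow_le_card (p := 2) (k := 2) (ex2_iff.1 hA₀2)
        intro hle
        apply huB
        have h3 : B = B ⊔ zpowers u := Subgroup.eq_of_le_of_card_ge le_sup_left (hle.trans hB4)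
        rw [h3]; exact (le_sup_right : zpowers u ≤ _) (mem_zpowers u)
      have hA₀T : B ⊔ zpowers u ≤ T := sup_le hBT (by rw [zpowers_le]; exact hYT huY)
      have hfun : ∀ A' : Subgroup G, Ex2 A' → B ≤ A' → 8 ≤ Nat.card A' →
          ¬ 2 ∣ Nat.card (W (fun a : G => th a) B) ∧
            ∀ a ∈ A', a ≠ 1 → W (fun a : G => th a) B ⊓ centralizer ({a} : Set G) = th a := by
        intro A' hA' hBA hc
        have h1 := (sig c.hC).main (ex2_iff.1 hA') hc
        have h2 := (sig c.hC).W_eq (ex2_iff.1 hA') hc hBA hB4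
        rw [← h2] at h1
        exact h1
      refine ⟨(hfun _ hA₀2 le_sup_left hA₀8).1, ?_, ?_⟩
      · intro t htY ht2
        have htc : ∀ b ∈ B, b * t = t * b := by
          intro b hb
          rcases memB b hb with rfl | rfl | rfl | rfl
          · simp
          · exact (c.comm (hYT htY)).symm
          · exact ((memY t).1 htY).2.symm
          · rw [mul_assoc, ← c.comm (hYT htY), ← mul_assoc, ← ((memY t).1 htY).2, mul_assoc]
        obtain ⟨A', h1, h2, -, h3, h5⟩ := exists_eight hB2 hB4 hBT (hYT htY) (sq_of_order ht2).1 htc hA₀2 le_sup_left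
          hA₀T hA₀8
        exact (hfun A' h1 h2 h3).2 t h5 (sq_of_order ht2).2
      · intro a' ha'T ha'2 ha'u
        obtain ⟨ha'a, ha'1⟩ := sq_of_order ha'2
        -- E₀ = ⟨z, u⟩
        have hu1 : u ≠ 1 := fun e => huB (by rw [e]; exact one_mem _)
        have huz : z ≠ u := fun e => huB (by rw [← e]; exact hzB)
        obtain ⟨hE2, hE4⟩ := card_four c.zz huu (c.comm (hYT huY)).symm c.z1 hu1 huz
        have hEA : zpowers z ⊔ zpowers u ≤ B ⊔ zpowers u :=
          sup_le (by rw [zpowers_le]; exact (le_sup_left : B ≤ _) hzB) le_sup_right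
        have hET : zpowers z ⊔ zpowers u ≤ T := hEA.trans hA₀T
        have hEY : zpowers z ⊔ zpowers u ≤ Y := sup_le (by rw [zpowers_le]; exact hzY) (by rw [zpowers_le]; exact huY)
        have hW1 : W (fun a : G => th a) (zpowers z ⊔ zpowers u) = W (fun a : G => th a) B := by
          rw [(sig c.hC).W_eq (ex2_iff.1 hA₀2) hA₀8 hEA hE4, (sig c.hC).W_eq (ex2_iff.1 hA₀2) hA₀8 le_sup_left hB4]
        by_cases ha'E : a' ∈ zpowers z ⊔ zpowers u
        · exact (hfun _ hA₀2 le_sup_left hA₀8).2 a' (hEA ha'E) ha'1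
        · have hcc : ∀ b ∈ zpowers z ⊔ zpowers u, b * a' = a' * b := by
            have : zpowers z ⊔ zpowers u ≤ centralizer ({a'} : Set G) := by
              apply sup_le
              · rw [zpowers_le, mem_centralizer_singleton_iff]; exact (c.comm ha'T).symm
              · rw [zpowers_le, mem_centralizer_singleton_iff]; exact ha'u.symm
            exact fun b hb => mem_centralizer_singleton_iff.1 (this hb)
          have h2 : Ex2 ((zpowers z ⊔ zpowers u) ⊔ zpowers a') := by
            apply ex2_sup hE2 (ex2_zpowers ha'a)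
            intro b hb y hy
            obtain ⟨j, rfl⟩ := mem_zpowers_iff.1 hy
            exact ((show Commute b a' from hcc b hb).zpow_right j).eq
          have h8 : 8 ≤ Nat.card ((zpowers z ⊔ zpowers u) ⊔ zpowers a' : Subgroup G) := by
            apply H27.EquivSig.pow_le_card (p := 2) (k := 2) (ex2_iff.1 h2)
            intro hle
            apply ha'E
            have h3 : (zpowers z ⊔ zpowers u) = (zpowers z ⊔ zpowers u) ⊔ zpowers a' :=
              Subgroup.eq_of_le_of_card_ge le_sup_left (hle.trans hE4)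
            rw [h3]; exact (le_sup_right : zpowers a' ≤ _) (mem_zpowers a')
          have h5 := (sig c.hC).main (ex2_iff.1 h2) h8
          have h6 := (sig c.hC).W_eq (ex2_iff.1 h2) h8 le_sup_left hE4
          rw [← h6, hW1] at h5
          exact h5.2 a' ((le_sup_right : zpowers a' ≤ _) (mem_zpowers a')) ha'1
    have hnor : T ≤ normalizer (W (fun a : G => th a) B : Set G) :=
      hTB.trans (H55.CoreGen.normalizer_le_normalizer_W (p := 2) B)
    -- case distinction
    by_cases h1 : ∃ a' ∈ Y, a' ≠ z ∧ ∃ g : G, a' = g * z * g⁻¹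
    · obtain ⟨a', ha'Y, ha'z, g, hg⟩ := h1
      have ho' : orderOf a' = 2 := by rw [hg, orderOf_cj]; exact c.oz
      by_cases h2 : ∃ u ∈ Y, u * u = 1 ∧ u ∉ B
      · obtain ⟨u, huY, huu, huB⟩ := h2
        obtain ⟨m1, m2, -⟩ := hmain u huY huu huB
        apply c.star_of_theta hYT hi hzY m1 hnor m2 (hYT ha'Y) ha'z ho'
        rw [m2 a' ha'Y ho', c.F2' (hYT ha'Y) ⟨g, hg⟩]
      · push Not at h2
        have ha'B : a' ∈ B := h2 a' ha'Y (sq_of_order ho').1
        have hvc : ∃ g : G, v = g * z * g⁻¹ := by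
          rcases memB a' ha'B with e | e | e | e
          · exact absurd e (sq_of_order ho').2
          · exact absurd e ha'z
          · exact ⟨g, by rw [← e]; exact hg⟩
          · refine ⟨s₀⁻¹ * g, ?_⟩
            have h3 := hout s₀ hs₀ hs₀v
            rw [← e, hg] at h3
            calc v = s₀⁻¹ * (s₀ * v * s₀⁻¹) * s₀ := by group
              _ = s₀⁻¹ * (g * z * g⁻¹) * s₀ := by rw [h3]
              _ = _ := by group
        apply c.star_of_conj hYT hi
        intro u huY hu2
        rcases memB u (h2 u huY (sq_of_order hu2).1) with e | e | e | e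
        · exact absurd e (sq_of_order hu2).2
        · exact ⟨1, by rw [e]; simp⟩
        · rw [e]; exact hvc
        · obtain ⟨k, hk⟩ := hvc
          refine ⟨s₀ * k, ?_⟩
          rw [e, ← hout s₀ hs₀ hs₀v]
          calc s₀ * v * s₀⁻¹ = s₀ * (k * z * k⁻¹) * s₀⁻¹ := by rw [← hk]
            _ = _ := by group
    · push Not at h1
      have haY : a ∉ Y := fun hh => h1 a hh haz h ha
      by_cases h3 : ∀ x ∈ T, x * a = a * x → x = 1 ∨ x = a ∨ x = z ∨ x = a * z
      · exact c.star_of_mc haT haz ⟨h, ha⟩ h3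
      · push Not at h3
        obtain ⟨y₀, hy₀T, hy₀a, hy1, hy2, hy3, hy4⟩ := h3
        -- WLOG in Y
        obtain ⟨y, hyY, hya, hy1, hyz⟩ : ∃ y ∈ Y, y * a = a * y ∧ y ≠ 1 ∧ y ≠ z := by
          by_cases hyY : y₀ ∈ Y
          · exact ⟨y₀, hyY, hy₀a, hy1, hy3⟩
          · refine ⟨y₀ * a, hprod y₀ hy₀T a haT hyY haY, by rw [← mul_assoc, hy₀a], fun e => hy2 ?_, fun e => hy4 ?_⟩
            · rw [← haa] at e; exact mul_right_cancel e
            · calc y₀ = (y₀ * a) * a := by rw [mul_assoc, haa, mul_one]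
                _ = z * a := by rw [e]
                _ = a * z := (c.comm haT).symm
        -- an involution
        obtain ⟨u, huY, huu, hua, hu1, huz⟩ : ∃ u ∈ Y, u * u = 1 ∧ u * a = a * u ∧ u ≠ 1 ∧ u ≠ z := by
          by_contra hcon
          push Not at hcon
          have hyy : y * y ≠ 1 := fun e => hyz (hcon y hyY e hya hy1)
          -- power of y which is an involution and a square
          obtain ⟨k, hk⟩ := c.hT.2.1 ⟨y, hYT hyY⟩
          have hk' : y ^ 2 ^ k = 1 := congrArg Subtype.val hk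
          obtain ⟨j, hj, hjk⟩ : ∃ j, y ^ 2 ^ j ≠ 1 ∧ y ^ 2 ^ (j + 1) = 1 := by
            classical
            have hex : ∃ k, y ^ 2 ^ k = 1 := ⟨k, hk'⟩
            have hf0 : Nat.find hex ≠ 0 := by
              intro e
              have := Nat.find_spec hex
              rw [e, pow_zero, pow_one] at this
              exact hy1 this
            obtain ⟨j, hj⟩ := Nat.exists_eq_succ_of_ne_zero hf0
            refine ⟨j, Nat.find_min hex (by omega), ?_⟩
            have := Nat.find_spec hex
            rwa [hj] at this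
          have hj0 : j ≠ 0 := by
            rintro rfl
            apply hyy
            rw [← pow_two]; simpa using hjk
          obtain ⟨i, rfl⟩ := Nat.exists_eq_succ_of_ne_zero hj0
          have hsq : (y ^ 2 ^ i) * (y ^ 2 ^ i) = z := by
            have e : (y ^ 2 ^ i) * (y ^ 2 ^ i) = y ^ 2 ^ (i + 1) := by
              rw [← pow_two, ← pow_mul, pow_succ]
            rw [e]
            apply hcon
            · exact pow_mem hyY _
            · rw [← pow_two, ← pow_mul]
              exact hjk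
            · exact ((show Commute y a from hya).pow_left _).eq
            · exact hj
          -- the subgroup Y^h
          have hyh : y ^ 2 ^ i ∈ ZN.cj h T := by
            have h5 : y ^ 2 ^ i ∈ normalizer ((ZN.cj h T : Subgroup G) : Set G) := by
              rw [← cj_normalizer, mem_cj]
              apply c.hZ
              rw [mem_centralizer_singleton_iff]
              have h6 : (y ^ 2 ^ i) * a = a * (y ^ 2 ^ i) := ((show Commute y a from hya).pow_left _).eq
              rw [ha] at h6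
              calc h⁻¹ * y ^ 2 ^ i * h * z = h⁻¹ * (y ^ 2 ^ i * (h * z * h⁻¹)) * h := by group
                _ = h⁻¹ * ((h * z * h⁻¹) * y ^ 2 ^ i) * h := by rw [h6]
                _ = z * (h⁻¹ * y ^ 2 ^ i * h) := by group
            have h7 : Syl ⊤ (ZN.cj h T) := by
              have := c.hT.cj h
              have e : ZN.cj h (⊤ : Subgroup G) = ⊤ := (ZN.cj h).map_top
              rwa [e] at this
            have h8 : IsPGroup 2 (zpowers (y ^ 2 ^ i)) := by
              apply c.hT.2.1.to_le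
              rw [zpowers_le]; exact pow_mem (hYT hyY) _
            have h9 := h7.2.2 (zpowers (y ^ 2 ^ i) ⊔ ZN.cj h T)
              (isPGroup_sup h8 h7.2.1 (by rw [zpowers_le]; exact h5)) le_sup_right le_top
            exact h9 ((le_sup_left : zpowers (y ^ 2 ^ i) ≤ _) (mem_zpowers _))
          have hyh' : h⁻¹ * y ^ 2 ^ i * h ∈ T := mem_cj.1 hyh
          have hsqY : (h⁻¹ * y ^ 2 ^ i * h) * (h⁻¹ * y ^ 2 ^ i * h) ∈ Y := by
            by_cases h5 : h⁻¹ * y ^ 2 ^ i * h ∈ Y
            · exact mul_mem h5 h5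
            · exact hprod _ hyh' _ hyh' h5 h5
          have hzh : h⁻¹ * z * h ∈ Y := by
            have : (h⁻¹ * y ^ 2 ^ i * h) * (h⁻¹ * y ^ 2 ^ i * h) = h⁻¹ * ((y ^ 2 ^ i) * (y ^ 2 ^ i)) * h := by group
            rw [this, hsq] at hsqY
            exact hsqY
          by_cases h5 : h⁻¹ * z * h = z
          · apply haz
            rw [ha]
            calc h * z * h⁻¹ = h * (h⁻¹ * z * h) * h⁻¹ := by rw [h5]
              _ = z := by group
          · exact h1 _ hzh h5 h⁻¹ (by group)
        have huB : u ∉ B := by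
          intro huB
          rcases memB u huB with e | e | e | e
          · exact hu1 e
          · exact huz e
          · apply haY
            rw [memY]
            refine ⟨haT, ?_⟩
            rw [e] at hua; exact hua.symm
          · apply haY
            rw [memY]
            refine ⟨haT, ?_⟩
            rw [e] at hua
            have h5 : v * a * z = a * v * z := by
              calc v * a * z = v * (a * z) := by group
                _ = v * (z * a) := by rw [c.comm haT]
                _ = v * z * a := by group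
                _ = a * (v * z) := hua
                _ = a * v * z := by group
            exact (mul_right_cancel h5).symm
        obtain ⟨m1, m2, m3⟩ := hmain u huY huu huB
        apply c.star_of_theta hYT hi hzY m1 hnor m2 haT haz ho
        rw [m3 a haT ho hua.symm, c.F2' haT ⟨h, ha⟩]

end H55.ZC
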