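import Cfsg.Agent.Lib.H55.ZC4
import Cfsg.Prelude.Def_PLocal
import Cfsg.Prelude.Def_Transfer

set_option autoImplicit false
set_option linter.unusedSimpArgs false
set_option linter.unusedSectionVars false

/-! ZC-groups: assembly. -/

namespace H55.ZC

open Subgroup H55.ZN H27 H27.EquivSig Cfsg

variable {G : Type*} [Group G] [Finite G]

theorem omegaOne_eq (T : Subgroup G) : omegaOne 2 (T ⊓ centralizer (T : Set G)) = om T := by
  apply le_antisymm
  · rw [omegaOne, closure_le]
    rintro x ⟨hx, hx2⟩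
    refine ⟨hx.1, by rw [← pow_two]; exact hx2, fun s hs => mem_centralizer_iff.1 hx.2 s hs⟩
  · intro x hx
    apply Subgroup.subset_closure
    exact ⟨⟨hx.1, mem_centralizer_iff.2 fun s hs => hx.2.2 s hs⟩, by rw [pow_two]; exact hx.2.1⟩

theorem syl_of (S : Sylow 2 G) : Syl ⊤ (S : Subgroup G) :=
  ⟨le_top, S.isPGroup', fun _ hR hle _ => (S.is_maximal' hR hle).le⟩

theorem syl_inf_normal {T H : Subgroup G} (hT : Syl ⊤ T) (hH : H.Normal) : Syl H (T ⊓ H) := by
  refine ⟨inf_le_right, hT.2.1.to_le inf_le_left, fun R hR hle hRH => ?_⟩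
  obtain ⟨k, -, hk⟩ := hT.conj hR le_top
  have h1 : R ≤ cj k (T ⊓ H) := by
    rw [cj_inf]
    apply le_inf hk
    have : cj k H = H := cj_eq_iff.2 (by rw [normalizer_eq_top]; exact mem_top k)
    rw [this]; exact hRH
  have h2 : Nat.card R ≤ Nat.card (T ⊓ H : Subgroup G) := by
    rw [← card_cj k (T ⊓ H)]
    exact Nat.le_of_dvd Nat.card_pos (card_dvd_of_le h1)
  exact (Subgroup.eq_of_le_of_card_ge hle h2).ge

/-- basic data -/
structure Bas (T H : Subgroup G) : Prop where
  hT : Syl ⊤ T
  hH : H = Cfsg.pResidual 2 G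
  hO' : Cfsg.pPrimeCore 2 G = ⊥
  hO : Cfsg.pCore 2 G = ⊥
  ev : Even (Nat.card G)

variable {T H : Subgroup G}

theorem Bas.nor (b : Bas T H) : H.Normal := by
  rw [b.hH]; infer_instance

theorem Bas.sup (b : Bas T H) : T ⊔ H = ⊤ := by
  haveI : Fact (Nat.Prime 2) := ⟨Nat.prime_two⟩
  rw [b.hH]
  apply H39.SylowAux.sup_pResidual_eq_top
  let P : Sylow 2 G := ⟨T, b.hT.2.1, fun {R} hR hle => le_antisymm (b.hT.2.2 R hR hle le_top) hle⟩
  exact P.not_dvd_index

theorem Bas.inf_ne (b : Bas T H) : T ⊓ H ≠ ⊥ := by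
  haveI : Fact (Nat.Prime 2) := ⟨Nat.prime_two⟩
  haveI := b.nor
  intro e
  have hsyl := syl_inf_normal b.hT b.nor
  rw [e] at hsyl
  have h1 : ¬ 2 ∣ Nat.card H := by
    intro hd
    obtain ⟨⟨t, ht⟩, ht2⟩ := exists_prime_orderOf_dvd_card' 2 hd
    rw [Subgroup.orderOf_mk] at ht2
    have h2 := hsyl.2.2 (zpowers t) (isPGroup_inv (sq_of_order ht2).1) bot_le (by rw [zpowers_le]; exact ht)
    have h3 := h2 (mem_zpowers t)
    rw [mem_bot] at h3
    exact (sq_of_order ht2).2 h3
  have h2 : H = ⊥ := by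
    have := H1.Cores.le_pPrimeCore b.nor ((Nat.Prime.coprime_iff_not_dvd Nat.prime_two).2 h1).symm
    rw [b.hO'] at this
    exact le_bot_iff.1 this
  have h3 := b.sup
  rw [h2, sup_bot_eq] at h3
  have h4 : T.Normal := by rw [h3]; infer_instance
  have h5 := H1.Cores.le_pCore h4 b.hT.2.1
  rw [b.hO, le_bot_iff, h3] at h5
  have h6 : Nat.card G = 1 := by rw [← Subgroup.card_top, h5, Subgroup.card_bot]
  have := b.ev
  rw [h6] at this
  exact absurd this (by decide)

theorem Bas.exists_inv (b : Bas T H) : ∃ z ∈ om T, z ∈ H ∧ z ≠ 1 := by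
  haveI : Fact (Nat.Prime 2) := ⟨Nat.prime_two⟩
  have hn : T ≤ normalizer ((T ⊓ H : Subgroup G) : Set G) := by
    intro s hs
    apply mem_normalizer_of_le
    intro x hx
    exact mem_inf.2 ⟨mul_mem (mul_mem hs hx.1) (inv_mem hs), b.nor.conj_mem x hx.2 s⟩
  have h5 := H65.PBasic.inf_centralizer_ne_bot T (T ⊓ H) b.hT.2.1 (b.hT.2.1.to_le inf_le_left) hn b.inf_ne
  obtain ⟨w, hw, hw1⟩ := exists_central_inv (b.hT.2.1.to_le (inf_le_left.trans inf_le_left)) h5
  exact ⟨w, ⟨hw.1.1.1, hw.2.1, fun s hs => mem_centralizer_iff.1 hw.1.2 s hs⟩, hw.1.1.2, hw1⟩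

theorem Bas.se (b : Bas T H) {M : Subgroup G} (hM : M ≠ ⊤) (hTM : T ≤ M)
    (h : ∀ X : Subgroup G, X ≤ T ⊓ H → X ≠ ⊥ → ∀ g ∈ H, g ∈ normalizer (X : Set G) → g ∈ M) :
    ∃ K : Subgroup H, Cfsg.IsStronglyEmbedded K := by
  apply exists_se (syl_inf_normal b.hT b.nor) (inf_le_left.trans hTM) b.inf_ne _ h
  intro hle
  apply hM
  rw [eq_top_iff, ← b.sup]
  exact sup_le hTM hle

theorem Bas.nor_sup (b : Bas T H) : (H ⊔ om T).Normal := by
  rw [← normalizer_eq_top_iff, eq_top_iff, ← b.sup]
  apply sup_le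
  · intro s hs
    rw [← cj_eq_iff, cj_sup]
    have h1 : cj s H = H := cj_eq_iff.2 (by haveI := b.nor; rw [normalizer_eq_top]; exact mem_top s)
    have h2 : cj s (om T) = om T := by
      rw [cj_eq_iff]
      apply mem_normalizer_of_le
      intro z hz
      rw [hz.2.2 s hs, mul_inv_cancel_right]; exact hz
    rw [h1, h2]
  · exact le_sup_left.trans le_normalizer

theorem Bas.even (b : Bas T H) {Y : Subgroup G} (hHY : H ≤ Y) : Even (Nat.card Y) := by
  obtain ⟨z, hz, hzH, hz1⟩ := b.exists_inv
  rw [even_iff_two_dvd, ← orderOf_two hz1 hz.2.1]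
  have : orderOf (⟨z, hHY hzH⟩ : Y) ∣ Nat.card Y := orderOf_dvd_natCard _
  rwa [Subgroup.orderOf_mk] at this

/-- main theorem -/
theorem Bas.main (b : Bas T H) (hC : HC G) (hZ : centralizer ((om T : Subgroup G) : Set G) ≤ normalizer (T : Set G)) :
    (∃ M : Subgroup H, Cfsg.IsStronglyEmbedded M) ∨
      (Nat.card ↥(om T ⊓ H) = 2 ∧ ∀ h ∈ H, ∀ z ∈ om T ⊓ H, h * z * h⁻¹ ∈ T → h * z * h⁻¹ ∈ om T) ∨
      (Nat.card ↥(om T) = 4 ∧ omegaOne 2 (T ⊓ H) = om T) ∨
      Cfsg.IsCharacteristicTwoType ↥(H ⊔ om T) := by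
  classical
  haveI : Fact (Nat.Prime 2) := ⟨Nat.prime_two⟩
  haveI := b.nor
  obtain ⟨z, hz, hzH, hz1⟩ := b.exists_inv
  have hoT : om T ≤ T := fun w hw => hw.1
  have ho2 : IsPGroup 2 (om T) := b.hT.2.1.to_le hoT
  by_cases h4 : 4 ≤ Nat.card (om T)
  · by_cases h8 : ∃ A : Subgroup G, Ex2 A ∧ om T ≤ A ∧ A ≤ T ∧ 8 ≤ Nat.card A
    · obtain ⟨A, hA, hoA, hAT, hA8⟩ := h8
      rcases caseBig hC b.hO' b.hT h4 hA hoA hAT hA8 with h | ⟨M, hM, hTM, h⟩
      · right; right; right
        exact char_two_type_normal hC b.nor_sup (b.even le_sup_left) (fun t _ ht => h t ht)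
      · left
        exact b.se hM hTM (fun X hX hX0 g _ hg => h X (hX.trans inf_le_left) hX0 g hg)
    · push Not at h8
      have hall : ∀ t ∈ T, t * t = 1 → t ∈ om T := by
        intro t ht ht2
        by_contra hcon
        have h2 : Ex2 (om T ⊔ zpowers t) := by
          apply ex2_sup (om_ex2 T) (ex2_zpowers ht2)
          intro w hw y hy
          obtain ⟨j, rfl⟩ := mem_zpowers_iff.1 hy
          exact ((show Commute w t from (hw.2.2 t ht).symm).zpow_right j).eq
        have h3 := h8 (om T ⊔ zpowers t) h2 le_sup_left (sup_le hoT (by rw [zpowers_le]; exact ht))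
        have h5 : 8 ≤ Nat.card (om T ⊔ zpowers t : Subgroup G) := by
          apply H27.EquivSig.pow_le_card (p := 2) (k := 2) (ex2_iff.1 h2)
          intro hle
          apply hcon
          have h6 : om T = om T ⊔ zpowers t := Subgroup.eq_of_le_of_card_ge le_sup_left (hle.trans h4)
          rw [h6]; exact (le_sup_right : zpowers t ≤ _) (mem_zpowers t)
        omega
      have hc4 : Nat.card (om T) = 4 := by
        have h3 := h8 (om T) (om_ex2 T) le_rfl hoT
        obtain ⟨n, hn⟩ := IsPGroup.iff_card.1 ho2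
        rw [hn] at h3 h4 ⊢
        have hn3 : n < 3 := (Nat.pow_lt_pow_iff_right (a := 2) (by norm_num)).1 (by simpa using h3)
        have hn2 : 2 ≤ n := (Nat.pow_le_pow_iff_right (a := 2) (by norm_num)).1 (by simpa using h4)
        have : n = 2 := by omega
        rw [this]; norm_num
      by_cases hle : om T ≤ H
      · right; right; left
        refine ⟨hc4, le_antisymm ?_ ?_⟩
        · rw [omegaOne, closure_le]
          rintro x ⟨hx, hx2⟩
          exact hall x hx.1 (by rw [← pow_two]; exact hx2)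
        · intro x hx
          exact Subgroup.subset_closure ⟨⟨hx.1, hle hx⟩, by rw [pow_two]; exact hx.2.1⟩
      · right; left
        constructor
        · have hd : Nat.card ↥(om T ⊓ H) ∣ 2 ^ 2 := by
            have := card_dvd_of_le (inf_le_left : om T ⊓ H ≤ om T)
            rw [hc4] at this; simpa using this
          obtain ⟨k, hk, hk'⟩ := (Nat.dvd_prime_pow Nat.prime_two).1 hd
          have hk2 : k ≠ 2 := by
            rintro rfl
            apply hle
            have : om T ⊓ H = om T := Subgroup.eq_of_le_of_card_ge inf_le_left (by rw [hc4, hk']; norm_num)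
            rw [← this]; exact inf_le_right
          have hk0 : k ≠ 0 := by
            rintro rfl
            rw [pow_zero, Subgroup.card_eq_one] at hk'
            have : z ∈ om T ⊓ H := ⟨hz, hzH⟩
            rw [hk', mem_bot] at this
            exact hz1 this
          have : k = 1 := by omega
          rw [hk', this, pow_one]
        · intro h _ w hw hwT
          apply hall _ hwT
          calc (h * w * h⁻¹) * (h * w * h⁻¹) = h * (w * w) * h⁻¹ := by group
            _ = 1 := by rw [hw.1.2.1]; group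
  · -- |om T| = 2
    have hc2 : Nat.card (om T) = 2 := by
      obtain ⟨n, hn⟩ := IsPGroup.iff_card.1 ho2
      rw [hn] at h4 ⊢
      have hn2 : n < 2 := by
        by_contra hcon
        push Not at hcon
        apply h4
        calc 4 = 2 ^ 2 := by norm_num
          _ ≤ 2 ^ n := Nat.pow_le_pow_right (by norm_num) hcon
      have hn0 : n ≠ 0 := by
        rintro rfl
        rw [pow_zero, Subgroup.card_eq_one] at hn
        rw [hn, mem_bot] at hz
        exact hz1 hz
      have : n = 1 := by omega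
      rw [this, pow_one]
    have hun : ∀ w ∈ om T, w = 1 ∨ w = z := by
      intro w hw
      by_contra hcon
      push Not at hcon
      have h1 : ({1, z, w} : Set G) ⊆ (om T : Set G) := by
        rintro x (rfl | rfl | rfl)
        · exact one_mem _
        · exact hz
        · exact hw
      have h2 := Set.ncard_le_ncard h1 (Set.toFinite _)
      have h3 : (om T : Set G).ncard = 2 := hc2
      rw [h3] at h2
      have h5 : ({1, z, w} : Set G).ncard = 3 := by
        rw [Set.ncard_eq_three]
        exact ⟨1, z, w, Ne.symm hz1, Ne.symm hcon.1, Ne.symm hcon.2, rfl⟩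
      omega
    have hoH : om T ≤ H := by
      intro w hw
      rcases hun w hw with rfl | rfl
      · exact one_mem _
      · exact hzH
    have hinf : om T ⊓ H = om T := inf_eq_left.2 hoH
    by_cases h3 : ∀ h ∈ H, ∀ z ∈ om T ⊓ H, h * z * h⁻¹ ∈ T → h * z * h⁻¹ ∈ om T
    · right; left
      exact ⟨by rw [hinf]; exact hc2, h3⟩
    · push Not at h3
      obtain ⟨h, hh, w, hw, hwT, hwo⟩ := h3
      have hwz : w = z := by
        rcases hun w hw.1 with e | e
        · exfalso
          apply hwo
          rw [e, mul_one, mul_inv_cancel]; exact one_mem _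
        · exact e
      rw [hwz] at hwT hwo
      have c : Ctx2 T z := by
        refine ⟨hC, b.hT, hz, hz1, hun, le_trans ?_ hZ⟩
        intro x hx
        rw [mem_centralizer_singleton_iff] at hx
        rw [mem_centralizer_iff]
        intro y hy
        rcases hun y hy with e | e
        · rw [e]; simp
        · rw [e]; exact hx.symm
      have hstar := c.star rfl hwT (fun e => hwo (by rw [e]; exact hz))
      by_cases hb : th z = ⊥
      · right; right; right
        apply char_two_type_normal hC b.nor_sup (b.even le_sup_left)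
        intro t ht ht2
        rw [sup_eq_left.2 hoH] at ht
        obtain ⟨g, hg⟩ := conj_into b.hT ht2
        apply th_bot_of (g := g)
        rw [← hb]
        apply hstar _ hg _ (by rw [orderOf_cj']; exact ht2)
        rw [← b.hH]
        have := b.nor.conj_mem t ht g⁻¹
        rwa [inv_inv] at this
      · left
        have hodd : ¬ 2 ∣ Nat.card (th z) := fun h =>
          (Nat.Prime.coprime_iff_not_dvd Nat.prime_two).1 (th_coprime z).symm h
        apply b.se (M := normalizer (th z : Set G)) (fun e => hb (odd_normal_bot b.hO' hodd e))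
        · intro s hs
          exact th_norm z (mem_centralizer_singleton_iff.2 (c.comm hs))
        · intro X hX hX0 g hgH hg
          obtain ⟨x, hx, hx1⟩ := exists_central_inv (b.hT.2.1.to_le (hX.trans inf_le_left)) hX0
          have hx2 := orderOf_two hx1 hx.2.1
          have hgx : g * x * g⁻¹ ∈ X := conj_mem_of_norm hg hx.1
          have e1 := hstar x (hX hx.1).1 (by rw [← b.hH]; exact (hX hx.1).2) hx2
          have e2 := hstar _ (hX hgx).1 (by rw [← b.hH]; exact (hX hgx).2) (by rw [orderOf_cj]; exact hx2)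
          rw [th_conj, e1] at e2
          exact cj_eq_iff.1 e2

end H55.ZC
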