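import Cfsg.Agent.Lib.H55.ZC5
import Cfsg.Agent.S4399
import Cfsg.Agent.S0218

set_option autoImplicit false
set_option linter.unusedSimpArgs false
set_option linter.unusedSectionVars false

/-! Self-centralizing four-groups and strongly embedded subgroups of normal subgroups. -/

namespace H55.ZC

open Subgroup H55.ZN

section s4
open Equiv

theorem s4a : ∀ u : Perm (Fin 4), u = 1 ∨ u = swap 0 1 * swap 2 3 ∨ u = swap 0 2 * swap 1 3 ∨
    u = swap 0 3 * swap 1 2 ∨
    ∃ g : Perm (Fin 4), (u * (g * u * g⁻¹)) ^ 3 = 1 ∧ u * (g * u * g⁻¹) ≠ 1 := by decide +kernel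

theorem s4b : ∀ x : Perm (Fin 4), x * (swap 0 1 * swap 2 3) = (swap 0 1 * swap 2 3) * x →
    x * (swap 0 2 * swap 1 3) = (swap 0 2 * swap 1 3) * x →
    x = 1 ∨ x = swap 0 1 * swap 2 3 ∨ x = swap 0 2 * swap 1 3 ∨ x = swap 0 3 * swap 1 2 := by decide +kernel

theorem s4c : ∀ u : Perm (Fin 4), (u = swap 0 1 * swap 2 3 ∨ u = swap 0 2 * swap 1 3 ∨
    u = swap 0 3 * swap 1 2) → (∃ g : Perm (Fin 4), g * u * g⁻¹ = swap 0 1 * swap 2 3) ∧
    (∃ g : Perm (Fin 4), g * u * g⁻¹ = swap 0 2 * swap 1 3) ∧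
    (∃ g : Perm (Fin 4), g * u * g⁻¹ = swap 0 3 * swap 1 2) := by decide +kernel

theorem s4_normal {U : Subgroup (Perm (Fin 4))} (hn : U.Normal) (h2 : IsPGroup 2 U) (hU : U ≠ ⊥) :
    Nat.card U = 4 ∧ (∀ u ∈ U, u * u = 1) ∧ ∀ x : Perm (Fin 4), (∀ u ∈ U, x * u = u * x) → x ∈ U := by
  have h1 : ∀ u ∈ U, u = 1 ∨ u = swap 0 1 * swap 2 3 ∨ u = swap 0 2 * swap 1 3 ∨ u = swap 0 3 * swap 1 2 := by
    intro u hu
    rcases s4a u with h | h | h | h | ⟨g, hg3, hg1⟩
    · exact Or.inl h
    · exact Or.inr (Or.inl h)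
    · exact Or.inr (Or.inr (Or.inl h))
    · exact Or.inr (Or.inr (Or.inr h))
    · exfalso
      have hm : u * (g * u * g⁻¹) ∈ U := U.mul_mem hu (hn.conj_mem u hu g)
      obtain ⟨k, hk⟩ := h2 ⟨_, hm⟩
      have hk' : (u * (g * u * g⁻¹)) ^ 2 ^ k = 1 := congrArg Subtype.val hk
      have h3 : orderOf (u * (g * u * g⁻¹)) ∣ 3 := orderOf_dvd_of_pow_eq_one hg3
      have h4 : orderOf (u * (g * u * g⁻¹)) ∣ 2 ^ k := orderOf_dvd_of_pow_eq_one hk'
      have h5 : Nat.Coprime 3 (2 ^ k) := Nat.Coprime.pow_right k (by decide)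
      exact hg1 (orderOf_eq_one_iff.1 (Nat.eq_one_of_dvd_coprimes h5 h3 h4))
  obtain ⟨⟨u, hu⟩, hu1⟩ := Subgroup.ne_bot_iff_exists_ne_one.1 hU
  have hu1' : u ≠ 1 := fun e => hu1 (Subtype.ext e)
  have h3 : u = swap 0 1 * swap 2 3 ∨ u = swap 0 2 * swap 1 3 ∨ u = swap 0 3 * swap 1 2 := by
    rcases h1 u hu with h | h
    · exact absurd h hu1'
    · exact h
  obtain ⟨⟨g1, e1⟩, ⟨g2, e2⟩, ⟨g3, e3⟩⟩ := s4c u h3
  have m1 : (swap 0 1 * swap 2 3 : Perm (Fin 4)) ∈ U := e1 ▸ hn.conj_mem u hu g1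
  have m2 : (swap 0 2 * swap 1 3 : Perm (Fin 4)) ∈ U := e2 ▸ hn.conj_mem u hu g2
  have m3 : (swap 0 3 * swap 1 2 : Perm (Fin 4)) ∈ U := e3 ▸ hn.conj_mem u hu g3
  have hset : (U : Set (Perm (Fin 4))) = (({1, swap 0 1 * swap 2 3, swap 0 2 * swap 1 3, swap 0 3 * swap 1 2} :
      Finset (Perm (Fin 4))) : Set (Perm (Fin 4))) := by
    ext x
    constructor
    · intro hx
      have := h1 x hx
      simpa using this
    · intro hx
      have : x = 1 ∨ x = swap 0 1 * swap 2 3 ∨ x = swap 0 2 * swap 1 3 ∨ x = swap 0 3 * swap 1 2 := by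
        simpa using hx
      rcases this with rfl | rfl | rfl | rfl
      · exact U.one_mem
      · exact m1
      · exact m2
      · exact m3
  refine ⟨?_, ?_, ?_⟩
  · have : Nat.card U = (U : Set (Perm (Fin 4))).ncard := rfl
    rw [this, hset, Set.ncard_coe_finset]
    decide +kernel
  · intro x hx
    rcases h1 x hx with rfl | rfl | rfl | rfl <;> decide +kernel
  · intro x hx
    have := s4b x (hx _ m1) (hx _ m2)
    rcases this with rfl | rfl | rfl | rfl
    · exact U.one_mem
    · exact m1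
    · exact m2
    · exact m3

end s4

/-- self-centralizing four-group -/
theorem dq {X : Type*} [Group X] [Finite X] (h2 : IsPGroup 2 X) {V : Subgroup X} (hV4 : Nat.card V = 4)
    (hV2 : ∀ v ∈ V, v * v = 1) (hVC : ∀ x : X, (∀ v ∈ V, x * v = v * x) → x ∈ V) :
    (∃ n : ℕ, 2 ≤ n ∧ Nonempty (X ≃* DihedralGroup n)) ∨ Cfsg.IsQuasiDihedral X := by
  haveI : Fact (Nat.Prime 2) := ⟨Nat.prime_two⟩
  have hE : Ex2 V := hV2
  have hC : centralizer (V : Set X) = V := by
    apply le_antisymm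
    · intro x hx
      exact hVC x (fun v hv => (mem_centralizer_iff.1 hx v hv).symm)
    · intro x hx
      rw [mem_centralizer_iff]
      intro y hy
      exact hE.comm hy hx
  obtain ⟨n, hn⟩ := IsPGroup.iff_card.1 h2
  -- the case X = V
  have hfour : Nat.card X = 4 → ∃ n : ℕ, 2 ≤ n ∧ Nonempty (X ≃* DihedralGroup n) := by
    intro hc
    have hV : V = ⊤ := Subgroup.eq_top_of_card_eq V (by rw [hV4, hc])
    haveI : IsKleinFour X := by
      refine ⟨hc, ?_⟩
      apply le_antisymm _ _ |> fun h => h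
      · apply Nat.le_of_dvd (by norm_num)
        rw [Monoid.exponent_dvd_iff_forall_pow_eq_one]
        intro x
        rw [pow_two]; exact hV2 x (by rw [hV]; exact mem_top x)
      · by_contra hlt
        push Not at hlt
        have h0 : Monoid.exponent X ≠ 0 := Monoid.exponent_ne_zero_of_finite
        have h1 : Monoid.exponent X = 1 := by omega
        have h3 : Subsingleton X := Monoid.exp_eq_one_iff.1 h1
        have h4 : Nat.card X = 1 := Nat.card_of_subsingleton 1
        omega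
    exact ⟨2, le_rfl, IsKleinFour.nonempty_mulEquiv⟩
  by_cases hn3 : 3 ≤ n
  · have hcl := Cfsg.Agent.S0112.result n hn V (by rw [hV4]; norm_num) hC
    have hK := (Cfsg.Agent.S0115.result n hn3 hn).1 hcl
    have hab : Nat.card (Abelianization X) = 4 := hK.card_four
    have hexp : ∀ x : Abelianization X, x ^ 2 = 1 := by
      intro x
      have h1 := hK.exponent_two
      have h3 : (x : X ⧸ commutator X) ^ Monoid.exponent (X ⧸ commutator X) = 1 := Monoid.pow_exponent_eq_one x
      rw [h1] at h3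
      exact h3
    rcases Cfsg.Agent.S4399.result h2 hab hexp with h | ⟨k, hk⟩ | ⟨k, hk, a, b, ha, hb, hba⟩ | ⟨k, ⟨e⟩⟩
    · exact Or.inl (hfour h)
    · left
      refine ⟨2 ^ (k + 2), ?_, hk⟩
      calc 2 = 2 ^ 1 := by norm_num
        _ ≤ 2 ^ (k + 2) := Nat.pow_le_pow_right (by norm_num) (by omega)
    · right
      exact ⟨k + 3, by omega, hk, a, b, ha, hb, by rw [hba]; congr 1⟩
    · exfalso
      have h1 := Cfsg.Agent.S0218.result k
      -- two involutions in V
      have h3 : 1 < Nat.card {x : X // orderOf x = 2} := by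
        obtain ⟨⟨u, hu⟩, hu1⟩ := Subgroup.ne_bot_iff_exists_ne_one.1 (show V ≠ ⊥ by
          intro e; rw [e, Subgroup.card_bot] at hV4; omega)
        have hu1' : u ≠ 1 := fun e => hu1 (Subtype.ext e)
        have hex : ∃ w ∈ V, w ≠ 1 ∧ w ≠ u := by
          by_contra hcon
          push Not at hcon
          have hsub : (V : Set X) ⊆ ({1, u} : Set X) := by
            intro x hx
            by_cases hx1 : x = 1
            · exact Or.inl hx1
            · exact Or.inr (hcon x hx hx1)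
          have h5 := Set.ncard_le_ncard hsub (Set.toFinite _)
          have h6 : (V : Set X).ncard = 4 := hV4
          have h7 : ({1, u} : Set X).ncard ≤ 2 := Set.ncard_insert_le 1 {u} |>.trans (by rw [Set.ncard_singleton])
          omega
        obtain ⟨w, hw, hw1, hwu⟩ := hex
        rw [Finite.one_lt_card_iff_nontrivial]
        exact ⟨⟨u, orderOf_two hu1' (hV2 u hu)⟩, ⟨w, orderOf_two hw1 (hV2 w hw)⟩,
          fun e => hwu (congrArg Subtype.val e).symm⟩
      have h5 : Nat.card {x : X // orderOf x = 2} =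
          Nat.card {x : QuaternionGroup (2 ^ (k + 1)) // orderOf x = 2} := by
        apply Nat.card_congr
        exact e.toEquiv.subtypeEquiv (fun x => by
          show orderOf x = 2 ↔ orderOf (e x) = 2
          rw [MulEquiv.orderOf_eq])
      omega
  · left
    apply hfour
    have h1 : Nat.card V ∣ Nat.card X := Subgroup.card_subgroup_dvd_card V
    rw [hV4, hn] at h1
    have h3 : n = 2 := by
      have h4 := Nat.le_of_dvd (by positivity) h1
      have h5 : 2 ^ 2 ≤ 2 ^ n := by simpa using h4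
      have h6 := (Nat.pow_le_pow_iff_right (a := 2) (by norm_num)).1 h5
      omega
    rw [hn, h3]; norm_num

end H55.ZC
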