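import Cfsg.Agent.Lib.H55.ZC6
import Cfsg.Agent.S0518

set_option autoImplicit false
set_option linter.unusedSimpArgs false
set_option linter.unusedSectionVars false

/-! ZN-groups: from `H Z` to `H`. -/

namespace H55.ZC

open Subgroup H55.ZN

variable {G : Type*} [Group G] [Finite G]

theorem syl_inf_rel {Y T H : Subgroup G} (hT : Syl Y T) (hHY : H ≤ Y) (hH : H.Normal) : Syl H (T ⊓ H) := by
  refine ⟨inf_le_right, hT.2.1.to_le inf_le_left, fun R hR hle hRH => ?_⟩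
  obtain ⟨k, -, hk⟩ := hT.conj hR (hRH.trans hHY)
  have h1 : R ≤ cj k (T ⊓ H) := by
    rw [cj_inf]
    apply le_inf hk
    have : cj k H = H := cj_eq_iff.2 (by rw [normalizer_eq_top]; exact mem_top k)
    rw [this]; exact hRH
  have h2 : Nat.card R ≤ Nat.card (T ⊓ H : Subgroup G) := by
    rw [← card_cj k (T ⊓ H)]
    exact Nat.le_of_dvd Nat.card_pos (card_dvd_of_le h1)
  exact (Subgroup.eq_of_le_of_card_ge hle h2).ge

theorem se_transfer {Y H : Subgroup G} (hHY : H ≤ Y) (hH : H.Normal) (hev : 2 ∣ Nat.card H) {K : Subgroup Y}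
    (hK : Cfsg.IsStronglyEmbedded K) : ∃ K' : Subgroup H, Cfsg.IsStronglyEmbedded K' := by
  haveI : Fact (Nat.Prime 2) := ⟨Nat.prime_two⟩
  obtain ⟨hK1, hKe, hKo⟩ := hK
  set M := K.map Y.subtype with hM
  have hMY : M ≤ Y := map_subtype_le K
  have memM : ∀ y : Y, (y : G) ∈ M ↔ y ∈ K := fun y => by
    rw [hM, mem_map]
    constructor
    · rintro ⟨x, hx, hxy⟩
      rw [← show x = y from Subtype.ext hxy]; exact hx
    · intro hy; exact ⟨y, hy, rfl⟩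
  have hodd : ∀ x ∈ Y, x ∉ M → ∀ t : G, orderOf t = 2 → t ∈ M → x⁻¹ * t * x ∈ M → False := by
    intro x hx hxM t ht htM htx
    have h1 := hKo ⟨x, hx⟩ (fun h => hxM ((memM ⟨x, hx⟩).2 h))
    have htY := hMY htM
    have h2 : (⟨t, htY⟩ : Y) ∈ K ⊓ K.map (MulAut.conj (⟨x, hx⟩ : Y)).toMonoidHom := by
      refine ⟨(memM ⟨t, htY⟩).1 htM, ?_⟩
      have h3 : (⟨x, hx⟩ : Y)⁻¹ * ⟨t, htY⟩ * ⟨x, hx⟩ ∈ K := by
        rw [← memM]; exact htx
      refine ⟨_, h3, ?_⟩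
      show (⟨x, hx⟩ : Y) * ((⟨x, hx⟩ : Y)⁻¹ * ⟨t, htY⟩ * ⟨x, hx⟩) * (⟨x, hx⟩ : Y)⁻¹ = ⟨t, htY⟩
      group
    have h3 : orderOf (⟨⟨t, htY⟩, h2⟩ : ↥(K ⊓ K.map (MulAut.conj (⟨x, hx⟩ : Y)).toMonoidHom)) = 2 := by
      rw [Subgroup.orderOf_mk, Subgroup.orderOf_mk]; exact ht
    have h4 : 2 ∣ Nat.card ↥(K ⊓ K.map (MulAut.conj (⟨x, hx⟩ : Y)).toMonoidHom) := by
      rw [← h3]; exact orderOf_dvd_natCard _
    exact (Nat.not_even_iff_odd.2 h1) (even_iff_two_dvd.2 h4)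
  have hinv : ∀ X : Subgroup G, IsPGroup 2 X → X ≠ ⊥ → ∃ t ∈ X, orderOf t = 2 := by
    intro X hX hX0
    obtain ⟨t, ht, ht1⟩ := exists_central_inv hX hX0
    exact ⟨t, ht.1, orderOf_two ht1 ht.2.1⟩
  -- a Sylow subgroup of M
  obtain ⟨P, hP, -⟩ := Syl.exists (K := M) (R := ⊥) (IsPGroup.of_bot) bot_le
  have hP0 : P ≠ ⊥ := by
    intro e
    have hMe : 2 ∣ Nat.card M := by
      rw [hM, card_map_of_injective Y.subtype_injective]
      exact even_iff_two_dvd.1 hKe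
    obtain ⟨⟨t, ht⟩, ht2⟩ := exists_prime_orderOf_dvd_card' 2 hMe
    rw [Subgroup.orderOf_mk] at ht2
    have h3 := hP.2.2 (zpowers t) (isPGroup_inv (sq_of_order ht2).1) (by rw [e]; exact bot_le)
      (by rw [zpowers_le]; exact ht)
    have h4 := h3 (mem_zpowers t)
    rw [e, mem_bot] at h4
    exact (sq_of_order ht2).2 h4
  obtain ⟨P₁, hP₁, hle⟩ := Syl.exists hP.2.1 (hP.1.trans hMY)
  have hPP : P₁ ≤ P := by
    by_contra hcon
    obtain ⟨x, hxP₁, hxP, hxN⟩ := exists_normalizing hP₁.2.1 hle hcon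
    have hxM : x ∉ M := by
      intro hxM
      apply hxP
      have h3 := hP.2.2 (P ⊔ zpowers x) (hP₁.2.1.to_le (sup_le hle (by rw [zpowers_le]; exact hxP₁))) le_sup_left
        (sup_le hP.1 (by rw [zpowers_le]; exact hxM))
      exact h3 ((le_sup_right : zpowers x ≤ _) (mem_zpowers x))
    obtain ⟨t, ht, ht2⟩ := hinv P hP.2.1 hP0
    apply hodd x (hP₁.1 hxP₁) hxM t ht2 (hP.1 ht)
    apply hP.1
    have := conj_mem_of_norm (inv_mem hxN) ht
    rwa [inv_inv] at this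
  have hsyl : Syl Y P := by
    have : P₁ = P := le_antisymm hPP hle
    rw [← this]; exact hP₁
  have hR := syl_inf_rel hsyl hHY hH
  have hR0 : P ⊓ H ≠ ⊥ := by
    intro e
    rw [e] at hR
    obtain ⟨⟨t, ht⟩, ht2⟩ := exists_prime_orderOf_dvd_card' 2 hev
    rw [Subgroup.orderOf_mk] at ht2
    have h3 := hR.2.2 (zpowers t) (isPGroup_inv (sq_of_order ht2).1) bot_le (by rw [zpowers_le]; exact ht)
    have h4 := h3 (mem_zpowers t)
    rw [mem_bot] at h4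
    exact (sq_of_order ht2).2 h4
  apply exists_se hR (inf_le_left.trans hP.1) hR0
  · intro hHM
    apply hK1
    rw [eq_top_iff]
    intro y _
    by_contra hy
    obtain ⟨⟨t, ht⟩, ht2⟩ := exists_prime_orderOf_dvd_card' 2 hev
    rw [Subgroup.orderOf_mk] at ht2
    apply hodd y y.2 (fun h => hy ((memM y).1 h)) t ht2 (hHM ht)
    apply hHM
    have := hH.conj_mem t ht (y : G)⁻¹
    rwa [inv_inv] at this
  · intro X hX hX0 g hgH hg
    by_contra hgM
    obtain ⟨t, ht, ht2⟩ := hinv X (hR.2.1.to_le hX) hX0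
    apply hodd g (hHY hgH) hgM t ht2 (hP.1 (hX ht).1)
    apply hP.1
    have := conj_mem_of_norm (inv_mem hg) ht
    rw [inv_inv] at this
    exact (hX this).1

/-- a `Sylow 2 Y` for normal `Y` -/
theorem sylow_normal {Y T : Subgroup G} (hY : Y.Normal) (hT : Syl ⊤ T) (S' : Sylow 2 Y) :
    ∃ g : G, (S' : Subgroup Y).map Y.subtype = cj g T ⊓ Y := by
  have h1 := Syl.of_sylow S'
  obtain ⟨g, -, hg⟩ := hT.conj h1.2.1 le_top
  refine ⟨g, le_antisymm (le_inf hg h1.1) ?_⟩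
  exact h1.2.2 _ ((cj_isPGroup hT.2.1).to_le inf_le_left) (le_inf hg h1.1) inf_le_right

end H55.ZC
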