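import Cfsg.Agent.Lib.H55.ZC7

set_option autoImplicit false
set_option linter.unusedSimpArgs false
set_option linter.unusedSectionVars false

/-! ZN-groups: the structure theorem. -/

namespace H55.ZC

open Subgroup H55.ZN Cfsg

theorem four_of_s4 {X : Type*} [Group X] [Finite X] {M : Subgroup X} (hM : Cfsg.IsTwoLocal M)
    (e : M ≃* Equiv.Perm (Fin 4)) : ∃ U : Subgroup X, Nat.card U = 4 ∧ (∀ u ∈ U, u * u = 1) ∧
      ∀ x : X, (∀ u ∈ U, x * u = u * x) → x ∈ U := by
  obtain ⟨U, hU2, hU0, hMU⟩ := hM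
  have hUM : U ≤ M := by rw [hMU]; exact le_normalizer
  set U' := (U.subgroupOf M).map e.toMonoidHom with hU'
  have hn : (U.subgroupOf M).Normal := by
    apply Subgroup.normal_subgroupOf_of_le_normalizer
    rw [hMU]
  have hn' : U'.Normal := Subgroup.Normal.map hn _ e.surjective
  have h2' : IsPGroup 2 U' := (hU2.comap_subtype (K := M)).map _
  have h0' : U' ≠ ⊥ := by
    intro h
    rw [hU', Subgroup.map_eq_bot_iff_of_injective _ e.injective] at h
    apply hU0
    rw [eq_bot_iff_forall]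
    intro x hx
    have h1 : (⟨x, hUM hx⟩ : M) ∈ U.subgroupOf M := mem_subgroupOf.2 hx
    rw [h, mem_bot] at h1
    exact congrArg Subtype.val h1
  obtain ⟨h4, hsq, hcen⟩ := s4_normal hn' h2' h0'
  have hmem : ∀ u (hu : u ∈ U), e ⟨u, hUM hu⟩ ∈ U' := fun u hu => ⟨⟨u, hUM hu⟩, mem_subgroupOf.2 hu, rfl⟩
  refine ⟨U, ?_, ?_, ?_⟩
  · rw [← h4, hU', Subgroup.card_map_of_injective (f := e.toMonoidHom) e.injective]
    exact (H1.SZ.card_subgroupOf_of_le hUM).symm
  · intro u hu
    have h1 := hsq _ (hmem u hu)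
    rw [← map_mul] at h1
    have h2 := (MulEquiv.map_eq_one_iff e).1 h1
    exact congrArg Subtype.val h2
  · intro x hx
    have hxM : x ∈ M := by
      rw [hMU]
      apply mem_normalizer_of_le
      intro u hu
      rw [hx u hu, mul_inv_cancel_right]; exact hu
    have h1 : e ⟨x, hxM⟩ ∈ U' := by
      apply hcen
      rintro _ ⟨⟨u, huM⟩, hu, rfl⟩
      have hu' : u ∈ U := mem_subgroupOf.1 hu
      show e ⟨x, hxM⟩ * e ⟨u, huM⟩ = e ⟨u, huM⟩ * e ⟨x, hxM⟩
      rw [← map_mul, ← map_mul]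
      congr 1
      exact Subtype.ext (hx u hu')
    obtain ⟨⟨y, hyM⟩, hy, hyx⟩ := h1
    have h2 := e.injective hyx
    have h3 : y = x := congrArg Subtype.val h2
    rw [← h3]; exact mem_subgroupOf.1 hy

variable {G : Type*} [Group G] [Finite G] {T H : Subgroup G}

theorem dq_of (hT : Syl H T) {U : Subgroup G} (hUH : U ≤ H) (h4 : Nat.card U = 4) (hsq : ∀ u ∈ U, u * u = 1)
    (hcen : ∀ x ∈ H, (∀ u ∈ U, x * u = u * x) → x ∈ U) :
    (∃ n : ℕ, 2 ≤ n ∧ Nonempty (T ≃* DihedralGroup n)) ∨ Cfsg.IsQuasiDihedral T := by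
  have hE : Ex2 U := hsq
  obtain ⟨k, hk, hle⟩ := hT.conj hE.isPGroup hUH
  have hV : cj k⁻¹ U ≤ T := by rw [← le_cj_iff]; exact hle
  apply dq hT.2.1 (V := (cj k⁻¹ U).subgroupOf T)
  · rw [H1.SZ.card_subgroupOf_of_le hV, card_cj]; exact h4
  · intro v hv
    have h1 := (hE.cj k⁻¹) v (mem_subgroupOf.1 hv)
    exact Subtype.ext h1
  · intro x hx
    rw [mem_subgroupOf, mem_cj, inv_inv]
    apply hcen
    · exact mul_mem (mul_mem hk (hT.1 x.2)) (inv_mem hk)
    · intro u hu
      have h1 : k⁻¹ * u * k ∈ cj k⁻¹ U := by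
        have := conj_mem_cj (g := k⁻¹) hu
        rwa [inv_inv] at this
      have h2 := congrArg Subtype.val (hx ⟨_, hV h1⟩ (mem_subgroupOf.2 h1))
      have h3 : (x : G) * (k⁻¹ * u * k) = (k⁻¹ * u * k) * x := h2
      calc k * x * k⁻¹ * u = k * (x * (k⁻¹ * u * k)) * k⁻¹ := by group
        _ = k * ((k⁻¹ * u * k) * x) * k⁻¹ := by rw [h3]
        _ = u * (k * x * k⁻¹) := by group

theorem residual_map {Y : Subgroup G} (hY : Cfsg.pResidual 2 G ≤ Y) {H₀ : Subgroup Y}
    (hH₀ : H₀ = closure {g : Y | Odd (orderOf g)}) : H₀.map Y.subtype = Cfsg.pResidual 2 G := by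
  rw [hH₀, MonoidHom.map_closure, Cfsg.pResidual]
  congr 1
  ext g
  constructor
  · rintro ⟨y, hy, rfl⟩
    have hy' : Odd (orderOf y) := hy
    show Nat.Coprime (orderOf (y : G)) 2
    rw [orderOf_coe]
    exact (Nat.coprime_two_right).2 hy'
  · intro hg
    have hg' : Nat.Coprime (orderOf g) 2 := hg
    have hgY : g ∈ Y := hY (Subgroup.subset_closure hg)
    refine ⟨⟨g, hgY⟩, ?_, rfl⟩
    show Odd (orderOf (⟨g, hgY⟩ : Y))
    rw [Subgroup.orderOf_mk]
    exact (Nat.coprime_two_right).1 hg'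

theorem Bas.mainN (b : Bas T H) (hN : ∀ L : Subgroup G, Cfsg.IsTwoLocal L → Group.IsSolvable L)
    (hZ : ∀ g : G, centralizer ((om (cj g T) : Subgroup G) : Set G) ≤ normalizer ((cj g T : Subgroup G) : Set G)) :
    (∃ M : Subgroup H, Cfsg.IsStronglyEmbedded M) ∨
      ((∃ n : ℕ, 2 ≤ n ∧ Nonempty (↥(T ⊓ H) ≃* DihedralGroup n)) ∨ Cfsg.IsQuasiDihedral ↥(T ⊓ H)) ∨
      (Nat.card ↥(om T ⊓ H) = 2 ∧ ∀ h ∈ H, ∀ z ∈ om T ⊓ H, h * z * h⁻¹ ∈ T → h * z * h⁻¹ ∈ om T) ∨
      (Nat.card ↥(om T) = 4 ∧ omegaOne 2 (T ⊓ H) = om T) := by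
  haveI : Fact (Nat.Prime 2) := ⟨Nat.prime_two⟩
  have hC : HC G := by
    intro t ht
    haveI := hN (normalizer ((zpowers t : Subgroup G) : Set G)) ⟨zpowers t, isPGroup_inv (sq_of_order ht).1,
      fun e => (sq_of_order ht).2 (zpowers_eq_bot.1 e), rfl⟩
    have h1 : centralizer ({t} : Set G) ≤ normalizer ((zpowers t : Subgroup G) : Set G) := by
      rw [← H55.CoreGen.centralizer_zpowers]
      exact centralizer_le_normalizer _
    exact solvable_of_solvable_injective (Subgroup.inclusion_injective h1)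
  have hZ1 : centralizer ((om T : Subgroup G) : Set G) ≤ normalizer (T : Set G) := by
    have := hZ 1
    rwa [cj_one] at this
  rcases b.main hC hZ1 with h | h | h | h
  · exact Or.inl h
  · exact Or.inr (Or.inr (Or.inl h))
  · exact Or.inr (Or.inr (Or.inr h))
  · set Y := H ⊔ om T with hYdef
    have hYn : Y.Normal := b.nor_sup
    haveI := hYn
    have hHY : H ≤ Y := le_sup_left
    have hO : Cfsg.pCore 2 Y = ⊥ := by
      have h1 := H13.Cores.map_pCore_le_of_normal (p := 2) Y
      rw [b.hO, le_bot_iff, map_eq_bot_iff_of_injective _ Y.subtype_injective] at h1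
      exact h1
    have hNY : ∀ N : Subgroup Y, Cfsg.IsTwoLocal N → Group.IsSolvable N := by
      rintro N ⟨U, hU2, hU0, rfl⟩
      haveI := hN (normalizer ((U.map Y.subtype : Subgroup G) : Set G)) ⟨U.map Y.subtype, hU2.map _,
        fun e => hU0 ((map_eq_bot_iff_of_injective _ Y.subtype_injective).1 e), rfl⟩
      let f : ↥(normalizer (U : Set Y)) →* ↥(normalizer ((U.map Y.subtype : Subgroup G) : Set G)) :=
        { toFun := fun x => ⟨((x : Y) : G), by
            apply mem_normalizer_of_le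
            rintro _ ⟨u, hu, rfl⟩
            exact ⟨x * u * (x : Y)⁻¹, (mem_normalizer_iff.1 x.2 u).1 hu, rfl⟩⟩
          map_one' := rfl
          map_mul' := fun _ _ => rfl }
      apply solvable_of_solvable_injective (f := f)
      intro x y hxy
      apply Subtype.ext; apply Subtype.ext
      exact congrArg (fun z : ↥(normalizer ((U.map Y.subtype : Subgroup G) : Set G)) => (z : G)) hxy
    have hZY : ∀ S' : Sylow 2 Y, centralizer {z : Y | z ∈ (S' : Subgroup Y) ∧ z ^ 2 = 1 ∧
        ∀ s ∈ (S' : Subgroup Y), s * z = z * s} ≤ normalizer ((S' : Subgroup Y) : Set Y) := by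
      intro S' x hx
      obtain ⟨g, hg⟩ := sylow_normal hYn b.hT S'
      have memS : ∀ y : Y, (y : G) ∈ cj g T → y ∈ (S' : Subgroup Y) := by
        intro y hy
        have h1 : (y : G) ∈ (S' : Subgroup Y).map Y.subtype := by rw [hg]; exact ⟨hy, y.2⟩
        obtain ⟨w, hw, hwy⟩ := h1
        rw [← show w = y from Subtype.ext hwy]; exact hw
      have memT : ∀ y ∈ (S' : Subgroup Y), (y : G) ∈ cj g T := by
        intro y hy
        have h1 : (y : G) ∈ (S' : Subgroup Y).map Y.subtype := ⟨y, hy, rfl⟩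
        rw [hg] at h1
        exact h1.1
      have hxT : (x : G) ∈ normalizer ((cj g T : Subgroup G) : Set G) := by
        apply hZ g
        rw [mem_centralizer_iff]
        intro z hz
        have hzY : z ∈ Y := by
          have h1 : z ∈ cj g (om T) := by rw [← om_cj]; exact hz
          have h2 : cj g (om T) ≤ cj g Y := cj_mono le_sup_right
          have h3 : cj g Y = Y := cj_eq_iff.2 (by rw [normalizer_eq_top]; exact mem_top g)
          rw [h3] at h2
          exact h2 h1
        have h1 := mem_centralizer_iff.1 hx ⟨z, hzY⟩ ⟨memS _ hz.1, ?_, ?_⟩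
        · exact congrArg Subtype.val h1
        · apply Subtype.ext
          show z ^ 2 = 1
          rw [pow_two]; exact hz.2.1
        · intro s hs
          exact Subtype.ext (hz.2.2 s (memT s hs))
      apply mem_normalizer_of_le
      intro s hs
      apply memS
      exact conj_mem_of_norm hxT (memT s hs)
    obtain ⟨H₀, hH₀⟩ : ∃ H₀ : Subgroup Y, H₀ = closure {g : Y | Odd (orderOf g)} := ⟨_, rfl⟩
    rcases Cfsg.Agent.S0518.result h hO hNY hZY H₀ hH₀ with
      ⟨K, hK⟩ | ⟨M₁, -, -, hM₁, -, ⟨e⟩, -, -⟩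
    · left
      apply se_transfer hHY b.nor _ hK
      have := b.even (le_refl H)
      exact even_iff_two_dvd.1 this
    · right; left
      obtain ⟨U, h4, hsq, hcen⟩ := four_of_s4 hM₁.1 e
      have hres : H₀.map Y.subtype = H := by
        rw [b.hH]; apply residual_map _ hH₀
        rw [← b.hH]; exact hHY
      have hmem : ∀ x ∈ H, ∃ y : H₀, ((y : Y) : G) = x := by
        intro x hx
        rw [← hres] at hx
        obtain ⟨y, hy, rfl⟩ := hx
        exact ⟨⟨y, hy⟩, rfl⟩
      apply dq_of (syl_inf_normal b.hT b.nor) (U := (U.map H₀.subtype).map Y.subtype)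
      · rw [← hres]
        exact map_mono (map_subtype_le U)
      · rw [card_map_of_injective Y.subtype_injective, card_map_of_injective H₀.subtype_injective]
        exact h4
      · rintro _ ⟨_, ⟨u, hu, rfl⟩, rfl⟩
        have := hsq u hu
        exact congrArg (fun y : H₀ => ((y : Y) : G)) this
      · intro x hx hc
        obtain ⟨y, rfl⟩ := hmem x hx
        refine ⟨y, ⟨y, ?_, rfl⟩, rfl⟩
        apply hcen
        intro u hu
        have := hc _ ⟨_, ⟨u, hu, rfl⟩, rfl⟩
        exact Subtype.ext (Subtype.ext this)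

end H55.ZC
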