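import Cfsg.Agent.Lib.H55.FFOff
import Cfsg.Agent.Lib.H1.Cores

set_option autoImplicit false
set_option linter.unusedSimpArgs false

/-! Basics: conjugation of subgroups, Sylow 2-subgroups of subgroups, elementary Thompson subgroup. -/

namespace H55.ZN

open Subgroup
open scoped Pointwise

variable {G : Type*} [Group G]

/-- conjugation of subgroups -/
def cj (g : G) : Subgroup G ≃o Subgroup G := (MulAut.conj g).mapSubgroup

theorem mem_cj {g x : G} {H : Subgroup G} : x ∈ cj g H ↔ g⁻¹ * x * g ∈ H := by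
  constructor
  · rintro ⟨y, hy, hyx⟩
    have h1 : g * y * g⁻¹ = x := by rw [← hyx]; rfl
    have : g⁻¹ * x * g = y := by rw [← h1]; group
    rw [this]; exact hy
  · intro h
    refine ⟨g⁻¹ * x * g, h, ?_⟩
    change g * (g⁻¹ * x * g) * g⁻¹ = x
    group

theorem conj_mem_cj {g x : G} {H : Subgroup G} (hx : x ∈ H) : g * x * g⁻¹ ∈ cj g H := by
  rw [mem_cj]
  have : g⁻¹ * (g * x * g⁻¹) * g = x := by group
  rw [this]; exact hx

theorem cj_mul (g h : G) (H : Subgroup G) : cj (g * h) H = cj g (cj h H) := by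
  ext x
  simp only [mem_cj]
  have : (g * h)⁻¹ * x * (g * h) = h⁻¹ * (g⁻¹ * x * g) * h := by group
  rw [this]

theorem cj_one (H : Subgroup G) : cj 1 H = H := by
  ext x; simp [mem_cj]

theorem cj_inv_cj (g : G) (H : Subgroup G) : cj g⁻¹ (cj g H) = H := by
  rw [← cj_mul, inv_mul_cancel, cj_one]

theorem cj_cj_inv (g : G) (H : Subgroup G) : cj g (cj g⁻¹ H) = H := by
  rw [← cj_mul, mul_inv_cancel, cj_one]

theorem card_cj (g : G) (H : Subgroup G) : Nat.card (cj g H) = Nat.card H :=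
  Nat.card_congr (H.equivMapOfInjective _ (MulAut.conj g).injective).toEquiv.symm

theorem cj_mono {g : G} {H K : Subgroup G} (h : H ≤ K) : cj g H ≤ cj g K := (cj g).monotone h

theorem cj_eq_iff {g : G} {H : Subgroup G} : cj g H = H ↔ g ∈ normalizer (H : Set G) := by
  rw [mem_normalizer_iff]
  constructor
  · intro h x
    constructor
    · intro hx
      rw [← h]; exact conj_mem_cj hx
    · intro hx
      rw [← h, mem_cj] at hx
      have : g⁻¹ * (g * x * g⁻¹) * g = x := by group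
      rwa [this] at hx
  · intro h
    ext x
    rw [mem_cj, h (g⁻¹ * x * g)]
    have : g * (g⁻¹ * x * g) * g⁻¹ = x := by group
    rw [this]

theorem mem_normalizer_of_le [Finite G] {g : G} {H : Subgroup G} (h : ∀ x ∈ H, g * x * g⁻¹ ∈ H) :
    g ∈ normalizer (H : Set G) := by
  rw [← cj_eq_iff]
  symm
  apply Subgroup.eq_of_le_of_card_ge
  · intro x hx
    have hle : cj g H ≤ H := by
      intro y hy
      rw [mem_cj] at hy
      have := h _ hy
      have e : g * (g⁻¹ * y * g) * g⁻¹ = y := by group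
      rwa [e] at this
    have := Subgroup.eq_of_le_of_card_ge hle (card_cj g H).ge
    rw [this]; exact hx
  · exact (card_cj g H).le

theorem conj_mem_of_norm {g x : G} {H : Subgroup G} (h : g ∈ normalizer (H : Set G)) (hx : x ∈ H) :
    g * x * g⁻¹ ∈ H := (mem_normalizer_iff.1 h x).1 hx

theorem cj_isPGroup {g : G} {H : Subgroup G} {p : ℕ} (h : IsPGroup p H) : IsPGroup p (cj g H) :=
  h.map _

theorem cj_normalizer {g : G} {H : Subgroup G} : cj g (normalizer (H : Set G)) = normalizer ((cj g H : Subgroup G) : Set G) := by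
  ext x
  rw [mem_cj, ← cj_eq_iff, ← cj_eq_iff, ← cj_mul, cj_mul, cj_mul]
  constructor
  · intro h
    have := congrArg (cj g) h
    rwa [cj_cj_inv, ← cj_mul] at this
  · intro h
    rw [← cj_mul x g] at *
    have := congrArg (cj g⁻¹) h
    rwa [cj_inv_cj] at this

theorem cj_centralizer {g : G} {H : Subgroup G} : cj g (centralizer (H : Set G)) = centralizer ((cj g H : Subgroup G) : Set G) := by
  ext x
  rw [mem_cj, mem_centralizer_iff, mem_centralizer_iff]
  constructor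
  · intro h y hy
    have h1 := h _ (mem_cj.1 hy)
    calc y * x = g * ((g⁻¹ * y * g) * (g⁻¹ * x * g)) * g⁻¹ := by group
      _ = g * ((g⁻¹ * x * g) * (g⁻¹ * y * g)) * g⁻¹ := by rw [h1]
      _ = x * y := by group
  · intro h y hy
    have h1 := h _ (conj_mem_cj hy)
    calc y * (g⁻¹ * x * g) = g⁻¹ * ((g * y * g⁻¹) * x) * g := by group
      _ = g⁻¹ * (x * (g * y * g⁻¹)) * g := by rw [h1]
      _ = g⁻¹ * x * g * y := by group

theorem cj_inf {g : G} {H K : Subgroup G} : cj g (H ⊓ K) = cj g H ⊓ cj g K := (cj g).map_inf _ _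
theorem cj_sup {g : G} {H K : Subgroup G} : cj g (H ⊔ K) = cj g H ⊔ cj g K := (cj g).map_sup _ _

/-! ### Sylow 2-subgroups of subgroups -/

/-- `P` is a Sylow 2-subgroup of the subgroup `K` -/
def Syl (K P : Subgroup G) : Prop :=
  P ≤ K ∧ IsPGroup 2 P ∧ ∀ R : Subgroup G, IsPGroup 2 R → P ≤ R → R ≤ K → R ≤ P

theorem Syl.exists [Finite G] {K R : Subgroup G} (hR : IsPGroup 2 R) (hRK : R ≤ K) : ∃ P, Syl K P ∧ R ≤ P := by
  obtain ⟨P, hRP, ⟨hPK, hP⟩, hmax⟩ := (Set.toFinite {P : Subgroup G | P ≤ K ∧ IsPGroup 2 P}).exists_le_maximal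
    (a := R) ⟨hRK, hR⟩
  exact ⟨P, ⟨hPK, hP, fun R' hR' hPR' hR'K => hmax ⟨hR'K, hR'⟩ hPR'⟩, hRP⟩

/-- the associated Sylow subgroup -/
def Syl.sylow {K P : Subgroup G} (h : Syl K P) : Sylow 2 K where
  toSubgroup := P.subgroupOf K
  isPGroup' := h.2.1.comap_subtype
  is_maximal' := by
    intro Q hQ hle
    apply le_antisymm ?_ hle
    intro x hx
    have h1 : Q.map K.subtype ≤ P := by
      apply h.2.2 _ (hQ.map _)
      · intro y hy
        exact ⟨⟨y, h.1 hy⟩, hle hy, rfl⟩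
      · rintro y ⟨z, -, rfl⟩
        exact z.2
    exact h1 ⟨x, hx, rfl⟩

theorem Syl.of_sylow {K : Subgroup G} (P : Sylow 2 K) : Syl K ((P : Subgroup K).map K.subtype) := by
  refine ⟨?_, P.isPGroup'.map _, ?_⟩
  · rintro y ⟨z, -, rfl⟩
    exact z.2
  · intro R hR hPR hRK x hx
    have h1 : R.subgroupOf K = P := by
      apply P.is_maximal' hR.comap_subtype
      intro y hy
      exact hPR ⟨y, hy, rfl⟩
    have h2 : (⟨x, hRK hx⟩ : K) ∈ R.subgroupOf K := hx
    rw [h1] at h2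
    exact ⟨_, h2, rfl⟩

theorem Syl.conj [Finite G] {K P R : Subgroup G} (h : Syl K P) (hR : IsPGroup 2 R) (hRK : R ≤ K) :
    ∃ k ∈ K, R ≤ cj k P := by
  haveI : Fact (Nat.Prime 2) := ⟨Nat.prime_two⟩
  obtain ⟨Q, hQ⟩ := (hR.comap_subtype (K := K)).exists_le_sylow
  obtain ⟨k, hk⟩ := MulAction.exists_smul_eq K h.sylow Q
  refine ⟨k.1, k.2, fun x hx => ?_⟩
  have h1 : (⟨x, hRK hx⟩ : K) ∈ (Q : Subgroup K) := hQ hx
  rw [← hk] at h1
  rw [mem_cj]
  have h3 : (⟨x, hRK hx⟩ : K) ∈ MulAut.conj k • (h.sylow : Subgroup K) := h1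
  rw [Subgroup.mem_pointwise_smul_iff_inv_smul_mem] at h3
  have h4 : (((MulAut.conj k)⁻¹ • (⟨x, hRK hx⟩ : K) : K) : G) ∈ P := h3
  have h5 : (((MulAut.conj k)⁻¹ • (⟨x, hRK hx⟩ : K) : K) : G) = k.1⁻¹ * x * k.1 := by
    simp [MulAut.smul_def, MulAut.conj_inv_apply]
  rwa [h5] at h4

theorem Syl.cj {K P : Subgroup G} (h : Syl K P) (g : G) : Syl (cj g K) (ZN.cj g P) := by
  refine ⟨cj_mono h.1, cj_isPGroup h.2.1, ?_⟩
  intro R hR hPR hRK
  have h1 := h.2.2 (ZN.cj g⁻¹ R) (cj_isPGroup hR) (by rw [← cj_inv_cj g P]; exact cj_mono hPR)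
    (by rw [← cj_inv_cj g K]; exact cj_mono hRK)
  rw [← cj_cj_inv g R]; exact cj_mono h1

theorem Syl.card_le [Finite G] {K P R : Subgroup G} (h : Syl K P) (hR : IsPGroup 2 R) (hRK : R ≤ K) :
    Nat.card R ≤ Nat.card P := by
  obtain ⟨k, -, hk⟩ := h.conj hR hRK
  rw [← card_cj k P]
  exact Nat.le_of_dvd Nat.card_pos (Subgroup.card_dvd_of_le hk)

/-- normalizers grow -/
theorem exists_normalizing [Finite G] {P R : Subgroup G} (hR : IsPGroup 2 R) (hPR : P ≤ R) (hne : ¬ R ≤ P) :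
    ∃ x ∈ R, x ∉ P ∧ x ∈ normalizer (P : Set G) := by
  haveI : Fact (Nat.Prime 2) := ⟨Nat.prime_two⟩
  have hnil : Group.IsNilpotent R := hR.isNilpotent
  have hlt : P.subgroupOf R < ⊤ := by
    rw [lt_top_iff_ne_top]
    intro h
    exact hne (Subgroup.subgroupOf_eq_top.1 h)
  have h1 := Group.normalizerCondition_of_isNilpotent (P.subgroupOf R) hlt
  obtain ⟨x, hx, hxn⟩ := SetLike.exists_of_lt h1
  refine ⟨x.1, x.2, hxn, ?_⟩
  apply mem_normalizer_of_le
  intro y hy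
  have h2 := (mem_normalizer_iff.1 hx ⟨y, hPR hy⟩).1 hy
  exact h2

/-- product of a 2-subgroup with a normalizing 2-subgroup -/
theorem isPGroup_sup {P Q : Subgroup G} (hP : IsPGroup 2 P) (hQ : IsPGroup 2 Q) (h : P ≤ normalizer (Q : Set G)) :
    IsPGroup 2 (P ⊔ Q : Subgroup G) := hP.to_sup_of_normal_right' hQ h

theorem Syl.normal_le [Finite G] {K P N : Subgroup G} (h : Syl K P) (hN : IsPGroup 2 N) (hNK : N ≤ K)
    (hn : K ≤ normalizer (N : Set G)) : N ≤ P := by
  have := h.2.2 (P ⊔ N) (isPGroup_sup h.2.1 hN (h.1.trans hn)) le_sup_left (sup_le h.1 hNK)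
  exact le_sup_right.trans this

end H55.ZN
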