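import Mathlib
import Cfsg.Prelude.Def_IsolatedElements
import Cfsg.Agent.Lib.H55.Isolated
import Cfsg.Agent.Lib.H55.SylowBasic
import Cfsg.Agent.Lib.H1.Cores

/-!
Minimal counterexamples to the `Z*_p` statement.
-/

set_option autoImplicit false

namespace H55.ZStarMin

open Subgroup Cfsg

variable {G : Type*} [Group G]

/-- an isolated element is central when all its conjugates lie in ... (trivial commutators) -/
theorem inZStar_of_central {p : ℕ} {x : G} (h : ∀ g : G, g * x * g⁻¹ = x) : InZStar p x := by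
  intro g
  rw [h g, mul_inv_cancel]
  exact Subgroup.one_mem _

theorem core_eq_bot [Finite G] {p : ℕ} (x : G) (hnz : ¬ InZStar p x)
    (hquot : ∀ (N : Subgroup G) [N.Normal], N ≠ ⊥ → InZStar p (QuotientGroup.mk x : G ⧸ N)) :
    pPrimeCore p G = ⊥ := by
  by_contra hne
  apply hnz
  intro g
  have h1 := hquot (pPrimeCore p G) hne (QuotientGroup.mk g)
  rw [H1.Cores.pPrimeCore_quotient_pPrimeCore, Subgroup.mem_bot] at h1
  rw [← QuotientGroup.eq_one_iff]
  simpa using h1

/-- if the `p'`-core of `G` is trivial, every subgroup of order prime to `p` normalized by `G` is trivial;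
for `N ⊴ G` and a `p'`-subgroup `K ≤ N` normalized by `N`, `K = 1`. -/
theorem eq_bot_of_normal [Finite G] {p : ℕ} (hcore : pPrimeCore p G = ⊥) (N : Subgroup G) [N.Normal]
    (K : Subgroup G) (hKN : K ≤ N) (hn : N ≤ normalizer (K : Set G)) (hK : (Nat.card K).Coprime p) :
    K = ⊥ := by
  have h1 : (K.subgroupOf N).Normal := (Subgroup.normal_subgroupOf_iff_le_normalizer hKN).mpr hn
  have h2 : K.subgroupOf N ≤ pPrimeCore p N := by
    apply H1.Cores.le_pPrimeCore h1
    rwa [Nat.card_congr (Subgroup.subgroupOfEquivOfLe hKN).toEquiv]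
  have h3 := Subgroup.map_mono (f := N.subtype) h2
  rw [Subgroup.subgroupOf_map_subtype, inf_eq_left.mpr hKN] at h3
  have h4 : (pPrimeCore p N).map N.subtype ≤ pPrimeCore p G := by
    rw [H1.Cores.map_subtype_pPrimeCore]
    exact inf_le_right
  rw [hcore] at h4
  exact le_bot_iff.mp (h3.trans h4)

/-- `x` commutes with every normal subgroup `N` such that `x ∈ Z*` of some overgroup `H`. -/
theorem commute_of_inZStar [Finite G] {p : ℕ} (hcore : pPrimeCore p G = ⊥) (x : G) (H N : Subgroup G)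
    [N.Normal] (hNH : N ≤ H) (hxH : x ∈ H) (hz : InZStar p (⟨x, hxH⟩ : H)) (n : G) (hn : n ∈ N) :
    n * x * n⁻¹ = x := by
  set K : Subgroup G := (pPrimeCore p H).map H.subtype ⊓ N with hK
  have hKc : (Nat.card K).Coprime p := by
    have h1 : Nat.card ((pPrimeCore p H).map H.subtype) = Nat.card (pPrimeCore p H) :=
      Subgroup.card_map_of_injective (Subgroup.subtype_injective _)
    have h2 := H1.Cores.coprime_card_pPrimeCore (G := H) p
    rw [← h1] at h2
    exact h2.coprime_dvd_left (Subgroup.card_dvd_of_le inf_le_left)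
  have hKn : N ≤ normalizer (K : Set G) := by
    intro m hm
    apply H55.SylowBasic.mem_normalizer_of_forall
    rintro _ ⟨⟨y, hy, rfl⟩, hyN⟩
    refine Subgroup.mem_inf.mpr ⟨⟨⟨m, hNH hm⟩ * y * ⟨m, hNH hm⟩⁻¹, ?_, rfl⟩, ?_⟩
    · exact (inferInstance : (pPrimeCore p H).Normal).conj_mem y hy _
    · exact N.mul_mem (N.mul_mem hm hyN) (N.inv_mem hm)
  have hKbot := eq_bot_of_normal hcore N K inf_le_right hKn hKc
  have h1 := hz ⟨n, hNH hn⟩
  have h2 : n * x * n⁻¹ * x⁻¹ ∈ K := by
    refine Subgroup.mem_inf.mpr ⟨⟨_, h1, rfl⟩, ?_⟩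
    have h3 : x * n⁻¹ * x⁻¹ ∈ N := (inferInstance : N.Normal).conj_mem _ (N.inv_mem hn) x
    have := N.mul_mem hn h3
    simpa [mul_assoc] using this
  rw [hKbot, Subgroup.mem_bot, mul_inv_eq_one] at h2
  exact h2

/-- In a minimal counterexample every nontrivial normal subgroup covers `G/⟨x⟩`. -/
theorem sup_zpowers_eq_top [Finite G] {p : ℕ} [hpf : Fact p.Prime] (x : G)
    (hiso : IsIsolated x) (hnz : ¬ InZStar p x)
    (hmin : ∀ (H : Subgroup G) (hxH : x ∈ H), H ≠ ⊤ → InZStar p (⟨x, hxH⟩ : ↥H))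
    (hquot : ∀ (N : Subgroup G) [N.Normal], N ≠ ⊥ → InZStar p (QuotientGroup.mk x : G ⧸ N))
    (N : Subgroup G) [hN : N.Normal] (hN1 : N ≠ ⊥) : N ⊔ zpowers x = ⊤ := by
  have hcore := core_eq_bot x hnz hquot
  by_contra hne
  have hxNx : x ∈ N ⊔ zpowers x := Subgroup.mem_sup_right (Subgroup.mem_zpowers x)
  have h1 := commute_of_inZStar hcore x (N ⊔ zpowers x) N le_sup_left hxNx (hmin _ hxNx hne)
  have hcomm : ∀ n ∈ N, n * x = x * n := fun n hn => by
    have := h1 n hn
    rwa [mul_inv_eq_iff_eq_mul] at this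
  have hxC : x ∈ centralizer (N : Set G) := by
    rw [Subgroup.mem_centralizer_iff]
    exact hcomm
  by_cases hC : centralizer (N : Set G) = ⊤
  · -- `N` is central
    have hcen : ∀ n ∈ N, ∀ g : G, n * g = g * n := by
      intro n hn g
      have : g ∈ centralizer (N : Set G) := by rw [hC]; trivial
      exact Subgroup.mem_centralizer_iff.mp this n hn
    obtain ⟨q, hq, hqd⟩ := Nat.exists_prime_and_dvd
      (show Nat.card N ≠ 1 by rwa [Ne, Subgroup.card_eq_one])
    have : Fact q.Prime := ⟨hq⟩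
    obtain ⟨z, hz⟩ := exists_prime_orderOf_dvd_card' (G := N) q hqd
    have hzo : orderOf (z : G) = q := by rw [← hz]; exact Subgroup.orderOf_coe z
    have hZn : (zpowers (z : G)).Normal := by
      refine ⟨fun y hy g => ?_⟩
      have hyN : y ∈ N := (Subgroup.zpowers_le.mpr z.2) hy
      rw [← hcen y hyN g, mul_inv_cancel_right]
      exact hy
    set Z := zpowers (z : G) with hZ
    have hZ1 : Z ≠ ⊥ := by
      rw [hZ, Ne, Subgroup.zpowers_eq_bot]
      intro h
      rw [h, orderOf_one] at hzo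
      exact hq.one_lt.ne hzo
    have hqp : q = p := by
      by_contra hqp
      apply hZ1
      rw [eq_bot_iff, ← hcore]
      apply H1.Cores.le_pPrimeCore hZn
      rw [hZ, Nat.card_zpowers, hzo]
      exact (Nat.coprime_primes hq hpf.out).mpr hqp
    subst hqp
    have hZc : Nat.card Z = q := by rw [hZ, Nat.card_zpowers, hzo]
    set M := (pPrimeCore q (G ⧸ Z)).comap (QuotientGroup.mk' Z) with hM
    have hMc := H1.Cores.card_comap_mk' Z (pPrimeCore q (G ⧸ Z))
    rw [← hM, hZc] at hMc
    have hZM : Z ≤ M := by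
      intro y hy
      rw [hM, Subgroup.mem_comap, QuotientGroup.mk'_apply, (QuotientGroup.eq_one_iff y).mpr hy]
      exact Subgroup.one_mem _
    have hind : (Z.subgroupOf M).index = Nat.card (pPrimeCore q (G ⧸ Z)) := by
      have h2 := Subgroup.card_mul_index (Z.subgroupOf M)
      rw [Nat.card_congr (Subgroup.subgroupOfEquivOfLe hZM).toEquiv, hZc, hMc] at h2
      exact Nat.eq_of_mul_eq_mul_left hq.pos h2
    have hcop : (Nat.card (Z.subgroupOf M)).Coprime (Z.subgroupOf M).index := by
      rw [hind, Nat.card_congr (Subgroup.subgroupOfEquivOfLe hZM).toEquiv, hZc]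
      exact (H1.Cores.coprime_card_pPrimeCore q).symm
    obtain ⟨L, hL⟩ := Subgroup.exists_right_complement'_of_coprime hcop
    have hLc : Nat.card L = (Z.subgroupOf M).index := hL.symm.index_eq_card.symm
    have hLM : L.map M.subtype ≤ M := by rintro _ ⟨y, _, rfl⟩; exact y.2
    have hLbot : L.map M.subtype = ⊥ := by
      apply eq_bot_of_normal hcore M _ hLM
      · intro m hm
        apply H55.SylowBasic.mem_normalizer_of_forall
        rintro _ ⟨y, hy, rfl⟩
        have h3 : (⟨m, hm⟩ : M) ∈ Z.subgroupOf M ⊔ L := by rw [hL.sup_eq_top]; trivial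
        obtain ⟨a, ha, b, hb, hab⟩ := Subgroup.mem_sup_of_normal_left.mp h3
        refine ⟨b * y * b⁻¹, L.mul_mem (L.mul_mem hb hy) (L.inv_mem hb), ?_⟩
        have h4 : m = (a : G) * b := by rw [← Subgroup.coe_mul, hab]
        have haN : (a : G) ∈ N := (Subgroup.zpowers_le.mpr z.2 : Z ≤ N) ha
        have h5 := hcen _ haN ((b : G) * y * (b : G)⁻¹)
        calc M.subtype (b * y * b⁻¹) = (b : G) * y * (b : G)⁻¹ := by simp
          _ = ((b : G) * y * (b : G)⁻¹) * a * (a : G)⁻¹ := by group
          _ = (a : G) * ((b : G) * y * (b : G)⁻¹) * (a : G)⁻¹ := by rw [h5]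
          _ = m * M.subtype y * m⁻¹ := by rw [h4]; simp [mul_assoc]
      · rw [Subgroup.card_map_of_injective (Subgroup.subtype_injective _), hLc, hind]
        exact H1.Cores.coprime_card_pPrimeCore q
    have hMZ : M ≤ Z := by
      rw [← Subgroup.subgroupOf_eq_top, ← Subgroup.index_eq_one, ← hLc]
      rw [Subgroup.map_eq_bot_iff_of_injective _ (Subgroup.subtype_injective _)] at hLbot
      rw [hLbot, Subgroup.card_bot]
    apply hnz
    apply inZStar_of_central
    intro g
    apply hiso g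
    have h6 := hquot Z hZ1 (QuotientGroup.mk g)
    have h7 : g * x * g⁻¹ * x⁻¹ ∈ M := by
      rw [hM, Subgroup.mem_comap]
      simpa using h6
    have h8 : g * x * g⁻¹ * x⁻¹ ∈ N := (Subgroup.zpowers_le.mpr z.2 : Z ≤ N) (hMZ h7)
    have h9 := hcen _ h8 x
    show x * (g * x * g⁻¹) = g * x * g⁻¹ * x
    calc x * (g * x * g⁻¹) = x * (g * x * g⁻¹ * x⁻¹) * x := by group
      _ = g * x * g⁻¹ * x⁻¹ * x * x := by rw [h9]
      _ = g * x * g⁻¹ * x := by group
  · have hCn : (centralizer (N : Set G)).Normal := Subgroup.normal_centralizer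
    have h2 := commute_of_inZStar hcore x (centralizer (N : Set G)) (centralizer (N : Set G)) le_rfl
      hxC (hmin _ hxC hC)
    apply hnz
    apply inZStar_of_central
    intro g
    apply hiso g
    have h3 := h2 (g * x * g⁻¹) (hCn.conj_mem x hxC g)
    rw [mul_inv_eq_iff_eq_mul] at h3
    exact h3.symm

end H55.ZStarMin
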